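import Cfsg.Agent.Lib.Components.Spider.Main

/-!
# The six arm relations
-/

set_option autoImplicit false
set_option linter.all false

noncomputable section

namespace Cfsg.Agent.Spider

open Cfsg.Agent.CosetCert

/-- Rotations of a word. -/
def rots (l : List ℕ) : ℕ → List (List ℕ)
  | 0 => []
  | k + 1 => (l.drop k ++ l.take k) :: rots l k

def extras : List (List ℕ) :=
  [([12] ++ zW) ++ ([12] ++ zW), (zW ++ [12]) ++ (zW ++ [12]),
    ([4] ++ zW) ++ ([4] ++ zW) ++ ([4] ++ zW), (zW ++ [4]) ++ (zW ++ [4]) ++ (zW ++ [4])]

section

variable {A : Type*} [Group A] {g : ℕ → A}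

theorem rots_one {l : List ℕ} (h : wprod g l = 1) : ∀ k, ∀ w ∈ rots l k, wprod g w = 1
  | 0, w, hw => by simp [rots] at hw
  | k + 1, w, hw => by
    rw [rots, List.mem_cons] at hw
    rcases hw with rfl | hw
    · rw [wprod_append]
      rw [← List.take_append_drop k l, wprod_append] at h
      exact mul_eq_one_comm.mp h
    · exact rots_one h k w hw

variable (hinv : ∀ x, g x * g x = 1) (hcox : ∀ w ∈ coxWords, wprod g w = 1) (hsp : wprod g spW = 1)
include hinv hcox hsp

/-- The product of `z` and `e₁` has order three. -/
theorem z_e1 : wprod g zeW = 1 := by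
  have h := faithful2.goal_eq_one g hinv (Ce.cert.W.map (mapWord Ce.gens))
    (rel_of_allIn (V := coxWords ++ [zdW]) (by decide +kernel) (fun w hw => by
      rcases List.mem_append.mp hw with hw | hw
      · exact hcox w hw
      · rw [List.mem_singleton.mp hw]; exact z_d2 hinv hcox hsp))
    (by decide +kernel) (by decide +kernel) Ce.goal Ce.ok Ce.goal_ok (by decide +kernel) (by decide +kernel)
    [] (by decide +kernel) (by decide +kernel)
  rwa [List.append_nil, ce_word] at h

theorem extras_one : ∀ w ∈ extras, wprod g w = 1 := by
  have hz : wprod g zW * wprod g zW = 1 := sq_of_e7 hinv hcox (by decide +kernel)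
  have hc : Commute (wprod g zW) (g 12) := z_c3 hinv hcox hsp
  have h2 : wprod g (([12] ++ zW) ++ ([12] ++ zW)) = 1 := by
    simp only [wprod_append, wprod, one_mul]
    calc wprod g zW * g 12 * (wprod g zW * g 12) = wprod g zW * (g 12 * wprod g zW) * g 12 := by
          simp only [mul_assoc]
      _ = wprod g zW * (wprod g zW * g 12) * g 12 := by rw [hc.eq]
      _ = (wprod g zW * wprod g zW) * (g 12 * g 12) := by simp only [mul_assoc]
      _ = 1 := by rw [hz, hinv, one_mul]
  have h3 : wprod g zeW = 1 := z_e1 hinv hcox hsp
  intro w hw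
  simp only [extras, List.mem_cons, List.not_mem_nil, or_false] at hw
  rcases hw with rfl | rfl | rfl | rfl
  · exact h2
  · refine rots_one h2 (1 + 1) _ ?_
    simp [rots]
  · exact h3
  · refine rots_one h3 (1 + 1) _ ?_
    simp [rots, zeW]

/-- `f₁ = z`. -/
theorem f1_eq : g 5 = wprod g zW := by
  have h := Ef.goal.retract g Ef.ok Ef.goal_ok 5 zW hinv (sq_of_e7 hinv hcox (by decide +kernel))
    (mem_map_rel (rel_of_allIn (V := coxWords ++ [spW, zeW]) (by decide +kernel) (fun w hw => by
      rcases List.mem_append.mp hw with hw | hw
      · exact hcox w hw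
      · rcases List.mem_cons.mp hw with rfl | hw
        · exact hsp
        · rw [List.mem_singleton.mp hw]; exact z_e1 hinv hcox hsp)))
    (fun w hw => by
      have hc : ((Ef.cert.W.map fun u => substW 5 zW (mapWord Ef.gens u)).all fun u =>
          memList u (coxWords ++ [spW, zeW] ++ extras) || e7Triv u) = true := by decide +kernel
      have := List.all_eq_true.mp hc _ (List.mem_map.mpr ⟨w, hw, rfl⟩)
      rw [Bool.or_eq_true] at this
      rcases this with e | e
      · rcases List.mem_append.mp (memList_spec e) with e | e
        · rcases List.mem_append.mp e with e | e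
          · exact hcox _ e
          · rcases List.mem_cons.mp e with e | e
            · show wprod g (substW 5 zW (mapWord Ef.gens w)) = 1
              rw [e]; exact hsp
            · show wprod g (substW 5 zW (mapWord Ef.gens w)) = 1
              rw [List.mem_singleton.mp e]; exact z_e1 hinv hcox hsp
        · exact extras_one hinv hcox hsp _ e
      · exact e7_one hinv hcox e)
    (by decide +kernel)
  rw [ef_word] at h
  simpa [substW, wprod_append, wprod] using h.symm

/-- The same relation for any renaming of the arms. -/
theorem f_eq (P : List ℕ) (hP : allIn coxWords (coxWords.map (mapWord P)) = true)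
    (hPs : memList (mapWord P spW) (rots spW 90 ++ rots spsW 90) = true) :
    g (nthNat P 5) = wprod g (mapWord P zW) := by
  let g' : ℕ → A := fun x => g (nthNat P x)
  have hg' : ∀ w, wprod g' w = wprod g (mapWord P w) := fun w => (wprod_mapWord g P w).symm
  have h := f1_eq (g := g') (fun x => hinv _) (fun w hw => by
      rw [hg']
      exact rel_of_allIn hP hcox _ (List.mem_map.mpr ⟨w, hw, rfl⟩))
    (by
      rw [hg']
      rcases List.mem_append.mp (memList_spec hPs) with e | e
      · exact rots_one hsp 90 _ e
      · exact rots_one (sps hinv hcox hsp) 90 _ e)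
  rwa [hg'] at h

end

end Cfsg.Agent.Spider
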