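import Cfsg.Agent.Lib.CosetCert.Finish

/-!
# Consequences of relators read off coset certificates

A certificate gives membership of a word in a subgroup; applied t₀ a product group it gives identities between
words, either through a second substitution of the generators or through a permutation model.
-/

set_option autoImplicit false
set_option linter.all false

noncomputable section

namespace Cfsg.Agent.Spider

open CosetCert

/-- A certificate together with its local letters and a walk that closes at the base coset. -/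
structure Goal where
  C : Cert
  gens : List ℕ
  sub : List ℕ
  body : ℕ
  len : ℕ
  word : List ℕ

/-- The certificate is sound. -/
structure CertOK (C : Cert) (gens sub : List ℕ) : Prop where
  start : fM (C.F.get 0) = 1
  steps : ∀ i < C.N, stepOK C i = true
  subW : (C.S.map (mapWord gens) == sub.map fun j => [j]) = true

def goalOK (P : Goal) : Bool :=
  match walk P.C.K P.C.F P.C.N P.len P.body 0 with
  | none => false
  | some (c, w, _) => Nat.beq c 0 && beqList (mapWord P.gens w) P.word

section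

variable {G : Type*} [Group G] (g : ℕ → G) {C : Cert} {gens sub : List ℕ}

theorem sub_words (hC : CertOK C gens sub) : C.S.map (mapWord gens) = sub.map fun j => [j] := by
  simpa using hC.subW

theorem exists_q (hC : CertOK C gens sub) (hinv : ∀ x, g x * g x = 1)
    (hW : ∀ w ∈ C.W, wprod g (mapWord gens w) = 1) :
    let H := Subgroup.closure (g '' {x | x ∈ sub})
    ∃ q : ℕ → G ⧸ H, q 0 = QuotientGroup.mk 1 ∧
      ∀ j < C.N, Valid (fun x => g (nthNat gens x)) C q (C.F.get j) := by
  intro H
  refine exists_naming _ C _ ⟨fun x => hinv _, fun w hw p => ?_, fun w hw => ?_⟩ hC.start hC.steps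
  · rw [act_eq_wprod, ← wprod_mapWord, hW w hw, one_smul]
  · have hm : mapWord gens w ∈ sub.map fun j => [j] := sub_words hC ▸ List.mem_map.mpr ⟨w, hw, rfl⟩
    obtain ⟨j, hj, e⟩ := List.mem_map.mp hm
    rw [act_eq_wprod, MulAction.Quotient.smul_mk, smul_eq_mul, mul_one, QuotientGroup.eq, mul_one,
      inv_mem_iff, ← wprod_mapWord, ← e]
    show 1 * g j ∈ H
    rw [one_mul]
    exact Subgroup.subset_closure ⟨j, hj, rfl⟩

/-- The word of a certified walk lies in the subgroup. -/
theorem Goal.mem (P : Goal) (hC : CertOK P.C P.gens P.sub) (hgoal : goalOK P = true)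
    (hinv : ∀ x, g x * g x = 1) (hW : ∀ w ∈ P.C.W, wprod g (mapWord P.gens w) = 1) :
    wprod g P.word ∈ Subgroup.closure (g '' {x | x ∈ P.sub}) := by
  obtain ⟨q, hq0, hq⟩ := exists_q g hC hinv hW
  unfold goalOK at hgoal
  split at hgoal
  · exact absurd hgoal (by simp)
  · next c w b hw =>
    simp only [Bool.and_eq_true] at hgoal
    have e := walk_sound (fun x => g (nthNat P.gens x)) P.C q (fun x => hinv _) hq _ _ _ hw
    rw [Nat.eq_of_beq_eq_true hgoal.1, act_eq_wprod, hq0, ← wprod_mapWord, beqList_iff hgoal.2,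
      MulAction.Quotient.smul_mk, smul_eq_mul, mul_one, QuotientGroup.eq, mul_one, inv_mem_iff] at e
    exact e

/-- Replace the letter `r` by the word `t₀`. -/
def substW (r : ℕ) (t₀ : List ℕ) : List ℕ → List ℕ
  | [] => []
  | y :: w => cond (Nat.beq y r) (t₀ ++ substW r t₀ w) (y :: substW r t₀ w)

theorem wprod_substW (r : ℕ) (t₀ : List ℕ) :
    ∀ w, wprod g (substW r t₀ w) = wprod (fun x => cond (Nat.beq x r) (wprod g t₀) (g x)) w
  | [] => rfl
  | y :: w => by
    rw [substW, wprod]
    cases h : Nat.beq y r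
    · simp only [cond_false, wprod, wprod_substW r t₀ w, h]
    · simp only [cond_true, wprod_append, wprod_substW r t₀ w, h]

theorem mapWord_nth (gens : List ℕ) : ∀ w, ∀ y ∈ mapWord gens w, ∃ x ∈ w, y = nthNat gens x
  | [], y, h => by simp [mapWord] at h
  | a :: w, y, h => by
    simp only [mapWord, List.mem_cons] at h
    rcases h with rfl | h
    · exact ⟨a, List.mem_cons_self, rfl⟩
    · obtain ⟨x, hx, e⟩ := mapWord_nth gens w y h
      exact ⟨x, List.mem_cons_of_mem _ hx, e⟩

/-- Two homomorphisms agreeing on the subgroup agree on the certified word. -/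
theorem Goal.retract (P : Goal) (hC : CertOK P.C P.gens P.sub) (hgoal : goalOK P = true)
    (r : ℕ) (t₀ : List ℕ) (hinv : ∀ x, g x * g x = 1) (hto : wprod g t₀ * wprod g t₀ = 1)
    (hW : ∀ w ∈ P.C.W, wprod g (mapWord P.gens w) = 1)
    (hW' : ∀ w ∈ P.C.W, wprod g (substW r t₀ (mapWord P.gens w)) = 1)
    (hr : P.sub.all (fun x => !Nat.beq x r) = true) :
    wprod g (substW r t₀ P.word) = wprod g P.word := by
  let g' : ℕ → G × G := fun x => (g x, cond (Nat.beq x r) (wprod g t₀) (g x))
  have hi : ∀ x, g' x * g' x = 1 := fun x => by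
    refine Prod.ext (hinv x) ?_
    show cond _ _ _ * cond _ _ _ = (1 : G)
    cases Nat.beq x r <;> simp [hto, hinv]
  have hfst : ∀ w, (wprod g' w).1 = wprod g w := fun w => map_wprod (MonoidHom.fst G G) g' w
  have hsnd : ∀ w, (wprod g' w).2 = wprod g (substW r t₀ w) := fun w => by
    rw [wprod_substW]; exact map_wprod (MonoidHom.snd G G) g' w
  have hmem := P.mem g' hC hgoal hi fun w hw =>
    Prod.ext ((hfst _).trans (hW w hw)) ((hsnd _).trans (hW' w hw))
  have hle : Subgroup.closure (g' '' {x | x ∈ P.sub}) ≤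
      MonoidHom.eqLocus (MonoidHom.fst G G) (MonoidHom.snd G G) := by
    rw [Subgroup.closure_le]
    rintro _ ⟨x, hx, rfl⟩
    have := List.all_eq_true.mp hr x hx
    simp only [Bool.not_eq_true'] at this
    show g x = cond (Nat.beq x r) (wprod g t₀) (g x)
    rw [this]; rfl
  calc wprod g (substW r t₀ P.word) = (wprod g' P.word).2 := (hsnd _).symm
    _ = (wprod g' P.word).1 := (hle hmem).symm
    _ = wprod g P.word := hfst _

end

/-! ### Permutation models and faithfulness through a chain -/

/-- A family of permutations of `0, …, n-1`, one tree for each of the letters `0, …, 15`. -/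
structure Model where
  n : ℕ
  T : List Tree

noncomputable def treeAt (l : List Tree) : ℕ → Tree :=
  List.rec (motive := fun _ => ℕ → Tree) (fun _ => Tree.leaf 0)
    (fun a _ ih i => Bool.rec (motive := fun _ => Tree) (ih (Nat.sub i 1)) a (Nat.beq i 0)) l

def Model.tab (M : Model) (x p : ℕ) : ℕ := cond (Nat.blt x 16) ((treeAt M.T x).get p) p

def Model.run (M : Model) : List ℕ → ℕ → ℕ
  | [], p => p
  | y :: w, p => M.run w (M.tab y p)

def pointOK (M : Model) (p : ℕ) : ℕ → Bool
  | 0 => true
  | x + 1 => Nat.blt (M.tab x p) M.n && Nat.beq (M.tab x (M.tab x p)) p && pointOK M p x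

def modelOK (M : Model) : ℕ → Bool
  | 0 => true
  | p + 1 => pointOK M p 16 && modelOK M p

def wordFix (M : Model) (w : List ℕ) : ℕ → Bool
  | 0 => true
  | p + 1 => Nat.beq (M.run w p) p && wordFix M w p

def wordsFix (M : Model) : List (List ℕ) → Bool
  | [] => true
  | w :: l => wordFix M w M.n && wordsFix M l

theorem pointOK_spec {M : Model} {p : ℕ} : ∀ K, pointOK M p K = true → ∀ x < K,
    M.tab x p < M.n ∧ M.tab x (M.tab x p) = p
  | 0, _, x, hx => absurd hx (by omega)
  | K + 1, h, x, hx => by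
    simp only [pointOK, Bool.and_eq_true] at h
    rcases Nat.lt_succ_iff_lt_or_eq.mp hx with e | rfl
    · exact pointOK_spec K h.2 x e
    · exact ⟨by simpa [Nat.blt] using h.1.1, Nat.eq_of_beq_eq_true h.1.2⟩

theorem modelOK_spec {M : Model} : ∀ k, modelOK M k = true → ∀ p < k, ∀ x,
    p < M.n → M.tab x p < M.n ∧ M.tab x (M.tab x p) = p
  | 0, _, p, hp => absurd hp (by omega)
  | k + 1, h, p, hp => by
    simp only [modelOK, Bool.and_eq_true] at h
    rcases Nat.lt_succ_iff_lt_or_eq.mp hp with e | rfl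
    · exact modelOK_spec k h.2 p e
    · intro x hpn
      rcases Nat.lt_or_ge x 16 with hx | hx
      · exact pointOK_spec 16 h.1 x hx
      · have : Nat.blt x 16 = false := by
          cases hb : Nat.blt x 16
          · rfl
          · simp [Nat.blt] at hb; omega
        simp [Model.tab, this, hpn]

theorem wordFix_spec {M : Model} {w : List ℕ} : ∀ k, wordFix M w k = true → ∀ p < k, M.run w p = p
  | 0, _, p, hp => absurd hp (by omega)
  | k + 1, h, p, hp => by
    simp only [wordFix, Bool.and_eq_true] at h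
    rcases Nat.lt_succ_iff_lt_or_eq.mp hp with e | rfl
    · exact wordFix_spec k h.2 p e
    · exact Nat.eq_of_beq_eq_true h.1

theorem wordsFix_spec {M : Model} : ∀ {l : List (List ℕ)}, wordsFix M l = true →
    ∀ w ∈ l, ∀ p < M.n, M.run w p = p
  | [], _, w, hw => by simp at hw
  | v :: l, h, w, hw => by
    simp only [wordsFix, Bool.and_eq_true] at h
    rcases List.mem_cons.mp hw with rfl | hw
    · exact wordFix_spec _ h.1
    · exact wordsFix_spec h.2 w hw

/-- The permutation of a letter. -/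
def Model.perm (M : Model) (h : modelOK M M.n = true) (x : ℕ) : Equiv.Perm (Fin M.n) :=
  Function.Involutive.toPerm (fun p => ⟨M.tab x p, (modelOK_spec _ h p p.2 x p.2).1⟩)
    (fun p => Fin.ext (modelOK_spec _ h p p.2 x p.2).2)

theorem Model.perm_val {M : Model} (h : modelOK M M.n = true) (x : ℕ) (p : Fin M.n) :
    (M.perm h x p : ℕ) = M.tab x p := rfl

theorem Model.perm_sq {M : Model} (h : modelOK M M.n = true) (x : ℕ) : M.perm h x * M.perm h x = 1 :=
  Equiv.ext fun p => Fin.ext (modelOK_spec _ h p p.2 x p.2).2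

theorem Model.wprod_perm {M : Model} (h : modelOK M M.n = true) :
    ∀ (w : List ℕ) (p : Fin M.n), (wprod (M.perm h) w p : ℕ) = M.run w p
  | [], p => rfl
  | y :: w, p => by
    rw [wprod, Equiv.Perm.mul_apply, Model.wprod_perm h w, Model.perm_val]
    rfl

theorem Model.wprod_perm_one {M : Model} (h : modelOK M M.n = true) {l : List (List ℕ)}
    (hl : wordsFix M l = true) {w : List ℕ} (hw : w ∈ l) : wprod (M.perm h) w = 1 :=
  Equiv.ext fun p => Fin.ext (by rw [Model.wprod_perm]; exact wordsFix_spec hl w hw p p.2)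

/-- One level of the chain: live cosets with the facts of their edges. -/
structure Level where
  C : Cert
  gens : List ℕ
  sub : List ℕ
  rows : List (ℕ × List ℕ)

noncomputable def memNat (a : ℕ) (l : List (ℕ × List ℕ)) : Bool :=
  List.rec (motive := fun _ => Bool) false (fun r _ ih => Nat.beq a r.1 || ih) l

theorem memNat_spec {a : ℕ} : ∀ {l : List (ℕ × List ℕ)}, memNat a l = true → ∃ r ∈ l, r.1 = a
  | [], h => by simp [memNat] at h
  | r :: l, h => by
    have h' : (Nat.beq a r.1 || memNat a l) = true := h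
    rw [Bool.or_eq_true] at h'
    rcases h' with h' | h'
    · exact ⟨r, List.mem_cons_self, (Nat.eq_of_beq_eq_true h').symm⟩
    · obtain ⟨s, hs, e⟩ := memNat_spec h'
      exact ⟨s, List.mem_cons_of_mem _ hs, e⟩

def edgesClosed (L : Level) (u : ℕ) : List ℕ → ℕ → Bool
  | [], x => Nat.beq x L.C.K
  | f :: fs, x => Nat.blt f L.C.N && Nat.beq (fX (L.C.F.get f)) x && Nat.blt x L.C.K &&
      ((Nat.beq (fU (L.C.F.get f)) u && memNat (fV (L.C.F.get f)) L.rows) ||
       (Nat.beq (fV (L.C.F.get f)) u && memNat (fU (L.C.F.get f)) L.rows)) && edgesClosed L u fs (x + 1)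

def levelOK (L : Level) : Bool :=
  Nat.blt 0 L.C.K && memNat 0 L.rows && (L.rows.all fun r => edgesClosed L r.1 r.2 0) && Nat.beq L.gens.length L.C.K

theorem edgesClosed_spec {L : Level} {u : ℕ} : ∀ (fs : List ℕ) (a : ℕ), edgesClosed L u fs a = true →
    ∀ x, a ≤ x → x < L.C.K → ∃ f < L.C.N, fX (L.C.F.get f) = x ∧
      ((fU (L.C.F.get f) = u ∧ ∃ r ∈ L.rows, r.1 = fV (L.C.F.get f)) ∨
       (fV (L.C.F.get f) = u ∧ ∃ r ∈ L.rows, r.1 = fU (L.C.F.get f)))
  | [], a, h, x, h1, h2 => by
    have := Nat.eq_of_beq_eq_true (show Nat.beq a L.C.K = true from h); omega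
  | f :: fs, a, h, x, h1, h2 => by
    simp only [edgesClosed, Bool.and_eq_true, Bool.or_eq_true] at h
    obtain ⟨⟨⟨⟨hf, hx⟩, -⟩, hcase⟩, hrest⟩ := h
    rcases Nat.eq_or_lt_of_le h1 with e | e
    · refine ⟨f, by simpa [Nat.blt] using hf, (Nat.eq_of_beq_eq_true hx).trans e, ?_⟩
      rcases hcase with ⟨p, q⟩ | ⟨p, q⟩
      · exact Or.inl ⟨Nat.eq_of_beq_eq_true p, memNat_spec q⟩
      · exact Or.inr ⟨Nat.eq_of_beq_eq_true p, memNat_spec q⟩
    · exact edgesClosed_spec fs (a + 1) hrest x e h2

/-- A point fixed by the subgroup together with its images under the named cosets. -/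
structure Mark where
  p : ℕ
  img : Tree

def defsOK (M : Model) (L : Level) (P : Mark) : ℕ → Bool
  | 0 => true
  | i + 1 => (!(Nat.beq (fKind (L.C.F.get i)) 0) ||
      Nat.beq (P.img.get (fV (L.C.F.get i))) (M.tab (nthNat L.gens (fX (L.C.F.get i))) (P.img.get (fU (L.C.F.get i)))))
      && defsOK M L P i

theorem defsOK_spec {M : Model} {L : Level} {P : Mark} : ∀ k, defsOK M L P k = true → ∀ i < k,
    fKind (L.C.F.get i) = 0 →
    P.img.get (fV (L.C.F.get i)) = M.tab (nthNat L.gens (fX (L.C.F.get i))) (P.img.get (fU (L.C.F.get i)))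
  | 0, _, i, hi => absurd hi (by omega)
  | k + 1, h, i, hi => by
    simp only [defsOK, Bool.and_eq_true, Bool.or_eq_true, Bool.not_eq_true'] at h
    rcases Nat.lt_succ_iff_lt_or_eq.mp hi with e | rfl
    · exact defsOK_spec k h.2 i e
    · intro hk
      rcases h.1 with h' | h'
      · rw [hk] at h'; simp at h'
      · exact Nat.eq_of_beq_eq_true h'

def markOK (M : Model) (L : Level) (P : Mark) : Bool :=
  Nat.blt P.p M.n && Nat.beq (P.img.get 0) P.p && (L.sub.all fun j => Nat.beq (M.tab j P.p) P.p) &&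
    defsOK M L P L.C.N && (L.rows.all fun r => Nat.beq r.1 0 || !Nat.beq (P.img.get r.1) P.p)

section

variable {G : Type*} [Group G] (g : ℕ → G) {M : Model} (hM : modelOK M M.n = true)

theorem cert_bounds {C : Cert} (hall : ∀ i < C.N, stepOK C i = true) (h0 : fM (C.F.get 0) = 1) :
    ∀ i < C.N, fKind (C.F.get i) = 0 → fU (C.F.get i) < fV (C.F.get i) := by
  intro i hi hk
  have h := hall i hi
  simp only [stepOK, Bool.and_eq_true] at h
  have h' := h.1
  simp only [ruleOK, hk, Bool.and_eq_true] at h'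
  have a : fU (C.F.get i) < fM (C.F.get i) := by simpa [Nat.blt] using h'.1.1
  have b := Nat.eq_of_beq_eq_true h'.1.2
  omega

theorem lt_named {C : Cert} (h0 : fM (C.F.get 0) = 1) (hall : ∀ i < C.N, stepOK C i = true) :
    ∀ i < C.N, ∀ m < fM (C.F.get i), m = 0 ∨ ∃ j < i, fKind (C.F.get j) = 0 ∧ fV (C.F.get j) = m := by
  intro i
  induction i with
  | zero => intro _ m hm; rw [h0] at hm; exact Or.inl (by omega)
  | succ i ih =>
    intro hi m hm
    have h := hall i (by omega)
    simp only [stepOK, Bool.and_eq_true, Bool.or_eq_true] at h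
    have hn : fM (C.F.get (i + 1)) = nextM (C.F.get i) := by
      rcases h.2 with e | e
      · have := Nat.eq_of_beq_eq_true e; omega
      · exact Nat.eq_of_beq_eq_true e
    rcases Nat.lt_or_ge m (fM (C.F.get i)) with hlt | hge
    · rcases ih (by omega) m hlt with e | ⟨j, hj, e⟩
      · exact Or.inl e
      · exact Or.inr ⟨j, by omega, e⟩
    · rw [hn, nextM] at hm
      cases hk : fKind (C.F.get i) with
      | zero =>
        refine Or.inr ⟨i, by omega, hk, ?_⟩
        rw [hk] at hm
        simp only [Nat.beq_refl, cond_true] at hm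
        have h' := h.1
        simp only [ruleOK, hk, Bool.and_eq_true] at h'
        have := Nat.eq_of_beq_eq_true h'.1.2
        omega
      | succ k =>
        rw [hk] at hm
        have hk' : Nat.beq (k + 1) 0 = false := rfl
        simp only [hk', cond_false] at hm
        omega

/-- Both ends of a fact are named. -/
theorem named_spec {C : Cert} (h0 : fM (C.F.get 0) = 1) (hall : ∀ i < C.N, stepOK C i = true) (i : ℕ)
    (hi : i < C.N) {u : ℕ} (hu : u = fU (C.F.get i) ∨ u = fV (C.F.get i)) :
    u = 0 ∨ ∃ j < C.N, fKind (C.F.get j) = 0 ∧ fV (C.F.get j) = u := by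
  have h := hall i hi
  simp only [stepOK, Bool.and_eq_true] at h
  have h' := h.1
  have key : u < fM (C.F.get i) ∨ (fKind (C.F.get i) = 0 ∧ fV (C.F.get i) = u) := by
    cases hk : fKind (C.F.get i) with
    | zero =>
      simp only [ruleOK, hk, Bool.and_eq_true] at h'
      rcases hu with rfl | rfl
      · exact Or.inl (by simpa [Nat.blt] using h'.1.1)
      · exact Or.inr ⟨rfl, rfl⟩
    | succ k =>
      simp only [ruleOK, hk, Bool.and_eq_true] at h'
      rcases hu with rfl | rfl
      · exact Or.inl (by simpa [Nat.blt] using h'.1.1.1)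
      · exact Or.inl (by simpa [Nat.blt] using h'.1.1.2)
  rcases key with e | e
  · rcases lt_named h0 hall i hi u e with e | ⟨j, hj, e⟩
    · exact Or.inl e
    · exact Or.inr ⟨j, by omega, e⟩
  · exact Or.inr ⟨i, hi, e⟩

/-- An element of the larger subgroup fixing the point lies in the smaller one. -/
theorem Level.descend (L : Level) (hC : CertOK L.C L.gens L.sub) (hL : levelOK L = true) (P : Mark)
    (hP : markOK M L P = true) (hinv : ∀ x, g x * g x = 1)
    (hW : ∀ w ∈ L.C.W, wprod g (mapWord L.gens w) = 1) (π : G →* Equiv.Perm (Fin M.n))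
    (hπ : ∀ x, π (g x) = M.perm hM x) {h : G} (hh : h ∈ Subgroup.closure (g '' {x | x ∈ L.gens}))
    (hfix : ∀ p : Fin M.n, (p : ℕ) = P.p → π h p = p) :
    h ∈ Subgroup.closure (g '' {x | x ∈ L.sub}) := by
  simp only [markOK, Bool.and_eq_true, List.all_eq_true] at hP
  obtain ⟨⟨⟨⟨hpn, hp0⟩, hsub⟩, hdefs⟩, hsep⟩ := hP
  simp only [levelOK, Bool.and_eq_true, List.all_eq_true] at hL
  obtain ⟨⟨⟨hKpos, h0⟩, hrows⟩, hlen⟩ := hL
  set H := Subgroup.closure (g '' {x | x ∈ L.sub}) with hH
  obtain ⟨q, hq0, hq⟩ : ∃ q : ℕ → G ⧸ H, q 0 = QuotientGroup.mk 1 ∧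
      ∀ j < L.C.N, Valid (fun x => g (nthNat L.gens x)) L.C q (L.C.F.get j) := exists_q g hC hinv hW
  let p₀ : Fin M.n := ⟨P.p, by simpa [Nat.blt] using hpn⟩
  have hHfix : ∀ k ∈ H, π k p₀ = p₀ := by
    intro k hk
    induction hk using Subgroup.closure_induction with
    | mem y hy =>
      obtain ⟨x, hx, rfl⟩ := hy
      rw [hπ]
      exact Fin.ext (Nat.eq_of_beq_eq_true (hsub x hx))
    | one => rw [map_one]; rfl
    | mul a b _ _ iha ihb => rw [map_mul, Equiv.Perm.mul_apply, ihb, iha]
    | inv a _ ih => rw [map_inv, Equiv.Perm.inv_eq_iff_eq, ih]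
  let f : G ⧸ H → Fin M.n := fun t => Quotient.liftOn' t (fun a => π a p₀) fun a b hab => by
    rw [QuotientGroup.leftRel_apply] at hab
    calc π a p₀ = π a (π (a⁻¹ * b) p₀) := by rw [hHfix _ hab]
      _ = π b p₀ := by rw [← Equiv.Perm.mul_apply, ← map_mul, mul_inv_cancel_left]
  have hf : ∀ (a : G) t, f (a • t) = π a (f t) := fun a t => QuotientGroup.induction_on t fun b => by
    show π (a * b) _ = π a (π b _)
    rw [map_mul]; rfl
  -- closure of the rows
  have hclosed : ∀ u, (∃ r ∈ L.rows, r.1 = u) → ∀ x < L.C.K,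
      ∃ v, (∃ r ∈ L.rows, r.1 = v) ∧ g (nthNat L.gens x) • q u = q v := by
    rintro u ⟨r, hr, rfl⟩ x hx
    obtain ⟨i, hi, hix, hcase⟩ := edgesClosed_spec _ _ (hrows r hr) x (Nat.zero_le x) hx
    have hv := hq i hi
    have he : Nat.beq x L.C.K = false := by
      cases he : Nat.beq x L.C.K
      · rfl
      · exact absurd (Nat.eq_of_beq_eq_true he) (by omega)
    unfold Valid at hv
    rw [hix] at hv
    simp only [consLetter, he, cond_false, act] at hv
    rcases hcase with ⟨a, b⟩ | ⟨a, b⟩
    · exact ⟨_, b, by rw [a] at hv; exact hv⟩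
    · exact ⟨_, b, by rw [← a, ← hv, ← mul_smul, hinv, one_smul]⟩
  have horb : ∀ k ∈ Subgroup.closure (g '' {x | x ∈ L.gens}), ∀ u, (∃ r ∈ L.rows, r.1 = u) →
      (∃ v, (∃ r ∈ L.rows, r.1 = v) ∧ k • q u = q v) ∧
      (∃ v, (∃ r ∈ L.rows, r.1 = v) ∧ k⁻¹ • q u = q v) := by
    intro k hk
    induction hk using Subgroup.closure_induction with
    | mem y hy =>
      obtain ⟨x, hx, rfl⟩ := hy
      obtain ⟨i, hi, rfl⟩ := exists_nthNat hx
      intro u hu
      obtain ⟨v, hv, e⟩ := hclosed u hu i (Nat.eq_of_beq_eq_true hlen ▸ hi)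
      refine ⟨⟨v, hv, e⟩, ⟨v, hv, ?_⟩⟩
      rw [inv_eq_of_mul_eq_one_right (hinv _), e]
    | one => intro u hu; exact ⟨⟨u, hu, one_smul _ _⟩, ⟨u, hu, by rw [inv_one, one_smul]⟩⟩
    | mul a b _ _ iha ihb =>
      intro u hu
      constructor
      · obtain ⟨v, hv, e⟩ := (ihb u hu).1
        obtain ⟨w, hw, e'⟩ := (iha v hv).1
        exact ⟨w, hw, by rw [mul_smul, e, e']⟩
      · obtain ⟨v, hv, e⟩ := (iha u hu).2
        obtain ⟨w, hw, e'⟩ := (ihb v hv).2
        exact ⟨w, hw, by rw [mul_inv_rev, mul_smul, e, e']⟩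
    | inv a _ ih => intro u hu; exact ⟨(ih u hu).2, by rw [inv_inv]; exact (ih u hu).1⟩
  obtain ⟨v, ⟨r, hr, rfl⟩, e⟩ := (horb h hh 0 (memNat_spec h0)).1
  -- images of the named cosets
  have himg : ∀ i < L.C.N, fKind (L.C.F.get i) = 0 →
      (f (q (fU (L.C.F.get i))) : ℕ) = P.img.get (fU (L.C.F.get i)) →
      (f (q (fV (L.C.F.get i))) : ℕ) = P.img.get (fV (L.C.F.get i)) := by
    intro i hi hk hu
    have hx : fX (L.C.F.get i) < L.C.K := by
      have h := hC.steps i hi
      simp only [stepOK, ruleOK, hk, Bool.and_eq_true] at h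
      simpa [Nat.blt] using h.1.2
    have he : Nat.beq (fX (L.C.F.get i)) L.C.K = false := by
      cases he : Nat.beq (fX (L.C.F.get i)) L.C.K
      · rfl
      · exact absurd (Nat.eq_of_beq_eq_true he) (by omega)
    have hv := hq i hi
    unfold Valid at hv
    simp only [consLetter, he, cond_false, act] at hv
    rw [← hv, hf, hπ, Model.perm_val, hu, defsOK_spec _ hdefs i hi hk]
  have hall : ∀ u, u = 0 ∨ (∃ i < L.C.N, fKind (L.C.F.get i) = 0 ∧ fV (L.C.F.get i) = u) →
      (f (q u) : ℕ) = P.img.get u := by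
    intro u
    induction u using Nat.strong_induction_on with
    | _ u ih =>
      rintro (rfl | ⟨i, hi, hk, rfl⟩)
      · rw [hq0]
        show (π 1 p₀ : ℕ) = _
        rw [map_one, Nat.eq_of_beq_eq_true hp0]; rfl
      · refine himg i hi hk (ih _ (cert_bounds hC.steps hC.start i hi hk) ?_)
        exact named_spec hC.start hC.steps i hi (Or.inl rfl)
  -- every row is a named coset
  have hrow : r.1 = 0 ∨ (∃ i < L.C.N, fKind (L.C.F.get i) = 0 ∧ fV (L.C.F.get i) = r.1) := by
    have hK : 0 < L.C.K := Nat.le_of_ble_eq_true hKpos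
    obtain ⟨i, hi, -, hcase⟩ := edgesClosed_spec _ _ (hrows r hr) 0 le_rfl hK
    exact named_spec hC.start hC.steps i hi (hcase.elim (fun c => Or.inl c.1.symm) fun c => Or.inr c.1.symm)
  have e2 : π h p₀ = f (q r.1) := by
    rw [← e, hf, hq0]
    show π h p₀ = π h (π 1 p₀)
    rw [map_one]; rfl
  have hr0 : r.1 = 0 := by
    rcases Nat.eq_zero_or_pos r.1 with h' | h'
    · exact h'
    · exfalso
      have h1 := hsep r hr
      simp only [Bool.or_eq_true, Bool.not_eq_true'] at h1
      rcases h1 with h1 | h1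
      · exact absurd (Nat.eq_of_beq_eq_true h1) (by omega)
      · have h2 := congrArg Fin.val e2
        rw [hfix p₀ rfl, hall r.1 hrow] at h2
        rw [← h2] at h1
        simp [p₀] at h1
  rw [hr0, hq0, MulAction.Quotient.smul_mk, smul_eq_mul, mul_one, QuotientGroup.eq, mul_one,
    inv_mem_iff] at e
  exact e

end

end Cfsg.Agent.Spider
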