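import Cfsg.Agent.Lib.Components.Spider.Base

/-!
# Words decided by a permutation model

The chain of levels shows that the subgroup generated by the letters of the first level maps faithfully.
-/

set_option autoImplicit false
set_option linter.all false

noncomputable section

namespace Cfsg.Agent.Spider

open CosetCert

/-- Each level starts where the previous one stops and the last one stops at the trivial subgroup. -/
def linked : List ℕ → List (Level × Mark) → Bool
  | start, [] => start.isEmpty
  | start, (L, _) :: rest => beqList L.gens start && linked L.sub rest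

def marksFixed (M : Model) (w : List ℕ) : List (Level × Mark) → Bool
  | [] => true
  | (_, P) :: rest => Nat.beq (M.run w P.p) P.p && marksFixed M w rest

/-- A model together with a chain for the letters `start`. -/
structure Faithful (M : Model) (start : List ℕ) (ch : List (Level × Mark)) : Prop where
  model : modelOK M M.n = true
  linked : linked start ch = true
  certs : ∀ e ∈ ch, CertOK e.1.C e.1.gens e.1.sub ∧ levelOK e.1 = true ∧ markOK M e.1 e.2 = true

section

variable {G : Type*} [Group G]

theorem mem_closure_wprod (g : ℕ → G) (S : List ℕ) :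
    ∀ w : List ℕ, (∀ y ∈ w, y ∈ S) → wprod g w ∈ Subgroup.closure (g '' {x | x ∈ S})
  | [], _ => one_mem _
  | y :: w, h => by
    rw [wprod]
    exact mul_mem (mem_closure_wprod g S w fun z hz => h z (List.mem_cons_of_mem _ hz))
      (Subgroup.subset_closure ⟨y, h y List.mem_cons_self, rfl⟩)

theorem eq_one_of_marks (g : ℕ → G) {M : Model} (hM : modelOK M M.n = true) (hinv : ∀ x, g x * g x = 1)
    (π : G →* Equiv.Perm (Fin M.n)) (hπ : ∀ x, π (g x) = M.perm hM x) :
    ∀ (ch : List (Level × Mark)) (start : List ℕ), linked start ch = true →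
      (∀ e ∈ ch, CertOK e.1.C e.1.gens e.1.sub ∧ levelOK e.1 = true ∧ markOK M e.1 e.2 = true) →
      (∀ e ∈ ch, ∀ w ∈ e.1.C.W, wprod g (mapWord e.1.gens w) = 1) →
      ∀ h ∈ Subgroup.closure (g '' {x | x ∈ start}),
        (∀ e ∈ ch, ∀ p : Fin M.n, (p : ℕ) = e.2.p → π h p = p) → h = 1
  | [], start, hl, _, _, h, hh, _ => by
    have : start = [] := by simpa [linked] using hl
    subst this
    simpa [Subgroup.mem_bot] using hh
  | (L, P) :: rest, start, hl, hc, hW, h, hh, hfix => by
    simp only [linked, Bool.and_eq_true] at hl
    obtain rfl := beqList_iff hl.1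
    obtain ⟨c1, c2, c3⟩ := hc _ List.mem_cons_self
    have h' := L.descend g hM c1 c2 P c3 hinv (hW _ List.mem_cons_self) π hπ hh
      (hfix _ List.mem_cons_self)
    exact eq_one_of_marks g hM hinv π hπ rest L.sub hl.2 (fun e he => hc e (List.mem_cons_of_mem _ he))
      (fun e he => hW e (List.mem_cons_of_mem _ he)) h h' (fun e he => hfix e (List.mem_cons_of_mem _ he))

theorem marksFixed_spec {M : Model} {w : List ℕ} :
    ∀ {ch : List (Level × Mark)}, marksFixed M w ch = true → ∀ e ∈ ch, M.run w e.2.p = e.2.p
  | [], _, e, he => by simp at he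
  | (L, P) :: rest, h, e, he => by
    simp only [marksFixed, Bool.and_eq_true] at h
    rcases List.mem_cons.mp he with rfl | he
    · exact Nat.eq_of_beq_eq_true h.1
    · exact marksFixed_spec h.2 e he

/-- Every relator of the chain is one of the words of `V`. -/
def chainIn (V : List (List ℕ)) (ch : List (Level × Mark)) : Bool :=
  ch.all fun e => wordsIn e.1.gens V e.1.C.W

def lettersIn (w S : List ℕ) : Bool := w.all fun y => S.contains y

theorem lettersIn_spec {w S : List ℕ} (h : lettersIn w S = true) : ∀ y ∈ w, y ∈ S := by
  simpa [lettersIn] using h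

/-- A word in the letters of the chain that fixes the marks is trivial. -/
theorem Faithful.word_eq_one {M : Model} {start : List ℕ} {ch : List (Level × Mark)}
    (F : Faithful M start ch) (g : ℕ → G) (hinv : ∀ x, g x * g x = 1) (V : List (List ℕ))
    (hV : ∀ w ∈ V, wprod g w = 1) (hch : chainIn V ch = true) (hMV : wordsFix M V = true) {w : List ℕ}
    (hlet : lettersIn w start = true) (hw : marksFixed M w ch = true) : wprod g w = 1 := by
  let g' : ℕ → G × Equiv.Perm (Fin M.n) := fun x => (g x, M.perm F.model x)
  have hi : ∀ x, g' x * g' x = 1 := fun x => Prod.ext (hinv x) (Model.perm_sq F.model x)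
  have hfst : ∀ u, (wprod g' u).1 = wprod g u := fun u => map_wprod (MonoidHom.fst _ _) g' u
  have hsnd : ∀ u, (wprod g' u).2 = wprod (M.perm F.model) u := fun u => map_wprod (MonoidHom.snd _ _) g' u
  have := eq_one_of_marks g' F.model hi (MonoidHom.snd _ _) (fun x => rfl) ch start F.linked F.certs
    (fun e he u hu => by
      have hm := wordsIn_spec (List.all_eq_true.mp hch e he) u hu
      exact Prod.ext ((hfst _).trans (hV _ hm)) ((hsnd _).trans (Model.wprod_perm_one F.model hMV hm)))
    (wprod g' w) (mem_closure_wprod g' start w (lettersIn_spec hlet)) (fun e he p hp => by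
      show (wprod g' w).2 p = p
      rw [hsnd]
      exact Fin.ext (by rw [Model.wprod_perm, hp]; exact marksFixed_spec hw e he))
  rw [← hfst, this]
  rfl

/-- A certified word times a word of the chain, acting trivially on the marks, is trivial. -/
theorem Faithful.goal_eq_one {M : Model} {start : List ℕ} {ch : List (Level × Mark)}
    (F : Faithful M start ch) (g : ℕ → G) (hinv : ∀ x, g x * g x = 1) (V : List (List ℕ))
    (hV : ∀ w ∈ V, wprod g w = 1) (hch : chainIn V ch = true) (hMV : wordsFix M V = true) (P : Goal)
    (hP : CertOK P.C P.gens P.sub) (hgoal : goalOK P = true) (hPV : wordsIn P.gens V P.C.W = true)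
    (hsub : beqList P.sub start = true) (tail : List ℕ) (hlet : lettersIn tail start = true)
    (hw : marksFixed M (P.word ++ tail) ch = true) : wprod g (P.word ++ tail) = 1 := by
  let g' : ℕ → G × Equiv.Perm (Fin M.n) := fun x => (g x, M.perm F.model x)
  have hi : ∀ x, g' x * g' x = 1 := fun x => Prod.ext (hinv x) (Model.perm_sq F.model x)
  have hfst : ∀ u, (wprod g' u).1 = wprod g u := fun u => map_wprod (MonoidHom.fst _ _) g' u
  have hsnd : ∀ u, (wprod g' u).2 = wprod (M.perm F.model) u := fun u => map_wprod (MonoidHom.snd _ _) g' u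
  have hrel : ∀ u ∈ V, wprod g' u = 1 := fun u hu =>
    Prod.ext ((hfst _).trans (hV u hu)) ((hsnd _).trans (Model.wprod_perm_one F.model hMV hu))
  have hmem := P.mem g' hP hgoal hi fun u hu => hrel _ (wordsIn_spec hPV u hu)
  rw [beqList_iff hsub] at hmem
  have := eq_one_of_marks g' F.model hi (MonoidHom.snd _ _) (fun x => rfl) ch start F.linked F.certs
    (fun e he u hu => hrel _ (wordsIn_spec (List.all_eq_true.mp hch e he) u hu))
    (wprod g' (P.word ++ tail))
    (by rw [wprod_append]; exact mul_mem (mem_closure_wprod g' start tail (lettersIn_spec hlet)) hmem)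
    (fun e he p hp => by
      show (wprod g' (P.word ++ tail)).2 p = p
      rw [hsnd]
      exact Fin.ext (by rw [Model.wprod_perm, hp]; exact marksFixed_spec hw e he))
  rw [← hfst, this]
  rfl

end

end Cfsg.Agent.Spider
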