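import Cfsg.Agent.Lib.Components.Spider.Chain

/-!
# Certificate data
-/

set_option autoImplicit false
set_option linter.all false

noncomputable section

namespace Cfsg.Agent.Spider.Level1

open Cfsg.Agent.CosetCert

noncomputable def facts0 : Tree :=
  (.node 63 (.node 31 (.node 15 (.node 7 (.node 3 (.node 1 (.leaf (nat_lit 0x1000000200000000000)) (.node 1 (.leaf (nat_lit 0x1000001210000000000)) (.leaf (nat_lit 0x1000002230000000000)))) (.node 2 (.node 1 (.leaf (nat_lit 0x1000003240000000000)) (.leaf (nat_lit 0x1000004250000000000))) (.node 1 (.leaf (nat_lit 0x1000000020000100000)) (.leaf (nat_lit 0x5000000000500002030307100000100001))))) (.node 4 (.node 2 (.node 1 (.leaf (nat_lit 0x500002000050000203000f130000100001)) (.leaf (nat_lit 0x5000030000500002030010140000100001))) (.node 1 (.leaf (nat_lit 0x5000040000500002030011150000100001)) (.leaf (nat_lit 0x2000000010000200001)))) (.node 2 (.node 1 (.leaf (nat_lit 0xa000070000a0000303000c130000200002)) (.leaf (nat_lit 0xa000080000a0000303000d140000200002)))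 (.node 1 (.leaf (nat_lit 0xa000090000a0000303000e150000200002)) (.leaf (nat_lit 0xa0000500001000050000a0000305000b120000200002)))))) (.node 8 (.node 4 (.node 2 (.node 1 (.leaf (nat_lit 0x3000000000000300002)) (.leaf (nat_lit 0xf0000e0000f00004030007120000300003))) (.node 1 (.leaf (nat_lit 0xf0000c0000f00004030009140000300003)) (.leaf (nat_lit 0xf0000a000060000a0000f00004050006110000300003)))) (.node 2 (.node 1 (.leaf (nat_lit 0x4000000030000400003)) (.leaf (nat_lit 0x1300012000130000503030c110000400004))) (.node 1 (.leaf (nat_lit 0x1300010000130000503030f120000400004)) (.leaf (nat_lit 0x130000f0000b0000f0001300005050508100000400004))))) (.node 4 (.node 2 (.node 1 (.leaf (nat_lit 0x5000000050000500003)) (.leaf (nat_lit 0x1700012000170000603030e110000500005))) (.node 1 (.leaf (nat_lit 0x17000100001700006030311120000500005)) (.leaf (nat_lit 0x17000110001700006030314140000500005)))) (.node 2 (.node 1 (.leaf (nat_lit 0x170000f0000d0000f000170000605050a100000500005)) (.leaf (nat_lit 0x6000000040000600004)))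 (.node 1 (.leaf (nat_lit 0x1c000160001c00007030309100000600006)) (.leaf (nat_lit 0x1c000140001c0000703030d110000600006))))))) (.node 16 (.node 8 (.node 4 (.node 2 (.node 1 (.leaf (nat_lit 0x1c000150001c00007030310120000600006)) (.leaf (nat_lit 0x1c0001300011000130001c00007050512130000600006))) (.node 1 (.leaf (nat_lit 0x7000000050000700004)) (.leaf (nat_lit 0x2100014000210000803030e110000700007)))) (.node 2 (.node 1 (.leaf (nat_lit 0x21000150002100008030311120000700007)) (.leaf (nat_lit 0x17000130002100008030313130000500007))) (.node 1 (.leaf (nat_lit 0x8000000050000800006)) (.leaf (nat_lit 0x250001e000250000903030e110000800008))))) (.node 4 (.node 2 (.node 1 (.leaf (nat_lit 0x250001f0002500009030311120000800008)) (.leaf (nat_lit 0x25000200002500009030313130000800008))) (.node 1 (.leaf (nat_lit 0x210001c0002500009030314140000700008)) (.leaf (nat_lit 0x9000000000000900007)))) (.node 2 (.node 1 (.leaf (nat_lit 0x2a000230002a0000a030007120000900009)) (.leaf (nat_lit 0x2a000240001b000240002a0000a050008130000900009)))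 (.node 1 (.leaf (nat_lit 0x2a0002100016000210002a0000a05000a150000900009)) (.leaf (nat_lit 0xa000000000000a00008)))))) (.node 8 (.node 4 (.node 2 (.node 1 (.leaf (nat_lit 0x2e000270002e0000b030007120000a0000a)) (.leaf (nat_lit 0x2a000290002e0000b03000914000090000a))) (.node 1 (.leaf (nat_lit 0x2e000250001d000250002e0000b05000a150000a0000a)) (.leaf (nat_lit 0xb000000010000b00009)))) (.node 2 (.node 1 (.leaf (nat_lit 0x320002c000320000c03000c130000b0000b)) (.leaf (nat_lit 0x320002d000320000c03000e150000b0000b))) (.node 1 (.leaf (nat_lit 0x320002a000220002a000320000c050506100000b0000b)) (.leaf (nat_lit 0xc000000010000c0000a))))) (.node 4 (.node 2 (.node 1 (.leaf (nat_lit 0x3200030000360000d03000d140000b0000c)) (.leaf (nat_lit 0x3600031000360000d03000e150000c0000c))) (.node 1 (.leaf (nat_lit 0x360002e000260002e000360000d050506100000c0000c)) (.leaf (nat_lit 0xd000000030000d0000a)))) (.node 2 (.node 1 (.leaf (nat_lit 0x3a0002f0003a0000e03030f120000d0000d)) (.leaf (nat_lit 0x3a000310003a0000e030013150000d0000d)))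 (.node 1 (.leaf (nat_lit 0x3a0002e000280002e0003a0000e050508100000d0000d)) (.leaf (nat_lit 0x3a000300002c000300003a0000e050012140000d0000d)))))))) (.node 31 (.node 15 (.node 7 (.node 3 (.node 1 (.leaf (nat_lit 0xe000000020000e0000b)) (.node 1 (.leaf (nat_lit 0x3f000350003f0000f030307100000e0000e)) (.leaf (nat_lit 0x3f000330003f0000f03000f130000e0000e)))) (.node 2 (.node 1 (.leaf (nat_lit 0x3f000340003f0000f030011150000e0000e)) (.leaf (nat_lit 0x3f000320002b000320003f0000f05050b110000e0000e))) (.node 1 (.leaf (nat_lit 0xf000000020000f0000c)) (.leaf (nat_lit 0x44000390004400010030307100000f0000f))))) (.node 4 (.node 2 (.node 1 (.leaf (nat_lit 0x3f000370004400010030010140000e0000f)) (.leaf (nat_lit 0x44000380004400010030011150000f0000f))) (.node 1 (.leaf (nat_lit 0x44000360002f00036000440001005050b110000f0000f)) (.leaf (nat_lit 0x1000000003000100000c)))) (.node 2 (.node 1 (.leaf (nat_lit 0x3a00036000490001103030c110000d00010)) (.leaf (nat_lit 0x49000380004900011030013150001000010))) (.node 1 (.leaf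 (nat_lit 0x490003700033000370004900011050012140001000010)) (.leaf (nat_lit 0x1100000003000110000f)))))) (.node 8 (.node 4 (.node 2 (.node 1 (.leaf (nat_lit 0x4d000480004d0001203030c110001100011)) (.leaf (nat_lit 0x49000440004d0001203030f120001000011))) (.node 1 (.leaf (nat_lit 0x4d000470004d00012030013150001100011)) (.leaf (nat_lit 0x4d0004600041000460004d00012050012140001100011)))) (.node 2 (.node 1 (.leaf (nat_lit 0x12000000000001200010)) (.leaf (nat_lit 0x520004c0005200013030009140001200012))) (.node 1 (.leaf (nat_lit 0x520004a0003d0004a0005200013050006110001200012)) (.leaf (nat_lit 0x520004900039000490005200013050008130001200012))))) (.node 4 (.node 2 (.node 1 (.leaf (nat_lit 0x13000000000001300011)) (.leaf (nat_lit 0x520004f0005600014030007120001200013))) (.node 1 (.leaf (nat_lit 0x56000510005600014030009140001300013)) (.leaf (nat_lit 0x560004d000450004d0005600014050008130001300013)))) (.node 2 (.node 1 (.leaf (nat_lit 0x14000000050001400012)) (.leaf (nat_lit 0x5a000540005a0001503030e110001400014)))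 (.node 1 (.leaf (nat_lit 0x5a000550005a00015030313130001400014)) (.leaf (nat_lit 0x5a000530005a00015030314140001400014))))))) (.node 16 (.node 8 (.node 4 (.node 2 (.node 1 (.leaf (nat_lit 0x5a000520004b000520005a0001505050a100001400014)) (.leaf (nat_lit 0x15000000010001500013))) (.node 1 (.leaf (nat_lit 0x5f000590005f0001603000c130001500015)) (.leaf (nat_lit 0x5f000580005f0001603000d140001500015)))) (.node 2 (.node 1 (.leaf (nat_lit 0x5f000560004e000560005f00016050506100001500015)) (.leaf (nat_lit 0x5f0005700054000570005f0001605000b120001500015))) (.node 1 (.leaf (nat_lit 0x16000000050001600013)) (.leaf (nat_lit 0x5a000570006400017030311120001400016))))) (.node 4 (.node 2 (.node 1 (.leaf (nat_lit 0x64000590006400017030313130001600016)) (.leaf (nat_lit 0x64000580006400017030314140001600016))) (.node 1 (.leaf (nat_lit 0x64000560005000056000640001705050a100001600016)) (.leaf (nat_lit 0x17000000050001700015)))) (.node 2 (.node 1 (.leaf (nat_lit 0x640005f000690001803030e110001600017)) (.leaf (nat_lit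 0x69000630006900018030311120001700017))) (.node 1 (.leaf (nat_lit 0x69000600006900018030313130001700017)) (.leaf (nat_lit 0x69000610006900018030314140001700017)))))) (.node 8 (.node 4 (.node 2 (.node 1 (.leaf (nat_lit 0x18000000000001800017)) (.leaf (nat_lit 0x6e0006b0006e00019030007120001800018))) (.node 1 (.leaf (nat_lit 0x6e0006d0006e00019030009140001800018)) (.leaf (nat_lit 0x6e0006a000680006a0006e00019050006110001800018)))) (.node 2 (.node 1 (.leaf (nat_lit 0x6e0006900062000690006e0001905000a150001800018)) (.leaf (nat_lit 0x19000000030001900018))) (.node 1 (.leaf (nat_lit 0x7300071000730001a03030c110001900019)) (.leaf (nat_lit 0x730006f000730001a03030f120001900019))))) (.node 4 (.node 2 (.node 1 (.leaf (nat_lit 0x7300072000730001a030013150001900019)) (.leaf (nat_lit 0x730006e0006c0006e000730001a050508100001900019))) (.node 1 (.leaf (nat_lit 0x1a000000040001a00019)) (.leaf (nat_lit 0x7800077000780001b030309100001a0001a)))) (.node 2 (.node 1 (.leaf (nat_lit 0x7800074000780001b03030d110001a0001a))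 (.leaf (nat_lit 0x7800075000780001b030310120001a0001a))) (.node 1 (.leaf (nat_lit 0x7800076000780001b030014150001a0001a)) (.leaf (nat_lit 0x78000730007000073000780001b050512130001a0001a)))))))))

noncomputable def facts : Tree :=
  facts0

def words : List (List ℕ) :=
  [[0, 0],
  [1, 1],
  [2, 2],
  [3, 3],
  [4, 4],
  [5, 5],
  [0, 1, 0, 1, 0, 1],
  [0, 2, 0, 2],
  [0, 3, 0, 3, 0, 3],
  [0, 4, 0, 4],
  [0, 5, 0, 5, 0, 5],
  [1, 2, 1, 2, 1, 2],
  [1, 3, 1, 3],
  [1, 4, 1, 4],
  [1, 5, 1, 5],
  [2, 3, 2, 3],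
  [2, 4, 2, 4],
  [2, 5, 2, 5],
  [3, 4, 3, 4, 3, 4],
  [3, 5, 3, 5],
  [4, 5, 4, 5]]

def cert : Cert := ⟨6, words, [[0],
  [1],
  [3],
  [4],
  [5]], facts, 126⟩

def gens : List ℕ := [0, 1, 2, 6, 7, 11]

def sub : List ℕ := [0, 1, 6, 7, 11]

def level : Level := ⟨cert, gens, sub, [
  (0, [0, 1, 5, 2, 3, 4]),
  (1, [6, 10, 5, 7, 8, 9]),
  (2, [15, 10, 14, 11, 12, 13]),
  (3, [15, 18, 16, 19, 17, 23]),
  (4, [22, 20, 21, 19, 28, 33]),
  (5, [27, 24, 25, 36, 26, 23]),
  (6, [29, 30, 31, 32, 28, 37]),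
  (7, [42, 34, 35, 36, 41, 33]),
  (8, [46, 38, 39, 40, 41, 37]),
  (9, [42, 50, 43, 44, 48, 45]),
  (10, [46, 54, 47, 58, 48, 49]),
  (11, [53, 50, 63, 51, 55, 52]),
  (12, [57, 54, 68, 73, 55, 56]),
  (13, [61, 74, 59, 58, 62, 60]),
  (14, [64, 67, 63, 65, 70, 66]),
  (15, [69, 72, 68, 77, 70, 71]),
  (16, [82, 74, 79, 73, 76, 75]),
  (17, [86, 78, 79, 77, 81, 80]),
  (18, [82, 84, 87, 85, 83, 90]),
  (19, [86, 95, 87, 89, 88, 100]),
  (20, [94, 91, 101, 92, 93, 90]),
  (21, [98, 95, 99, 96, 97, 105]),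
  (22, [104, 106, 101, 102, 103, 100]),
  (23, [110, 106, 107, 108, 109, 105]),
  (24, [110, 113, 111, 115, 112, 114]),
  (25, [119, 116, 117, 115, 120, 118]),
  (26, [121, 122, 123, 125, 120, 124])]⟩

noncomputable def imgM10 : Tree :=
  (.node 13 (.node 6 (.node 3 (.node 1 (.leaf (nat_lit 1)) (.node 1 (.leaf (nat_lit 2)) (.leaf (nat_lit 3)))) (.node 1 (.leaf (nat_lit 4)) (.node 1 (.leaf (nat_lit 5)) (.leaf (nat_lit 6))))) (.node 3 (.node 1 (.leaf (nat_lit 7)) (.node 1 (.leaf (nat_lit 8)) (.leaf (nat_lit 0xa)))) (.node 2 (.node 1 (.leaf (nat_lit 0xb)) (.leaf (nat_lit 0xd))) (.node 1 (.leaf (nat_lit 0xf)) (.leaf (nat_lit 0x11)))))) (.node 7 (.node 3 (.node 1 (.leaf (nat_lit 0x12)) (.node 1 (.leaf (nat_lit 0x14)) (.leaf (nat_lit 0x17)))) (.node 2 (.node 1 (.leaf (nat_lit 0x18)) (.leaf (nat_lit 0x20))) (.node 1 (.leaf (nat_lit 0x22)) (.leaf (nat_lit 0x2b))))) (.node 3 (.node 1 (.leaf (nat_lit 0x2e)) (.node 1 (.leaf (nat_lit 0x39)) (.leaf (nat_lit 0x3a)))) (.node 2 (.node 1 (.leaf (nat_lit 0x4c))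 (.leaf (nat_lit 0x65))) (.node 1 (.leaf (nat_lit 0x86)) (.leaf (nat_lit 0xaf)))))))

noncomputable def imgM1 : Tree :=
  imgM10

def markM1 : Mark := ⟨1, imgM1⟩

noncomputable def imgM20 : Tree :=
  (.node 13 (.node 6 (.node 3 (.node 1 (.leaf (nat_lit 1)) (.node 1 (.leaf (nat_lit 2)) (.leaf (nat_lit 4)))) (.node 1 (.leaf (nat_lit 6)) (.node 1 (.leaf (nat_lit 9)) (.leaf (nat_lit 0xa))))) (.node 3 (.node 1 (.leaf (nat_lit 0xd)) (.node 1 (.leaf (nat_lit 0xe)) (.leaf (nat_lit 0x13)))) (.node 2 (.node 1 (.leaf (nat_lit 0x16)) (.leaf (nat_lit 0x1b))) (.node 1 (.leaf (nat_lit 0x20)) (.leaf (nat_lit 0x26)))))) (.node 7 (.node 3 (.node 1 (.leaf (nat_lit 0x27)) (.node 1 (.leaf (nat_lit 0x2e)) (.leaf (nat_lit 0x34)))) (.node 2 (.node 1 (.leaf (nat_lit 0x35)) (.leaf (nat_lit 0x48))) (.node 1 (.leaf (nat_lit 0x4b)) (.leaf (nat_lit 0x5b))))) (.node 3 (.node 1 (.leaf (nat_lit 0x5f)) (.node 1 (.leaf (nat_lit 0x6f)) (.leaf (nat_lit 0x70)))) (.node 2 (.node 1 (.leaf (nat_lit 0x83)) (.leaf (nat_lit 0x99))) (.node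 1 (.leaf (nat_lit 0xae)) (.leaf (nat_lit 0xc4)))))))

noncomputable def imgM2 : Tree :=
  imgM20

def markM2 : Mark := ⟨1, imgM2⟩

theorem range0 : rangeOK cert 0 126 = true := by decide +kernel

theorem ok : CertOK cert gens sub where
  start := by decide +kernel
  steps := steps_add 0 126 (steps_zero cert) range0
  subW := by decide +kernel

theorem level_ok : levelOK level = true := by decide +kernel

end Cfsg.Agent.Spider.Level1
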