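import Cfsg.Agent.Lib.Components.Spider.Chain

/-!
# Certificate data
-/

set_option autoImplicit false
set_option linter.all false

noncomputable section

namespace Cfsg.Agent.Spider.Level2

open Cfsg.Agent.CosetCert

noncomputable def facts0 : Tree :=
  (.node 20 (.node 10 (.node 5 (.node 2 (.node 1 (.leaf (nat_lit 0x1000000200000000000)) (.leaf (nat_lit 0x1000001210000000000))) (.node 1 (.leaf (nat_lit 0x1000002220000000000)) (.node 1 (.leaf (nat_lit 0x1000003240000000000)) (.leaf (nat_lit 0x1000000030000100000))))) (.node 2 (.node 1 (.leaf (nat_lit 0x4000000000400002030307100000100001)) (.leaf (nat_lit 0x400001000040000203030a110000100001))) (.node 1 (.leaf (nat_lit 0x400003000040000203000e140000100001)) (.node 1 (.leaf (nat_lit 0x2000000020000200001)) (.leaf (nat_lit 0x8000060000800003030309110000200002)))))) (.node 5 (.node 2 (.node 1 (.leaf (nat_lit 0x800007000080000303000d140000200002)) (.leaf (nat_lit 0x8000040000200004000080000305000c130000200002))) (.node 1 (.leaf (nat_lit 0x3000000000000300002))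 (.node 1 (.leaf (nat_lit 0xc0000b0000c00004030007130000300003)) (.leaf (nat_lit 0xc0000800005000080000c00004050006120000300003))))) (.node 2 (.node 1 (.leaf (nat_lit 0x4000000010000400003)) (.leaf (nat_lit 0xf0000e0000f00005030009120000400004))) (.node 1 (.leaf (nat_lit 0xf0000d0000f0000503000a130000400004)) (.node 1 (.leaf (nat_lit 0xf0000c000090000c0000f00005050505100000400004)) (.leaf (nat_lit 0x5000000040000500003))))))) (.node 10 (.node 5 (.node 2 (.node 1 (.leaf (nat_lit 0x130000e000130000603030d120000500005)) (.leaf (nat_lit 0x130000d000130000603030e130000500005))) (.node 1 (.leaf (nat_lit 0x130000c0000a0000c0001300006050508100000500005)) (.node 1 (.leaf (nat_lit 0x6000000040000600004)) (.leaf (nat_lit 0x130000f000170000703030b110000500006))))) (.node 2 (.node 1 (.leaf (nat_lit 0x1700010000170000703030d120000600006)) (.leaf (nat_lit 0x1700011000170000703030e130000600006))) (.node 1 (.leaf (nat_lit 0x7000000000000700006)) (.node 1 (.leaf (nat_lit 0x1b0001a0001b00008030007130000700007))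 (.leaf (nat_lit 0x1b0001800016000180001b00008050005110000700007)))))) (.node 5 (.node 2 (.node 1 (.leaf (nat_lit 0x1b0001700012000170001b00008050008140000700007)) (.leaf (nat_lit 0x8000000020000800007))) (.node 1 (.leaf (nat_lit 0x1f0001d0001f00009030309110000800008)) (.node 1 (.leaf (nat_lit 0x1f0001e0001f0000903000d140000800008)) (.leaf (nat_lit 0x1f0001b000190001b0001f00009050506100000800008))))) (.node 2 (.node 1 (.leaf (nat_lit 0x9000000030000900008)) (.leaf (nat_lit 0x2300022000230000a030307100000900009))) (.node 1 (.leaf (nat_lit 0x2300020000230000a03030a110000900009)) (.node 1 (.leaf (nat_lit 0x2300021000230000a03000e140000900009)) (.leaf (nat_lit 0x230001f0001c0001f000230000a05050c120000900009))))))))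

noncomputable def facts : Tree :=
  facts0

def words : List (List ℕ) :=
  [[0, 0],
  [1, 1],
  [2, 2],
  [3, 3],
  [4, 4],
  [0, 1, 0, 1, 0, 1],
  [0, 2, 0, 2, 0, 2],
  [0, 3, 0, 3],
  [0, 4, 0, 4, 0, 4],
  [1, 2, 1, 2],
  [1, 3, 1, 3],
  [1, 4, 1, 4],
  [2, 3, 2, 3, 2, 3],
  [2, 4, 2, 4],
  [3, 4, 3, 4]]

def cert : Cert := ⟨5, words, [[0],
  [1],
  [2],
  [4]], facts, 40⟩

def gens : List ℕ := [0, 1, 6, 7, 11]

def sub : List ℕ := [0, 1, 6, 11]

def level : Level := ⟨cert, gens, sub, [
  (0, [0, 1, 2, 4, 3]),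
  (1, [5, 6, 8, 4, 7]),
  (2, [12, 9, 8, 11, 10]),
  (3, [12, 15, 14, 13, 19]),
  (4, [18, 15, 16, 17, 23]),
  (5, [22, 24, 20, 21, 19]),
  (6, [27, 24, 25, 26, 23]),
  (7, [27, 29, 31, 28, 30]),
  (8, [34, 32, 31, 35, 33]),
  (9, [36, 37, 39, 35, 38])]⟩

noncomputable def imgM10 : Tree :=
  (.node 5 (.node 2 (.node 1 (.leaf (nat_lit 0x14)) (.leaf (nat_lit 0x17))) (.node 1 (.leaf (nat_lit 0x20)) (.node 1 (.leaf (nat_lit 0x2b)) (.leaf (nat_lit 0x39))))) (.node 2 (.node 1 (.leaf (nat_lit 0x3a)) (.leaf (nat_lit 0x4c))) (.node 1 (.leaf (nat_lit 0x65)) (.node 1 (.leaf (nat_lit 0x86)) (.leaf (nat_lit 0xaf))))))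

noncomputable def imgM1 : Tree :=
  imgM10

def markM1 : Mark := ⟨20, imgM1⟩

noncomputable def imgM20 : Tree :=
  (.node 5 (.node 2 (.node 1 (.leaf (nat_lit 0x2e)) (.leaf (nat_lit 0x34))) (.node 1 (.leaf (nat_lit 0x48)) (.node 1 (.leaf (nat_lit 0x5b)) (.leaf (nat_lit 0x6f))))) (.node 2 (.node 1 (.leaf (nat_lit 0x70)) (.leaf (nat_lit 0x83))) (.node 1 (.leaf (nat_lit 0x99)) (.node 1 (.leaf (nat_lit 0xae)) (.leaf (nat_lit 0xc4))))))

noncomputable def imgM2 : Tree :=
  imgM20

def markM2 : Mark := ⟨46, imgM2⟩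

theorem range0 : rangeOK cert 0 40 = true := by decide +kernel

theorem ok : CertOK cert gens sub where
  start := by decide +kernel
  steps := steps_add 0 40 (steps_zero cert) range0
  subW := by decide +kernel

theorem level_ok : levelOK level = true := by decide +kernel

end Cfsg.Agent.Spider.Level2
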