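import Cfsg.Agent.Lib.Components.Spider.Chain

/-!
# Certificate data
-/

set_option autoImplicit false
set_option linter.all false

noncomputable section

namespace Cfsg.Agent.Spider.Level3

open Cfsg.Agent.CosetCert

noncomputable def facts0 : Tree :=
  (.node 12 (.node 6 (.node 3 (.node 1 (.leaf (nat_lit 0x1000000200000000000)) (.node 1 (.leaf (nat_lit 0x1000001210000000000)) (.leaf (nat_lit 0x1000002220000000000)))) (.node 1 (.leaf (nat_lit 0x1000000030000100000)) (.node 1 (.leaf (nat_lit 0x3000010000300002030308110000100001)) (.leaf (nat_lit 0x3000020000300002030309120000100001))))) (.node 3 (.node 1 (.leaf (nat_lit 0x2000000000000200001)) (.node 1 (.leaf (nat_lit 0x60000300000000030000600003050006130000200002)) (.leaf (nat_lit 0x3000000010000300002)))) (.node 1 (.leaf (nat_lit 0x8000070000800004030008130000300003)) (.node 1 (.leaf (nat_lit 0x80000600004000060000800004050504100000300003)) (.leaf (nat_lit 0x4000000020000400002)))))) (.node 6 (.node 3 (.node 1 (.leaf (nat_lit 0xb000070000b00005030009130000400004))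 (.node 1 (.leaf (nat_lit 0xb0000600005000060000b00005050505100000400004)) (.leaf (nat_lit 0x5000000020000500003)))) (.node 1 (.leaf (nat_lit 0xb000080000e00006030307110000400005)) (.node 1 (.leaf (nat_lit 0xe000090000e00006030009130000500005)) (.leaf (nat_lit 0x6000000000000600005))))) (.node 3 (.node 1 (.leaf (nat_lit 0x110000f0000d0000f0001100007050004110000600006)) (.node 1 (.leaf (nat_lit 0x110000e0000a0000e0001100007050005120000600006)) (.leaf (nat_lit 0x7000000030000700006)))) (.node 1 (.leaf (nat_lit 0x14000120001400008030308110000700007)) (.node 1 (.leaf (nat_lit 0x14000130001400008030309120000700007)) (.leaf (nat_lit 0x140001100010000110001400008050506100000700007)))))))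

noncomputable def facts : Tree :=
  facts0

def words : List (List ℕ) :=
  [[0, 0],
  [1, 1],
  [2, 2],
  [3, 3],
  [0, 1, 0, 1, 0, 1],
  [0, 2, 0, 2, 0, 2],
  [0, 3, 0, 3, 0, 3],
  [1, 2, 1, 2],
  [1, 3, 1, 3],
  [2, 3, 2, 3]]

def cert : Cert := ⟨4, words, [[0],
  [1],
  [2]], facts, 24⟩

def gens : List ℕ := [0, 1, 6, 11]

def sub : List ℕ := [0, 1, 6]

def level : Level := ⟨cert, gens, sub, [
  (0, [0, 1, 2, 3]),
  (1, [6, 4, 5, 3]),
  (2, [6, 8, 11, 7]),
  (3, [10, 8, 14, 9]),
  (4, [13, 15, 11, 12]),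
  (5, [17, 15, 14, 16]),
  (6, [17, 18, 19, 20]),
  (7, [23, 21, 22, 20])]⟩

noncomputable def imgM10 : Tree :=
  (.node 4 (.node 2 (.node 1 (.leaf (nat_lit 7)) (.leaf (nat_lit 0xa))) (.node 1 (.leaf (nat_lit 0xd)) (.leaf (nat_lit 0x11)))) (.node 2 (.node 1 (.leaf (nat_lit 0x12)) (.leaf (nat_lit 0x18))) (.node 1 (.leaf (nat_lit 0x22)) (.leaf (nat_lit 0x2e)))))

noncomputable def imgM1 : Tree :=
  imgM10

def markM1 : Mark := ⟨7, imgM1⟩

noncomputable def imgM20 : Tree :=
  (.node 4 (.node 2 (.node 1 (.leaf (nat_lit 0xd)) (.leaf (nat_lit 0x13))) (.node 1 (.leaf (nat_lit 0x1b)) (.leaf (nat_lit 0x26)))) (.node 2 (.node 1 (.leaf (nat_lit 0x27)) (.leaf (nat_lit 0x35))) (.node 1 (.leaf (nat_lit 0x4b)) (.leaf (nat_lit 0x5f)))))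

noncomputable def imgM2 : Tree :=
  imgM20

def markM2 : Mark := ⟨13, imgM2⟩

theorem range0 : rangeOK cert 0 24 = true := by decide +kernel

theorem ok : CertOK cert gens sub where
  start := by decide +kernel
  steps := steps_add 0 24 (steps_zero cert) range0
  subW := by decide +kernel

theorem level_ok : levelOK level = true := by decide +kernel

end Cfsg.Agent.Spider.Level3
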