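import Cfsg.Agent.Lib.Components.Spider.Chain

/-!
# Certificate data
-/

set_option autoImplicit false
set_option linter.all false

noncomputable section

namespace Cfsg.Agent.Spider.Level4

open Cfsg.Agent.CosetCert

noncomputable def facts0 : Tree :=
  (.node 4 (.node 2 (.node 1 (.leaf (nat_lit 0x1000000200000000000)) (.leaf (nat_lit 0x1000001210000000000))) (.node 1 (.leaf (nat_lit 0x1000000020000100000)) (.leaf (nat_lit 0x2000010000200002030305110000100001)))) (.node 2 (.node 1 (.leaf (nat_lit 0x2000000000000200001)) (.leaf (nat_lit 0x40000200000000020000400003050004120000200002))) (.node 1 (.leaf (nat_lit 0x3000000010000300002)) (.node 1 (.leaf (nat_lit 0x6000050000600004030005120000300003)) (.leaf (nat_lit 0x60000400003000040000600004050503100000300003))))))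

noncomputable def facts : Tree :=
  facts0

def words : List (List ℕ) :=
  [[0, 0],
  [1, 1],
  [2, 2],
  [0, 1, 0, 1, 0, 1],
  [0, 2, 0, 2, 0, 2],
  [1, 2, 1, 2]]

def cert : Cert := ⟨3, words, [[0],
  [1]], facts, 9⟩

def gens : List ℕ := [0, 1, 6]

def sub : List ℕ := [0, 1]

def level : Level := ⟨cert, gens, sub, [
  (0, [0, 1, 2]),
  (1, [4, 3, 2]),
  (2, [4, 6, 5]),
  (3, [8, 6, 7])]⟩

noncomputable def imgM10 : Tree :=
  (.node 2 (.node 1 (.leaf (nat_lit 5)) (.leaf (nat_lit 4))) (.node 1 (.leaf (nat_lit 3)) (.leaf (nat_lit 2))))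

noncomputable def imgM1 : Tree :=
  imgM10

def markM1 : Mark := ⟨5, imgM1⟩

noncomputable def imgM20 : Tree :=
  (.node 2 (.node 1 (.leaf (nat_lit 9)) (.leaf (nat_lit 6))) (.node 1 (.leaf (nat_lit 4)) (.leaf (nat_lit 2))))

noncomputable def imgM2 : Tree :=
  imgM20

def markM2 : Mark := ⟨9, imgM2⟩

theorem range0 : rangeOK cert 0 9 = true := by decide +kernel

theorem ok : CertOK cert gens sub where
  start := by decide +kernel
  steps := steps_add 0 9 (steps_zero cert) range0
  subW := by decide +kernel

theorem level_ok : levelOK level = true := by decide +kernel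

end Cfsg.Agent.Spider.Level4
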