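import Cfsg.Agent.Lib.Components.Spider.Chain

/-!
# Certificate data
-/

set_option autoImplicit false
set_option linter.all false

noncomputable section

namespace Cfsg.Agent.Spider.Level5

open Cfsg.Agent.CosetCert

noncomputable def facts0 : Tree :=
  (.node 2 (.node 1 (.leaf (nat_lit 0x1000000200000000000)) (.leaf (nat_lit 0x1000000010000100000))) (.node 1 (.leaf (nat_lit 0x2000000000000200001)) (.leaf (nat_lit 0x20000100000000010000200003050002110000200002))))

noncomputable def facts : Tree :=
  facts0

def words : List (List ℕ) :=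
  [[0, 0],
  [1, 1],
  [0, 1, 0, 1, 0, 1]]

def cert : Cert := ⟨2, words, [[0]], facts, 4⟩

def gens : List ℕ := [0, 1]

def sub : List ℕ := [0]

def level : Level := ⟨cert, gens, sub, [
  (0, [0, 1]),
  (1, [2, 1]),
  (2, [2, 3])]⟩

noncomputable def imgM10 : Tree :=
  (.node 1 (.leaf (nat_lit 2)) (.node 1 (.leaf (nat_lit 3)) (.leaf (nat_lit 4))))

noncomputable def imgM1 : Tree :=
  imgM10

def markM1 : Mark := ⟨2, imgM1⟩

noncomputable def imgM20 : Tree :=
  (.node 1 (.leaf (nat_lit 2)) (.node 1 (.leaf (nat_lit 4)) (.leaf (nat_lit 6))))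

noncomputable def imgM2 : Tree :=
  imgM20

def markM2 : Mark := ⟨2, imgM2⟩

theorem range0 : rangeOK cert 0 4 = true := by decide +kernel

theorem ok : CertOK cert gens sub where
  start := by decide +kernel
  steps := steps_add 0 4 (steps_zero cert) range0
  subW := by decide +kernel

theorem level_ok : levelOK level = true := by decide +kernel

end Cfsg.Agent.Spider.Level5
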