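import Cfsg.Agent.Lib.Components.Spider.Chain

/-!
# Certificate data
-/

set_option autoImplicit false
set_option linter.all false

noncomputable section

namespace Cfsg.Agent.Spider.Level6

open Cfsg.Agent.CosetCert

noncomputable def facts0 : Tree :=
  (.leaf (nat_lit 0x1000000000000100000))

noncomputable def facts : Tree :=
  facts0

def words : List (List ℕ) :=
  [[0, 0]]

def cert : Cert := ⟨1, words, [], facts, 1⟩

def gens : List ℕ := [0]

def sub : List ℕ := []

def level : Level := ⟨cert, gens, sub, [
  (0, [0]),
  (1, [0])]⟩

noncomputable def imgM10 : Tree :=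
  (.node 1 (.leaf (nat_lit 3)) (.leaf (nat_lit 4)))

noncomputable def imgM1 : Tree :=
  imgM10

def markM1 : Mark := ⟨3, imgM1⟩

noncomputable def imgM20 : Tree :=
  (.node 1 (.leaf (nat_lit 4)) (.leaf (nat_lit 6)))

noncomputable def imgM2 : Tree :=
  imgM20

def markM2 : Mark := ⟨4, imgM2⟩

theorem range0 : rangeOK cert 0 1 = true := by decide +kernel

theorem ok : CertOK cert gens sub where
  start := by decide +kernel
  steps := steps_add 0 1 (steps_zero cert) range0
  subW := by decide +kernel

theorem level_ok : levelOK level = true := by decide +kernel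

end Cfsg.Agent.Spider.Level6
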