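import Cfsg.Agent.Lib.Components.Spider.Models
import Cfsg.Agent.Lib.Components.Spider.Level0
import Cfsg.Agent.Lib.Components.Spider.Level1
import Cfsg.Agent.Lib.Components.Spider.Level2
import Cfsg.Agent.Lib.Components.Spider.Level3
import Cfsg.Agent.Lib.Components.Spider.Level4
import Cfsg.Agent.Lib.Components.Spider.Level5
import Cfsg.Agent.Lib.Components.Spider.Level6

/-!
# The words used in the derivation and the two faithful chains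
-/

set_option autoImplicit false
set_option linter.all false

noncomputable section

namespace Cfsg.Agent.Spider

open Cfsg.Agent.CosetCert

def zW : List ℕ := [3, 7, 2, 11, 6, 1, 0, 3, 7, 2, 11, 6, 1, 0, 3, 7, 2, 11, 6, 1, 0, 3, 7, 2, 11, 6, 1, 0, 3, 7, 2, 11, 6, 1, 0, 3, 7, 2, 11, 6, 1, 0, 3, 7, 2, 11, 6, 1, 0, 3, 7, 2, 11, 6, 1, 0, 3, 7, 2, 11, 6, 1, 0]

def z2W : List ℕ := [8, 2, 7, 11, 1, 6, 0, 8, 2, 7, 11, 1, 6, 0, 8, 2, 7, 11, 1, 6, 0, 8, 2, 7, 11, 1, 6, 0, 8, 2, 7, 11, 1, 6, 0, 8, 2, 7, 11, 1, 6, 0, 8, 2, 7, 11, 1, 6, 0, 8, 2, 7, 11, 1, 6, 0, 8, 2, 7, 11, 1, 6, 0]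

def thW : List ℕ := [7, 6, 0, 11, 1, 0, 6, 7, 2, 1, 0, 6, 3, 2, 1, 0, 11, 0, 1, 2, 3, 6, 0, 1, 2, 7, 6, 0, 1, 11, 0, 6, 7]

def psiW : List ℕ := [11, 0, 6, 7, 1, 0, 6, 2, 1, 0, 11, 0, 1, 2, 6, 0, 1, 7, 6, 0, 11]

def spW : List ℕ := [12, 11, 0, 7, 6, 0, 2, 1, 0, 12, 11, 0, 7, 6, 0, 2, 1, 0, 12, 11, 0, 7, 6, 0, 2, 1, 0, 12, 11, 0, 7, 6, 0, 2, 1, 0, 12, 11, 0, 7, 6, 0, 2, 1, 0, 12, 11, 0, 7, 6, 0, 2, 1, 0, 12, 11, 0, 7, 6, 0, 2, 1, 0, 12, 11, 0, 7, 6, 0, 2, 1, 0, 12, 11, 0, 7, 6, 0, 2, 1, 0, 12, 11, 0, 7, 6, 0, 2, 1, 0]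

def spsW : List ℕ := [12, 11, 0, 2, 1, 0, 7, 6, 0, 12, 11, 0, 2, 1, 0, 7, 6, 0, 12, 11, 0, 2, 1, 0, 7, 6, 0, 12, 11, 0, 2, 1, 0, 7, 6, 0, 12, 11, 0, 2, 1, 0, 7, 6, 0, 12, 11, 0, 2, 1, 0, 7, 6, 0, 12, 11, 0, 2, 1, 0, 7, 6, 0, 12, 11, 0, 2, 1, 0, 7, 6, 0, 12, 11, 0, 2, 1, 0, 7, 6, 0, 12, 11, 0, 2, 1, 0, 7, 6, 0]

def nW : List ℕ := [0, 1, 2, 3, 8, 2, 7, 11, 1, 6, 0, 8, 2, 7, 11, 1, 6, 0, 8, 2, 7, 11, 1, 6, 0, 8, 2, 7, 11, 1, 6, 0, 8, 2, 7, 11, 1, 6, 0, 8, 2, 7, 11, 1, 6, 0, 8, 2, 7, 11, 1, 6, 0, 8, 2, 7, 11, 1, 6, 0, 8, 2, 7, 11, 1, 6, 0, 3, 7, 2, 11, 6, 1, 0, 3, 7, 2, 11, 6, 1, 0, 3, 7, 2, 11, 6, 1, 0, 3, 7, 2, 11, 6, 1, 0, 3, 7, 2, 11, 6, 1, 0, 3, 7, 2, 11, 6, 1, 0, 3, 7, 2, 11, 6, 1, 0, 3, 7, 2, 11, 6, 1, 0, 3, 7, 2, 11, 6, 1, 0, 3, 2, 1, 0]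

def betaW : List ℕ := [3, 2, 1, 0, 11, 0, 1, 2, 3]

def e7 : List ℕ := [0, 1, 2, 3, 6, 7, 11]

def chain1 : List (Level × Mark) := [(Level0.level, Level0.markM1), (Level1.level, Level1.markM1), (Level2.level, Level2.markM1), (Level3.level, Level3.markM1), (Level4.level, Level4.markM1), (Level5.level, Level5.markM1), (Level6.level, Level6.markM1)]

theorem faithful1 : Faithful Models.m1 e7 chain1 where
  model := Models.m1_ok
  linked := by decide +kernel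
  certs := by
    simp only [chain1, List.mem_cons, List.not_mem_nil, or_false, forall_eq_or_imp, forall_eq]
    exact ⟨⟨Level0.ok, Level0.level_ok, by decide +kernel⟩,
      ⟨Level1.ok, Level1.level_ok, by decide +kernel⟩,
      ⟨Level2.ok, Level2.level_ok, by decide +kernel⟩,
      ⟨Level3.ok, Level3.level_ok, by decide +kernel⟩,
      ⟨Level4.ok, Level4.level_ok, by decide +kernel⟩,
      ⟨Level5.ok, Level5.level_ok, by decide +kernel⟩,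
      ⟨Level6.ok, Level6.level_ok, by decide +kernel⟩⟩

def chain2 : List (Level × Mark) := [(Level0.level, Level0.markM2), (Level1.level, Level1.markM2), (Level2.level, Level2.markM2), (Level3.level, Level3.markM2), (Level4.level, Level4.markM2), (Level5.level, Level5.markM2), (Level6.level, Level6.markM2)]

theorem faithful2 : Faithful Models.m2 e7 chain2 where
  model := Models.m2_ok
  linked := by decide +kernel
  certs := by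
    simp only [chain2, List.mem_cons, List.not_mem_nil, or_false, forall_eq_or_imp, forall_eq]
    exact ⟨⟨Level0.ok, Level0.level_ok, by decide +kernel⟩,
      ⟨Level1.ok, Level1.level_ok, by decide +kernel⟩,
      ⟨Level2.ok, Level2.level_ok, by decide +kernel⟩,
      ⟨Level3.ok, Level3.level_ok, by decide +kernel⟩,
      ⟨Level4.ok, Level4.level_ok, by decide +kernel⟩,
      ⟨Level5.ok, Level5.level_ok, by decide +kernel⟩,
      ⟨Level6.ok, Level6.level_ok, by decide +kernel⟩⟩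

end Cfsg.Agent.Spider
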