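import Cfsg.Prelude.Def_Spor_M
import Cfsg.Agent.Lib.Components.Spider.Words
import Cfsg.Agent.Lib.Components.Spider.Spid
import Cfsg.Agent.Lib.Components.Spider.Za
import Cfsg.Agent.Lib.Components.Spider.Id
import Cfsg.Agent.Lib.Components.Spider.Zd
import Cfsg.Agent.Lib.Components.Spider.Ce
import Cfsg.Agent.Lib.Components.Spider.Ef

/-!
# The spider relation implies the arm relations

Let `z` be the ninth power of the Coxeter element on `a b₁ c₁ d₁ b₂ c₂ b₃`.  The steps are: `z` commutes with `c₃`;
`z` commutes with `d₂`; `z` and `e₁` have a product of order three; `f₁ = z`.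
-/

set_option autoImplicit false
set_option linter.all false

noncomputable section

namespace Cfsg.Agent.Spider

open Cfsg.Agent.CosetCert
open Cfsg.Spor (coxLabel)

/-- The number of a node. -/
def idx : Cfsg.Spor.Bimonster.Gen → ℕ
  | .a => 0 | .b1 => 1 | .c1 => 2 | .d1 => 3 | .e1 => 4 | .f1 => 5
  | .b2 => 6 | .c2 => 7 | .d2 => 8 | .e2 => 9 | .f2 => 10
  | .b3 => 11 | .c3 => 12 | .d3 => 13 | .e3 => 14 | .f3 => 15

def enum : List Cfsg.Spor.Bimonster.Gen :=
  [.a, .b1, .c1, .d1, .e1, .f1, .b2, .c2, .d2, .e2, .f2, .b3, .c3, .d3, .e3, .f3]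

def coxWords : List (List ℕ) := coxW idx Cfsg.Spor.Bimonster.edges enum

def allIn (V l : List (List ℕ)) : Bool := l.all fun w => memList w V

def V7 : List (List ℕ) := Level0.cert.W.map (mapWord Level0.gens)

def e7Triv (w : List ℕ) : Bool := lettersIn w e7 && marksFixed Models.m1 w chain1

/-- Exchange the first two arms. -/
def sw : List ℕ := [0, 6, 7, 8, 9, 10, 1, 2, 3, 4, 5, 11, 12, 13, 14, 15]

def kW : List ℕ := (betaW ++ z2W) ++ (betaW ++ z2W)
def zdW : List ℕ := ([8] ++ zW) ++ ([8] ++ zW)
def zeW : List ℕ := ([4] ++ zW) ++ ([4] ++ zW) ++ ([4] ++ zW)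

theorem sw_cox : allIn coxWords (coxWords.map (mapWord sw)) = true := by decide +kernel
theorem sw_sp : mapWord sw spW = spsW := by decide +kernel
theorem sw_z : mapWord sw zW = z2W := by decide +kernel
theorem nW_eq : nW = [0, 1, 2, 3] ++ z2W ++ zW ++ [3, 2, 1, 0] := by decide +kernel
theorem betaW_eq : betaW = [3, 2, 1, 0] ++ [11] ++ [0, 1, 2, 3] := by
  decide +kernel
theorem id_word : Id.goal.word = [6, 8] ++ nW ++ [8, 6, 11] ++ nW ++ [11] := by decide +kernel
theorem zd_word : Zd.goal.word = zdW := by decide +kernel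
theorem ce_word : Ce.goal.word = zeW := by decide +kernel
theorem za_word : Za.goal.word = [12] ++ zW ++ [12] := by decide +kernel
theorem spid_word : Spid.goal.word = spsW := by decide +kernel
theorem ef_word : Ef.goal.word = [5] := by decide +kernel

section

variable {A : Type*} [Group A]

/-- If `x` braids with `b` and commutes with `n` and `b n b`, then `b` commutes with `n`. -/
theorem commute_of_braid {x b n : A} (hx : x * x = 1) (hb : b * b = 1) (hbr : x * b * x = b * x * b)
    (h1 : x * n * x = n) (h2 : x * (b * n * b) * x = b * n * b) : b * n * b = n := by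
  calc b * n * b = x * (b * n * b) * x := h2.symm
    _ = x * (b * (x * n * x) * b) * x := by rw [h1]
    _ = (x * b * x) * n * (x * b * x) := by simp only [mul_assoc]
    _ = (b * x * b) * n * (b * x * b) := by rw [hbr]
    _ = b * (x * (b * n * b) * x) * b := by simp only [mul_assoc]
    _ = b * (b * n * b) * b := by rw [h2]
    _ = (b * b) * n * (b * b) := by simp only [mul_assoc]
    _ = n := by rw [hb, one_mul, mul_one]

theorem swap_conj {x n : A} (hx : x * x = 1) (h : Commute x n) : x * n * x = n := by
  rw [h.eq, mul_assoc, hx, mul_one]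

variable {g : ℕ → A}

theorem rel_of_allIn {V l : List (List ℕ)} (h : allIn V l = true) (hV : ∀ w ∈ V, wprod g w = 1) :
    ∀ w ∈ l, wprod g w = 1 := fun w hw => hV w (memList_spec (List.all_eq_true.mp h w hw))

theorem mem_map_rel {P : List ℕ} {W : List (List ℕ)} (h : ∀ w ∈ W.map (mapWord P), wprod g w = 1) :
    ∀ w ∈ W, wprod g (mapWord P w) = 1 := fun w hw => h _ (List.mem_map.mpr ⟨w, hw, rfl⟩)

theorem commute_of_cox (hinv : ∀ x, g x * g x = 1) (hcox : ∀ w ∈ coxWords, wprod g w = 1) {i j : ℕ}
    (h : memList [j, i, j, i] coxWords = true) : Commute (g i) (g j) := by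
  have e := hcox _ (memList_spec h)
  simp only [wprod, one_mul] at e
  have e1 := eq_inv_of_mul_eq_one_right (show g i * (g j * (g i * g j)) = 1 by simpa only [mul_assoc] using e)
  rw [inv_eq_of_mul_eq_one_right (hinv i)] at e1
  show g i * g j = g j * g i
  calc g i * g j = g j * (g j * (g i * g j)) := by rw [← mul_assoc, hinv, one_mul]
    _ = g j * g i := by rw [e1]

variable (hinv : ∀ x, g x * g x = 1) (hcox : ∀ w ∈ coxWords, wprod g w = 1)
include hinv hcox

theorem e7_one {w : List ℕ} (h : e7Triv w = true) : wprod g w = 1 := by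
  simp only [e7Triv, Bool.and_eq_true] at h
  exact faithful1.word_eq_one g hinv V7 (rel_of_allIn (V := coxWords) (by decide +kernel) hcox)
    (by decide +kernel) (by decide +kernel) h.1 h.2

theorem e7_rel {P : List ℕ} {r : ℕ} {t₀ : List ℕ} {W : List (List ℕ)}
    (h : (W.all fun w => e7Triv (substW r t₀ (mapWord P w))) = true) :
    ∀ w ∈ W, wprod g (substW r t₀ (mapWord P w)) = 1 :=
  fun w hw => e7_one hinv hcox (List.all_eq_true.mp h w hw)

theorem sq_of_e7 {w : List ℕ} (h : e7Triv (w ++ w) = true) : wprod g w * wprod g w = 1 := by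
  have e := e7_one hinv hcox h
  rwa [wprod_append] at e

variable (hsp : wprod g spW = 1)
include hsp

/-- The spider relation with two arms exchanged. -/
theorem sps : wprod g spsW = 1 := by
  have h := Spid.goal.retract g Spid.ok Spid.goal_ok 12 psiW hinv
    (sq_of_e7 hinv hcox (by decide +kernel))
    (mem_map_rel (rel_of_allIn (V := coxWords ++ [spW]) (by decide +kernel) (fun w hw => by
      rcases List.mem_append.mp hw with hw | hw
      · exact hcox w hw
      · rw [List.mem_singleton.mp hw]; exact hsp)))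
    (e7_rel hinv hcox (by decide +kernel)) (by decide +kernel)
  rw [spid_word] at h
  rw [← h]
  exact e7_one hinv hcox (by decide +kernel)

/-- `z` commutes with `c₃`. -/
theorem z_c3 : Commute (wprod g zW) (g 12) := by
  have hz : wprod g zW * wprod g zW = 1 := sq_of_e7 hinv hcox (by decide +kernel)
  have h := faithful1.goal_eq_one g hinv (Za.cert.W.map (mapWord Za.gens))
    (rel_of_allIn (V := coxWords ++ [spW]) (by decide +kernel) (fun w hw => by
      rcases List.mem_append.mp hw with hw | hw
      · exact hcox w hw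
      · rw [List.mem_singleton.mp hw]; exact hsp))
    (by decide +kernel) (by decide +kernel) Za.goal Za.ok Za.goal_ok (by decide +kernel) (by decide +kernel)
    zW (by decide +kernel) (by decide +kernel)
  rw [za_word, wprod_append, wprod_append, wprod_append] at h
  simp only [wprod, one_mul] at h
  have e := eq_inv_of_mul_eq_one_right h
  rw [inv_eq_of_mul_eq_one_right hz] at e
  show wprod g zW * g 12 = g 12 * wprod g zW
  calc wprod g zW * g 12 = (g 12 * (wprod g zW * g 12)) * g 12 := by rw [e]
    _ = g 12 * wprod g zW := by rw [mul_assoc, mul_assoc, hinv, mul_one]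

/-- `z` commutes with `d₂`. -/
theorem z_d2 : wprod g zdW = 1 := by
  let g' : ℕ → A := fun x => g (nthNat sw x)
  have hg' : ∀ w, wprod g' w = wprod g (mapWord sw w) := fun w => (wprod_mapWord g sw w).symm
  have hinv' : ∀ x, g' x * g' x = 1 := fun x => hinv _
  have hcox' : ∀ w ∈ coxWords, wprod g' w = 1 := fun w hw => by
    rw [hg']
    exact rel_of_allIn sw_cox hcox _ (List.mem_map.mpr ⟨w, hw, rfl⟩)
  have hsp' : wprod g' spW = 1 := by rw [hg', sw_sp]; exact sps hinv hcox hsp
  have hz : wprod g zW * wprod g zW = 1 := sq_of_e7 hinv hcox (by decide +kernel)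
  have hz2 : wprod g z2W * wprod g z2W = 1 := by
    have h := sq_of_e7 hinv' hcox' (w := zW) (by decide +kernel)
    rwa [hg', sw_z] at h
  have hxz : Commute (g 12) (wprod g zW) := (z_c3 hinv hcox hsp).symm
  have hxz2 : Commute (g 12) (wprod g z2W) := by
    have h := (z_c3 hinv' hcox' hsp').symm
    rw [hg', sw_z] at h
    exact h
  -- `x` commutes with the small generators
  have c0 := commute_of_cox hinv hcox (i := 12) (j := 0) (by decide +kernel)
  have c1 := commute_of_cox hinv hcox (i := 12) (j := 1) (by decide +kernel)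
  have c2 := commute_of_cox hinv hcox (i := 12) (j := 2) (by decide +kernel)
  have c3 := commute_of_cox hinv hcox (i := 12) (j := 3) (by decide +kernel)
  have c6 := commute_of_cox hinv hcox (i := 12) (j := 6) (by decide +kernel)
  have c8 := commute_of_cox hinv hcox (i := 12) (j := 8) (by decide +kernel)
  obtain ⟨n, hn⟩ : ∃ n, n = wprod g nW := ⟨_, rfl⟩
  have hnval : n = (g 0 * g 1 * g 2 * g 3) * wprod g zW * wprod g z2W * (g 3 * g 2 * g 1 * g 0) := by
    rw [hn, nW_eq, wprod_append, wprod_append, wprod_append]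
    simp only [wprod, one_mul, mul_assoc]
  have hxn : Commute (g 12) n := by
    rw [hnval]
    exact ((((((c0.mul_right c1).mul_right c2).mul_right c3).mul_right hxz).mul_right hxz2).mul_right
      (((c3.mul_right c2).mul_right c1).mul_right c0))
  have hid : g 11 * n * g 11 * (g 6 * g 8) * n * (g 8 * g 6) = 1 := by
    have h := Id.goal.retract g Id.ok Id.goal_ok 8 thW hinv (sq_of_e7 hinv hcox (by decide +kernel))
      (mem_map_rel (rel_of_allIn (V := coxWords) (by decide +kernel) hcox))
      (e7_rel hinv hcox (by decide +kernel)) (by decide +kernel)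
    rw [e7_one hinv hcox (w := substW 8 thW Id.goal.word) (by decide +kernel)] at h
    rw [id_word, wprod_append, wprod_append, wprod_append, wprod_append, ← hn] at h
    simp only [wprod, one_mul, mul_assoc] at h
    simp only [mul_assoc]
    exact h.symm
  have hxn' : Commute (g 12) (g 11 * n * g 11) := by
    have e : g 11 * n * g 11 = ((g 6 * g 8) * n * (g 8 * g 6))⁻¹ :=
      eq_inv_of_mul_eq_one_left (by simpa only [mul_assoc] using hid)
    rw [e]
    exact (((c6.mul_right c8).mul_right hxn).mul_right (c8.mul_right c6)).inv_right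
  have hbr : g 12 * g 11 * g 12 = g 11 * g 12 * g 11 := by
    have e := hcox [11, 12, 11, 12, 11, 12] (memList_spec (by decide +kernel))
    simp only [wprod, one_mul] at e
    have e' : (g 11 * g 12 * g 11) * (g 12 * g 11 * g 12) = 1 ∨ (g 12 * g 11 * g 12) * (g 11 * g 12 * g 11) = 1 := by
      right; simpa only [mul_assoc] using e
    have hi : (g 11 * g 12 * g 11)⁻¹ = g 11 * g 12 * g 11 := inv_eq_of_mul_eq_one_right (by
      simp only [mul_assoc, ← mul_assoc (g 11) (g 11), ← mul_assoc (g 12) (g 12), hinv, one_mul])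
    rcases e' with e' | e'
    · rw [eq_inv_of_mul_eq_one_right e', hi]
    · rw [eq_inv_of_mul_eq_one_left e', hi]
  have hb : g 11 * n * g 11 = n :=
    commute_of_braid (hinv 12) (hinv 11) hbr (swap_conj (hinv 12) hxn) (swap_conj (hinv 12) hxn')
  -- transport to the conjugate of `b₃`
  obtain ⟨S, hS⟩ : ∃ S, S = g 0 * g 1 * g 2 * g 3 := ⟨_, rfl⟩
  have hSi : g 3 * g 2 * g 1 * g 0 = S⁻¹ := by
    refine eq_inv_of_mul_eq_one_left ?_
    rw [hS]
    simp only [mul_assoc, ← mul_assoc (g 0) (g 0), ← mul_assoc (g 1) (g 1), ← mul_assoc (g 2) (g 2),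
      hinv, one_mul]
  obtain ⟨β, hβ⟩ : ∃ β, β = wprod g betaW := ⟨_, rfl⟩
  have hβval : β = S⁻¹ * g 11 * S := by
    rw [← hSi, hS, hβ]
    rw [betaW_eq]
    simp only [List.cons_append, List.nil_append, wprod, one_mul, mul_assoc]
  have hnS : n = S * (wprod g zW * wprod g z2W) * S⁻¹ := by
    rw [hnval, ← hS, hSi]; simp only [mul_assoc]
  have hβq : Commute β (wprod g zW * wprod g z2W) := by
    have hcn : Commute (g 11) n := by
      show g 11 * n = n * g 11
      calc g 11 * n = g 11 * n * (g 11 * g 11) := by rw [hinv, mul_one]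
        _ = n * g 11 := by rw [← mul_assoc, hb]
    rw [hnS] at hcn
    show β * _ = _ * β
    rw [hβval]
    calc S⁻¹ * g 11 * S * (wprod g zW * wprod g z2W)
        = S⁻¹ * (g 11 * (S * (wprod g zW * wprod g z2W) * S⁻¹)) * S := by group
      _ = S⁻¹ * ((S * (wprod g zW * wprod g z2W) * S⁻¹) * g 11) * S := by rw [hcn.eq]
      _ = wprod g zW * wprod g z2W * (S⁻¹ * g 11 * S) := by group
  have hβz : Commute β (wprod g zW) := by
    have h := sq_of_e7 hinv hcox (w := betaW ++ zW) (by decide +kernel)
    rw [wprod_append, ← hβ] at h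
    have hb2 : β * β = 1 := by rw [hβ]; exact sq_of_e7 hinv hcox (by decide +kernel)
    have e := eq_inv_of_mul_eq_one_left h
    rw [mul_inv_rev, inv_eq_of_mul_eq_one_right hz, inv_eq_of_mul_eq_one_right hb2] at e
    exact e.symm
  have hβz2 : Commute β (wprod g z2W) := by
    have h := hβz.mul_right hβq
    rwa [← mul_assoc, hz, one_mul] at h
  have hk : wprod g kW = 1 := by
    have hb2 : β * β = 1 := by rw [hβ]; exact sq_of_e7 hinv hcox (by decide +kernel)
    rw [kW, wprod_append, wprod_append, ← hβ, ← hβz2.eq]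
    calc β * wprod g z2W * (β * wprod g z2W) = β * (wprod g z2W * β) * wprod g z2W := by
          simp only [mul_assoc]
      _ = β * (β * wprod g z2W) * wprod g z2W := by rw [hβz2.eq]
      _ = (β * β) * (wprod g z2W * wprod g z2W) := by simp only [mul_assoc]
      _ = 1 := by rw [hb2, hz2, one_mul]
  have h := Zd.goal.retract g Zd.ok Zd.goal_ok 8 thW hinv (sq_of_e7 hinv hcox (by decide +kernel))
    (mem_map_rel (rel_of_allIn (V := coxWords ++ [kW]) (by decide +kernel) (fun w hw => by
      rcases List.mem_append.mp hw with hw | hw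
      · exact hcox w hw
      · rw [List.mem_singleton.mp hw]; exact hk)))
    (e7_rel hinv hcox (by decide +kernel))
    (by decide +kernel)
  rw [zd_word] at h
  rw [← h]
  exact e7_one hinv hcox (by decide +kernel)

end

end Cfsg.Agent.Spider
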