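import Cfsg.Agent.Lib.Components.Spider.Chain

/-!
# Certificate data
-/

set_option autoImplicit false
set_option linter.all false

noncomputable section

namespace Cfsg.Agent.Spider.Models

open Cfsg.Agent.CosetCert

noncomputable def M1id0 : Tree :=
  (.node 64 (.node 32 (.node 16 (.node 8 (.node 4 (.node 2 (.node 1 (.leaf (nat_lit 0)) (.leaf (nat_lit 1))) (.node 1 (.leaf (nat_lit 2)) (.leaf (nat_lit 3)))) (.node 2 (.node 1 (.leaf (nat_lit 4)) (.leaf (nat_lit 5))) (.node 1 (.leaf (nat_lit 6)) (.leaf (nat_lit 7))))) (.node 4 (.node 2 (.node 1 (.leaf (nat_lit 8)) (.leaf (nat_lit 9))) (.node 1 (.leaf (nat_lit 0xa)) (.leaf (nat_lit 0xb)))) (.node 2 (.node 1 (.leaf (nat_lit 0xc)) (.leaf (nat_lit 0xd))) (.node 1 (.leaf (nat_lit 0xe)) (.leaf (nat_lit 0xf)))))) (.node 8 (.node 4 (.node 2 (.node 1 (.leaf (nat_lit 0x10)) (.leaf (nat_lit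 0x11))) (.node 1 (.leaf (nat_lit 0x12)) (.leaf (nat_lit 0x13)))) (.node 2 (.node 1 (.leaf (nat_lit 0x14)) (.leaf (nat_lit 0x15))) (.node 1 (.leaf (nat_lit 0x16)) (.leaf (nat_lit 0x17))))) (.node 4 (.node 2 (.node 1 (.leaf (nat_lit 0x18)) (.leaf (nat_lit 0x19))) (.node 1 (.leaf (nat_lit 0x1a)) (.leaf (nat_lit 0x1b)))) (.node 2 (.node 1 (.leaf (nat_lit 0x1c)) (.leaf (nat_lit 0x1d))) (.node 1 (.leaf (nat_lit 0x1e)) (.leaf (nat_lit 0x1f))))))) (.node 16 (.node 8 (.node 4 (.node 2 (.node 1 (.leaf (nat_lit 0x20)) (.leaf (nat_lit 0x21))) (.node 1 (.leaf (nat_lit 0x22)) (.leaf (nat_lit 0x23)))) (.node 2 (.node 1 (.leaf (nat_lit 0x24)) (.leaf (nat_lit 0x25))) (.node 1 (.leaf (nat_lit 0x26)) (.leaf (nat_lit 0x27))))) (.node 4 (.node 2 (.node 1 (.leaf (nat_lit 0x28)) (.leaf (nat_lit 0x29))) (.node 1 (.leaf (nat_lit 0x2a)) (.leaf (nat_lit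 0x2b)))) (.node 2 (.node 1 (.leaf (nat_lit 0x2c)) (.leaf (nat_lit 0x2d))) (.node 1 (.leaf (nat_lit 0x2e)) (.leaf (nat_lit 0x2f)))))) (.node 8 (.node 4 (.node 2 (.node 1 (.leaf (nat_lit 0x30)) (.leaf (nat_lit 0x31))) (.node 1 (.leaf (nat_lit 0x32)) (.leaf (nat_lit 0x33)))) (.node 2 (.node 1 (.leaf (nat_lit 0x34)) (.leaf (nat_lit 0x35))) (.node 1 (.leaf (nat_lit 0x36)) (.leaf (nat_lit 0x37))))) (.node 4 (.node 2 (.node 1 (.leaf (nat_lit 0x38)) (.leaf (nat_lit 0x39))) (.node 1 (.leaf (nat_lit 0x3a)) (.leaf (nat_lit 0x3b)))) (.node 2 (.node 1 (.leaf (nat_lit 0x3c)) (.leaf (nat_lit 0x3d))) (.node 1 (.leaf (nat_lit 0x3e)) (.leaf (nat_lit 0x3f)))))))) (.node 32 (.node 16 (.node 8 (.node 4 (.node 2 (.node 1 (.leaf (nat_lit 0x40)) (.leaf (nat_lit 0x41))) (.node 1 (.leaf (nat_lit 0x42)) (.leaf (nat_lit 0x43)))) (.node 2 (.node 1 (.leaf (nat_lit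 0x44)) (.leaf (nat_lit 0x45))) (.node 1 (.leaf (nat_lit 0x46)) (.leaf (nat_lit 0x47))))) (.node 4 (.node 2 (.node 1 (.leaf (nat_lit 0x48)) (.leaf (nat_lit 0x49))) (.node 1 (.leaf (nat_lit 0x4a)) (.leaf (nat_lit 0x4b)))) (.node 2 (.node 1 (.leaf (nat_lit 0x4c)) (.leaf (nat_lit 0x4d))) (.node 1 (.leaf (nat_lit 0x4e)) (.leaf (nat_lit 0x4f)))))) (.node 8 (.node 4 (.node 2 (.node 1 (.leaf (nat_lit 0x50)) (.leaf (nat_lit 0x51))) (.node 1 (.leaf (nat_lit 0x52)) (.leaf (nat_lit 0x53)))) (.node 2 (.node 1 (.leaf (nat_lit 0x54)) (.leaf (nat_lit 0x55))) (.node 1 (.leaf (nat_lit 0x56)) (.leaf (nat_lit 0x57))))) (.node 4 (.node 2 (.node 1 (.leaf (nat_lit 0x58)) (.leaf (nat_lit 0x59))) (.node 1 (.leaf (nat_lit 0x5a)) (.leaf (nat_lit 0x5b)))) (.node 2 (.node 1 (.leaf (nat_lit 0x5c)) (.leaf (nat_lit 0x5d))) (.node 1 (.leaf (nat_lit 0x5e)) (.leaf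 (nat_lit 0x5f))))))) (.node 16 (.node 8 (.node 4 (.node 2 (.node 1 (.leaf (nat_lit 0x60)) (.leaf (nat_lit 0x61))) (.node 1 (.leaf (nat_lit 0x62)) (.leaf (nat_lit 0x63)))) (.node 2 (.node 1 (.leaf (nat_lit 0x64)) (.leaf (nat_lit 0x65))) (.node 1 (.leaf (nat_lit 0x66)) (.leaf (nat_lit 0x67))))) (.node 4 (.node 2 (.node 1 (.leaf (nat_lit 0x68)) (.leaf (nat_lit 0x69))) (.node 1 (.leaf (nat_lit 0x6a)) (.leaf (nat_lit 0x6b)))) (.node 2 (.node 1 (.leaf (nat_lit 0x6c)) (.leaf (nat_lit 0x6d))) (.node 1 (.leaf (nat_lit 0x6e)) (.leaf (nat_lit 0x6f)))))) (.node 8 (.node 4 (.node 2 (.node 1 (.leaf (nat_lit 0x70)) (.leaf (nat_lit 0x71))) (.node 1 (.leaf (nat_lit 0x72)) (.leaf (nat_lit 0x73)))) (.node 2 (.node 1 (.leaf (nat_lit 0x74)) (.leaf (nat_lit 0x75))) (.node 1 (.leaf (nat_lit 0x76)) (.leaf (nat_lit 0x77))))) (.node 4 (.node 2 (.node 1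 (.leaf (nat_lit 0x78)) (.leaf (nat_lit 0x79))) (.node 1 (.leaf (nat_lit 0x7a)) (.leaf (nat_lit 0x7b)))) (.node 2 (.node 1 (.leaf (nat_lit 0x7c)) (.leaf (nat_lit 0x7d))) (.node 1 (.leaf (nat_lit 0x7e)) (.leaf (nat_lit 0x7f)))))))))

noncomputable def M1id1 : Tree :=
  (.node 64 (.node 32 (.node 16 (.node 8 (.node 4 (.node 2 (.node 1 (.leaf (nat_lit 0x80)) (.leaf (nat_lit 0x81))) (.node 1 (.leaf (nat_lit 0x82)) (.leaf (nat_lit 0x83)))) (.node 2 (.node 1 (.leaf (nat_lit 0x84)) (.leaf (nat_lit 0x85))) (.node 1 (.leaf (nat_lit 0x86)) (.leaf (nat_lit 0x87))))) (.node 4 (.node 2 (.node 1 (.leaf (nat_lit 0x88)) (.leaf (nat_lit 0x89))) (.node 1 (.leaf (nat_lit 0x8a)) (.leaf (nat_lit 0x8b)))) (.node 2 (.node 1 (.leaf (nat_lit 0x8c)) (.leaf (nat_lit 0x8d))) (.node 1 (.leaf (nat_lit 0x8e)) (.leaf (nat_lit 0x8f)))))) (.node 8 (.node 4 (.node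 2 (.node 1 (.leaf (nat_lit 0x90)) (.leaf (nat_lit 0x91))) (.node 1 (.leaf (nat_lit 0x92)) (.leaf (nat_lit 0x93)))) (.node 2 (.node 1 (.leaf (nat_lit 0x94)) (.leaf (nat_lit 0x95))) (.node 1 (.leaf (nat_lit 0x96)) (.leaf (nat_lit 0x97))))) (.node 4 (.node 2 (.node 1 (.leaf (nat_lit 0x98)) (.leaf (nat_lit 0x99))) (.node 1 (.leaf (nat_lit 0x9a)) (.leaf (nat_lit 0x9b)))) (.node 2 (.node 1 (.leaf (nat_lit 0x9c)) (.leaf (nat_lit 0x9d))) (.node 1 (.leaf (nat_lit 0x9e)) (.leaf (nat_lit 0x9f))))))) (.node 16 (.node 8 (.node 4 (.node 2 (.node 1 (.leaf (nat_lit 0xa0)) (.leaf (nat_lit 0xa1))) (.node 1 (.leaf (nat_lit 0xa2)) (.leaf (nat_lit 0xa3)))) (.node 2 (.node 1 (.leaf (nat_lit 0xa4)) (.leaf (nat_lit 0xa5))) (.node 1 (.leaf (nat_lit 0xa6)) (.leaf (nat_lit 0xa7))))) (.node 4 (.node 2 (.node 1 (.leaf (nat_lit 0xa8)) (.leaf (nat_lit 0xa9)))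 (.node 1 (.leaf (nat_lit 0xaa)) (.leaf (nat_lit 0xab)))) (.node 2 (.node 1 (.leaf (nat_lit 0xac)) (.leaf (nat_lit 0xad))) (.node 1 (.leaf (nat_lit 0xae)) (.leaf (nat_lit 0xaf)))))) (.node 8 (.node 4 (.node 2 (.node 1 (.leaf (nat_lit 0xb0)) (.leaf (nat_lit 0xb1))) (.node 1 (.leaf (nat_lit 0xb2)) (.leaf (nat_lit 0xb3)))) (.node 2 (.node 1 (.leaf (nat_lit 0xb4)) (.leaf (nat_lit 0xb5))) (.node 1 (.leaf (nat_lit 0xb6)) (.leaf (nat_lit 0xb7))))) (.node 4 (.node 2 (.node 1 (.leaf (nat_lit 0xb8)) (.leaf (nat_lit 0xb9))) (.node 1 (.leaf (nat_lit 0xba)) (.leaf (nat_lit 0xbb)))) (.node 2 (.node 1 (.leaf (nat_lit 0xbc)) (.leaf (nat_lit 0xbd))) (.node 1 (.leaf (nat_lit 0xbe)) (.leaf (nat_lit 0xbf)))))))) (.node 32 (.node 16 (.node 8 (.node 4 (.node 2 (.node 1 (.leaf (nat_lit 0xc0)) (.leaf (nat_lit 0xc1))) (.node 1 (.leaf (nat_lit 0xc2)) (.leaf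 (nat_lit 0xc3)))) (.node 2 (.node 1 (.leaf (nat_lit 0xc4)) (.leaf (nat_lit 0xc5))) (.node 1 (.leaf (nat_lit 0xc6)) (.leaf (nat_lit 0xc7))))) (.node 4 (.node 2 (.node 1 (.leaf (nat_lit 0xc8)) (.leaf (nat_lit 0xc9))) (.node 1 (.leaf (nat_lit 0xca)) (.leaf (nat_lit 0xcb)))) (.node 2 (.node 1 (.leaf (nat_lit 0xcc)) (.leaf (nat_lit 0xcd))) (.node 1 (.leaf (nat_lit 0xce)) (.leaf (nat_lit 0xcf)))))) (.node 8 (.node 4 (.node 2 (.node 1 (.leaf (nat_lit 0xd0)) (.leaf (nat_lit 0xd1))) (.node 1 (.leaf (nat_lit 0xd2)) (.leaf (nat_lit 0xd3)))) (.node 2 (.node 1 (.leaf (nat_lit 0xd4)) (.leaf (nat_lit 0xd5))) (.node 1 (.leaf (nat_lit 0xd6)) (.leaf (nat_lit 0xd7))))) (.node 4 (.node 2 (.node 1 (.leaf (nat_lit 0xd8)) (.leaf (nat_lit 0xd9))) (.node 1 (.leaf (nat_lit 0xda)) (.leaf (nat_lit 0xdb)))) (.node 2 (.node 1 (.leaf (nat_lit 0xdc)) (.leaf (nat_lit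 0xdd))) (.node 1 (.leaf (nat_lit 0xde)) (.leaf (nat_lit 0xdf))))))) (.node 16 (.node 8 (.node 4 (.node 2 (.node 1 (.leaf (nat_lit 0xe0)) (.leaf (nat_lit 0xe1))) (.node 1 (.leaf (nat_lit 0xe2)) (.leaf (nat_lit 0xe3)))) (.node 2 (.node 1 (.leaf (nat_lit 0xe4)) (.leaf (nat_lit 0xe5))) (.node 1 (.leaf (nat_lit 0xe6)) (.leaf (nat_lit 0xe7))))) (.node 4 (.node 2 (.node 1 (.leaf (nat_lit 0xe8)) (.leaf (nat_lit 0xe9))) (.node 1 (.leaf (nat_lit 0xea)) (.leaf (nat_lit 0xeb)))) (.node 2 (.node 1 (.leaf (nat_lit 0xec)) (.leaf (nat_lit 0xed))) (.node 1 (.leaf (nat_lit 0xee)) (.leaf (nat_lit 0xef)))))) (.node 8 (.node 4 (.node 2 (.node 1 (.leaf (nat_lit 0xf0)) (.leaf (nat_lit 0xf1))) (.node 1 (.leaf (nat_lit 0xf2)) (.leaf (nat_lit 0xf3)))) (.node 2 (.node 1 (.leaf (nat_lit 0xf4)) (.leaf (nat_lit 0xf5))) (.node 1 (.leaf (nat_lit 0xf6)) (.leaf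 (nat_lit 0xf7))))) (.node 4 (.node 2 (.node 1 (.leaf (nat_lit 0xf8)) (.leaf (nat_lit 0xf9))) (.node 1 (.leaf (nat_lit 0xfa)) (.leaf (nat_lit 0xfb)))) (.node 2 (.node 1 (.leaf (nat_lit 0xfc)) (.leaf (nat_lit 0xfd))) (.node 1 (.leaf (nat_lit 0xfe)) (.leaf (nat_lit 0xff)))))))))

noncomputable def M1id2 : Tree :=
  (.node 64 (.node 32 (.node 16 (.node 8 (.node 4 (.node 2 (.node 1 (.leaf (nat_lit 0x100)) (.leaf (nat_lit 0x101))) (.node 1 (.leaf (nat_lit 0x102)) (.leaf (nat_lit 0x103)))) (.node 2 (.node 1 (.leaf (nat_lit 0x104)) (.leaf (nat_lit 0x105))) (.node 1 (.leaf (nat_lit 0x106)) (.leaf (nat_lit 0x107))))) (.node 4 (.node 2 (.node 1 (.leaf (nat_lit 0x108)) (.leaf (nat_lit 0x109))) (.node 1 (.leaf (nat_lit 0x10a)) (.leaf (nat_lit 0x10b)))) (.node 2 (.node 1 (.leaf (nat_lit 0x10c)) (.leaf (nat_lit 0x10d))) (.node 1 (.leaf (nat_lit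 0x10e)) (.leaf (nat_lit 0x10f)))))) (.node 8 (.node 4 (.node 2 (.node 1 (.leaf (nat_lit 0x110)) (.leaf (nat_lit 0x111))) (.node 1 (.leaf (nat_lit 0x112)) (.leaf (nat_lit 0x113)))) (.node 2 (.node 1 (.leaf (nat_lit 0x114)) (.leaf (nat_lit 0x115))) (.node 1 (.leaf (nat_lit 0x116)) (.leaf (nat_lit 0x117))))) (.node 4 (.node 2 (.node 1 (.leaf (nat_lit 0x118)) (.leaf (nat_lit 0x119))) (.node 1 (.leaf (nat_lit 0x11a)) (.leaf (nat_lit 0x11b)))) (.node 2 (.node 1 (.leaf (nat_lit 0x11c)) (.leaf (nat_lit 0x11d))) (.node 1 (.leaf (nat_lit 0x11e)) (.leaf (nat_lit 0x11f))))))) (.node 16 (.node 8 (.node 4 (.node 2 (.node 1 (.leaf (nat_lit 0x120)) (.leaf (nat_lit 0x121))) (.node 1 (.leaf (nat_lit 0x122)) (.leaf (nat_lit 0x123)))) (.node 2 (.node 1 (.leaf (nat_lit 0x124)) (.leaf (nat_lit 0x125))) (.node 1 (.leaf (nat_lit 0x126)) (.leaf (nat_lit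 0x127))))) (.node 4 (.node 2 (.node 1 (.leaf (nat_lit 0x128)) (.leaf (nat_lit 0x129))) (.node 1 (.leaf (nat_lit 0x12a)) (.leaf (nat_lit 0x12b)))) (.node 2 (.node 1 (.leaf (nat_lit 0x12c)) (.leaf (nat_lit 0x12d))) (.node 1 (.leaf (nat_lit 0x12e)) (.leaf (nat_lit 0x12f)))))) (.node 8 (.node 4 (.node 2 (.node 1 (.leaf (nat_lit 0x130)) (.leaf (nat_lit 0x131))) (.node 1 (.leaf (nat_lit 0x132)) (.leaf (nat_lit 0x133)))) (.node 2 (.node 1 (.leaf (nat_lit 0x134)) (.leaf (nat_lit 0x135))) (.node 1 (.leaf (nat_lit 0x136)) (.leaf (nat_lit 0x137))))) (.node 4 (.node 2 (.node 1 (.leaf (nat_lit 0x138)) (.leaf (nat_lit 0x139))) (.node 1 (.leaf (nat_lit 0x13a)) (.leaf (nat_lit 0x13b)))) (.node 2 (.node 1 (.leaf (nat_lit 0x13c)) (.leaf (nat_lit 0x13d))) (.node 1 (.leaf (nat_lit 0x13e)) (.leaf (nat_lit 0x13f)))))))) (.node 32 (.node 16 (.node 8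 (.node 4 (.node 2 (.node 1 (.leaf (nat_lit 0x140)) (.leaf (nat_lit 0x141))) (.node 1 (.leaf (nat_lit 0x142)) (.leaf (nat_lit 0x143)))) (.node 2 (.node 1 (.leaf (nat_lit 0x144)) (.leaf (nat_lit 0x145))) (.node 1 (.leaf (nat_lit 0x146)) (.leaf (nat_lit 0x147))))) (.node 4 (.node 2 (.node 1 (.leaf (nat_lit 0x148)) (.leaf (nat_lit 0x149))) (.node 1 (.leaf (nat_lit 0x14a)) (.leaf (nat_lit 0x14b)))) (.node 2 (.node 1 (.leaf (nat_lit 0x14c)) (.leaf (nat_lit 0x14d))) (.node 1 (.leaf (nat_lit 0x14e)) (.leaf (nat_lit 0x14f)))))) (.node 8 (.node 4 (.node 2 (.node 1 (.leaf (nat_lit 0x150)) (.leaf (nat_lit 0x151))) (.node 1 (.leaf (nat_lit 0x152)) (.leaf (nat_lit 0x153)))) (.node 2 (.node 1 (.leaf (nat_lit 0x154)) (.leaf (nat_lit 0x155))) (.node 1 (.leaf (nat_lit 0x156)) (.leaf (nat_lit 0x157))))) (.node 4 (.node 2 (.node 1 (.leaf (nat_lit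 0x158)) (.leaf (nat_lit 0x159))) (.node 1 (.leaf (nat_lit 0x15a)) (.leaf (nat_lit 0x15b)))) (.node 2 (.node 1 (.leaf (nat_lit 0x15c)) (.leaf (nat_lit 0x15d))) (.node 1 (.leaf (nat_lit 0x15e)) (.leaf (nat_lit 0x15f))))))) (.node 16 (.node 8 (.node 4 (.node 2 (.node 1 (.leaf (nat_lit 0x160)) (.leaf (nat_lit 0x161))) (.node 1 (.leaf (nat_lit 0x162)) (.leaf (nat_lit 0x163)))) (.node 2 (.node 1 (.leaf (nat_lit 0x164)) (.leaf (nat_lit 0x165))) (.node 1 (.leaf (nat_lit 0x166)) (.leaf (nat_lit 0x167))))) (.node 4 (.node 2 (.node 1 (.leaf (nat_lit 0x168)) (.leaf (nat_lit 0x169))) (.node 1 (.leaf (nat_lit 0x16a)) (.leaf (nat_lit 0x16b)))) (.node 2 (.node 1 (.leaf (nat_lit 0x16c)) (.leaf (nat_lit 0x16d))) (.node 1 (.leaf (nat_lit 0x16e)) (.leaf (nat_lit 0x16f)))))) (.node 8 (.node 4 (.node 2 (.node 1 (.leaf (nat_lit 0x170)) (.leaf (nat_lit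 0x171))) (.node 1 (.leaf (nat_lit 0x172)) (.leaf (nat_lit 0x173)))) (.node 2 (.node 1 (.leaf (nat_lit 0x174)) (.leaf (nat_lit 0x175))) (.node 1 (.leaf (nat_lit 0x176)) (.leaf (nat_lit 0x177))))) (.node 4 (.node 2 (.node 1 (.leaf (nat_lit 0x178)) (.leaf (nat_lit 0x179))) (.node 1 (.leaf (nat_lit 0x17a)) (.leaf (nat_lit 0x17b)))) (.node 2 (.node 1 (.leaf (nat_lit 0x17c)) (.leaf (nat_lit 0x17d))) (.node 1 (.leaf (nat_lit 0x17e)) (.leaf (nat_lit 0x17f)))))))))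

noncomputable def M1id3 : Tree :=
  (.node 64 (.node 32 (.node 16 (.node 8 (.node 4 (.node 2 (.node 1 (.leaf (nat_lit 0x180)) (.leaf (nat_lit 0x181))) (.node 1 (.leaf (nat_lit 0x182)) (.leaf (nat_lit 0x183)))) (.node 2 (.node 1 (.leaf (nat_lit 0x184)) (.leaf (nat_lit 0x185))) (.node 1 (.leaf (nat_lit 0x186)) (.leaf (nat_lit 0x187))))) (.node 4 (.node 2 (.node 1 (.leaf (nat_lit 0x188)) (.leaf (nat_lit 0x189))) (.node 1 (.leaf (nat_lit 0x18a)) (.leaf (nat_lit 0x18b)))) (.node 2 (.node 1 (.leaf (nat_lit 0x18c)) (.leaf (nat_lit 0x18d))) (.node 1 (.leaf (nat_lit 0x18e)) (.leaf (nat_lit 0x18f)))))) (.node 8 (.node 4 (.node 2 (.node 1 (.leaf (nat_lit 0x190)) (.leaf (nat_lit 0x191))) (.node 1 (.leaf (nat_lit 0x192)) (.leaf (nat_lit 0x193)))) (.node 2 (.node 1 (.leaf (nat_lit 0x194)) (.leaf (nat_lit 0x195))) (.node 1 (.leaf (nat_lit 0x196))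 (.leaf (nat_lit 0x197))))) (.node 4 (.node 2 (.node 1 (.leaf (nat_lit 0x198)) (.leaf (nat_lit 0x199))) (.node 1 (.leaf (nat_lit 0x19a)) (.leaf (nat_lit 0x19b)))) (.node 2 (.node 1 (.leaf (nat_lit 0x19c)) (.leaf (nat_lit 0x19d))) (.node 1 (.leaf (nat_lit 0x19e)) (.leaf (nat_lit 0x19f))))))) (.node 16 (.node 8 (.node 4 (.node 2 (.node 1 (.leaf (nat_lit 0x1a0)) (.leaf (nat_lit 0x1a1))) (.node 1 (.leaf (nat_lit 0x1a2)) (.leaf (nat_lit 0x1a3)))) (.node 2 (.node 1 (.leaf (nat_lit 0x1a4)) (.leaf (nat_lit 0x1a5))) (.node 1 (.leaf (nat_lit 0x1a6)) (.leaf (nat_lit 0x1a7))))) (.node 4 (.node 2 (.node 1 (.leaf (nat_lit 0x1a8)) (.leaf (nat_lit 0x1a9))) (.node 1 (.leaf (nat_lit 0x1aa)) (.leaf (nat_lit 0x1ab)))) (.node 2 (.node 1 (.leaf (nat_lit 0x1ac)) (.leaf (nat_lit 0x1ad))) (.node 1 (.leaf (nat_lit 0x1ae)) (.leaf (nat_lit 0x1af)))))) (.node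 8 (.node 4 (.node 2 (.node 1 (.leaf (nat_lit 0x1b0)) (.leaf (nat_lit 0x1b1))) (.node 1 (.leaf (nat_lit 0x1b2)) (.leaf (nat_lit 0x1b3)))) (.node 2 (.node 1 (.leaf (nat_lit 0x1b4)) (.leaf (nat_lit 0x1b5))) (.node 1 (.leaf (nat_lit 0x1b6)) (.leaf (nat_lit 0x1b7))))) (.node 4 (.node 2 (.node 1 (.leaf (nat_lit 0x1b8)) (.leaf (nat_lit 0x1b9))) (.node 1 (.leaf (nat_lit 0x1ba)) (.leaf (nat_lit 0x1bb)))) (.node 2 (.node 1 (.leaf (nat_lit 0x1bc)) (.leaf (nat_lit 0x1bd))) (.node 1 (.leaf (nat_lit 0x1be)) (.leaf (nat_lit 0x1bf)))))))) (.node 32 (.node 16 (.node 8 (.node 4 (.node 2 (.node 1 (.leaf (nat_lit 0x1c0)) (.leaf (nat_lit 0x1c1))) (.node 1 (.leaf (nat_lit 0x1c2)) (.leaf (nat_lit 0x1c3)))) (.node 2 (.node 1 (.leaf (nat_lit 0x1c4)) (.leaf (nat_lit 0x1c5))) (.node 1 (.leaf (nat_lit 0x1c6)) (.leaf (nat_lit 0x1c7))))) (.node 4 (.node 2 (.node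 1 (.leaf (nat_lit 0x1c8)) (.leaf (nat_lit 0x1c9))) (.node 1 (.leaf (nat_lit 0x1ca)) (.leaf (nat_lit 0x1cb)))) (.node 2 (.node 1 (.leaf (nat_lit 0x1cc)) (.leaf (nat_lit 0x1cd))) (.node 1 (.leaf (nat_lit 0x1ce)) (.leaf (nat_lit 0x1cf)))))) (.node 8 (.node 4 (.node 2 (.node 1 (.leaf (nat_lit 0x1d0)) (.leaf (nat_lit 0x1d1))) (.node 1 (.leaf (nat_lit 0x1d2)) (.leaf (nat_lit 0x1d3)))) (.node 2 (.node 1 (.leaf (nat_lit 0x1d4)) (.leaf (nat_lit 0x1d5))) (.node 1 (.leaf (nat_lit 0x1d6)) (.leaf (nat_lit 0x1d7))))) (.node 4 (.node 2 (.node 1 (.leaf (nat_lit 0x1d8)) (.leaf (nat_lit 0x1d9))) (.node 1 (.leaf (nat_lit 0x1da)) (.leaf (nat_lit 0x1db)))) (.node 2 (.node 1 (.leaf (nat_lit 0x1dc)) (.leaf (nat_lit 0x1dd))) (.node 1 (.leaf (nat_lit 0x1de)) (.leaf (nat_lit 0x1df))))))) (.node 16 (.node 8 (.node 4 (.node 2 (.node 1 (.leaf (nat_lit 0x1e0))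 (.leaf (nat_lit 0x1e1))) (.node 1 (.leaf (nat_lit 0x1e2)) (.leaf (nat_lit 0x1e3)))) (.node 2 (.node 1 (.leaf (nat_lit 0x1e4)) (.leaf (nat_lit 0x1e5))) (.node 1 (.leaf (nat_lit 0x1e6)) (.leaf (nat_lit 0x1e7))))) (.node 4 (.node 2 (.node 1 (.leaf (nat_lit 0x1e8)) (.leaf (nat_lit 0x1e9))) (.node 1 (.leaf (nat_lit 0x1ea)) (.leaf (nat_lit 0x1eb)))) (.node 2 (.node 1 (.leaf (nat_lit 0x1ec)) (.leaf (nat_lit 0x1ed))) (.node 1 (.leaf (nat_lit 0x1ee)) (.leaf (nat_lit 0x1ef)))))) (.node 8 (.node 4 (.node 2 (.node 1 (.leaf (nat_lit 0x1f0)) (.leaf (nat_lit 0x1f1))) (.node 1 (.leaf (nat_lit 0x1f2)) (.leaf (nat_lit 0x1f3)))) (.node 2 (.node 1 (.leaf (nat_lit 0x1f4)) (.leaf (nat_lit 0x1f5))) (.node 1 (.leaf (nat_lit 0x1f6)) (.leaf (nat_lit 0x1f7))))) (.node 4 (.node 2 (.node 1 (.leaf (nat_lit 0x1f8)) (.leaf (nat_lit 0x1f9))) (.node 1 (.leaf (nat_lit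 0x1fa)) (.leaf (nat_lit 0x1fb)))) (.node 2 (.node 1 (.leaf (nat_lit 0x1fc)) (.leaf (nat_lit 0x1fd))) (.node 1 (.leaf (nat_lit 0x1fe)) (.leaf (nat_lit 0x1ff)))))))))

noncomputable def M1id4 : Tree :=
  (.node 64 (.node 32 (.node 16 (.node 8 (.node 4 (.node 2 (.node 1 (.leaf (nat_lit 0x200)) (.leaf (nat_lit 0x201))) (.node 1 (.leaf (nat_lit 0x202)) (.leaf (nat_lit 0x203)))) (.node 2 (.node 1 (.leaf (nat_lit 0x204)) (.leaf (nat_lit 0x205))) (.node 1 (.leaf (nat_lit 0x206)) (.leaf (nat_lit 0x207))))) (.node 4 (.node 2 (.node 1 (.leaf (nat_lit 0x208)) (.leaf (nat_lit 0x209))) (.node 1 (.leaf (nat_lit 0x20a)) (.leaf (nat_lit 0x20b)))) (.node 2 (.node 1 (.leaf (nat_lit 0x20c)) (.leaf (nat_lit 0x20d))) (.node 1 (.leaf (nat_lit 0x20e)) (.leaf (nat_lit 0x20f)))))) (.node 8 (.node 4 (.node 2 (.node 1 (.leaf (nat_lit 0x210)) (.leaf (nat_lit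 0x211))) (.node 1 (.leaf (nat_lit 0x212)) (.leaf (nat_lit 0x213)))) (.node 2 (.node 1 (.leaf (nat_lit 0x214)) (.leaf (nat_lit 0x215))) (.node 1 (.leaf (nat_lit 0x216)) (.leaf (nat_lit 0x217))))) (.node 4 (.node 2 (.node 1 (.leaf (nat_lit 0x218)) (.leaf (nat_lit 0x219))) (.node 1 (.leaf (nat_lit 0x21a)) (.leaf (nat_lit 0x21b)))) (.node 2 (.node 1 (.leaf (nat_lit 0x21c)) (.leaf (nat_lit 0x21d))) (.node 1 (.leaf (nat_lit 0x21e)) (.leaf (nat_lit 0x21f))))))) (.node 16 (.node 8 (.node 4 (.node 2 (.node 1 (.leaf (nat_lit 0x220)) (.leaf (nat_lit 0x221))) (.node 1 (.leaf (nat_lit 0x222)) (.leaf (nat_lit 0x223)))) (.node 2 (.node 1 (.leaf (nat_lit 0x224)) (.leaf (nat_lit 0x225))) (.node 1 (.leaf (nat_lit 0x226)) (.leaf (nat_lit 0x227))))) (.node 4 (.node 2 (.node 1 (.leaf (nat_lit 0x228)) (.leaf (nat_lit 0x229))) (.node 1 (.leaf (nat_lit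 0x22a)) (.leaf (nat_lit 0x22b)))) (.node 2 (.node 1 (.leaf (nat_lit 0x22c)) (.leaf (nat_lit 0x22d))) (.node 1 (.leaf (nat_lit 0x22e)) (.leaf (nat_lit 0x22f)))))) (.node 8 (.node 4 (.node 2 (.node 1 (.leaf (nat_lit 0x230)) (.leaf (nat_lit 0x231))) (.node 1 (.leaf (nat_lit 0x232)) (.leaf (nat_lit 0x233)))) (.node 2 (.node 1 (.leaf (nat_lit 0x234)) (.leaf (nat_lit 0x235))) (.node 1 (.leaf (nat_lit 0x236)) (.leaf (nat_lit 0x237))))) (.node 4 (.node 2 (.node 1 (.leaf (nat_lit 0x238)) (.leaf (nat_lit 0x239))) (.node 1 (.leaf (nat_lit 0x23a)) (.leaf (nat_lit 0x23b)))) (.node 2 (.node 1 (.leaf (nat_lit 0x23c)) (.leaf (nat_lit 0x23d))) (.node 1 (.leaf (nat_lit 0x23e)) (.leaf (nat_lit 0x23f)))))))) (.node 32 (.node 16 (.node 8 (.node 4 (.node 2 (.node 1 (.leaf (nat_lit 0x240)) (.leaf (nat_lit 0x241))) (.node 1 (.leaf (nat_lit 0x242)) (.leaf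 (nat_lit 0x243)))) (.node 2 (.node 1 (.leaf (nat_lit 0x244)) (.leaf (nat_lit 0x245))) (.node 1 (.leaf (nat_lit 0x246)) (.leaf (nat_lit 0x247))))) (.node 4 (.node 2 (.node 1 (.leaf (nat_lit 0x248)) (.leaf (nat_lit 0x249))) (.node 1 (.leaf (nat_lit 0x24a)) (.leaf (nat_lit 0x24b)))) (.node 2 (.node 1 (.leaf (nat_lit 0x24c)) (.leaf (nat_lit 0x24d))) (.node 1 (.leaf (nat_lit 0x24e)) (.leaf (nat_lit 0x24f)))))) (.node 8 (.node 4 (.node 2 (.node 1 (.leaf (nat_lit 0x250)) (.leaf (nat_lit 0x251))) (.node 1 (.leaf (nat_lit 0x252)) (.leaf (nat_lit 0x253)))) (.node 2 (.node 1 (.leaf (nat_lit 0x254)) (.leaf (nat_lit 0x255))) (.node 1 (.leaf (nat_lit 0x256)) (.leaf (nat_lit 0x257))))) (.node 4 (.node 2 (.node 1 (.leaf (nat_lit 0x258)) (.leaf (nat_lit 0x259))) (.node 1 (.leaf (nat_lit 0x25a)) (.leaf (nat_lit 0x25b)))) (.node 2 (.node 1 (.leaf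 (nat_lit 0x25c)) (.leaf (nat_lit 0x25d))) (.node 1 (.leaf (nat_lit 0x25e)) (.leaf (nat_lit 0x25f))))))) (.node 16 (.node 8 (.node 4 (.node 2 (.node 1 (.leaf (nat_lit 0x260)) (.leaf (nat_lit 0x261))) (.node 1 (.leaf (nat_lit 0x262)) (.leaf (nat_lit 0x263)))) (.node 2 (.node 1 (.leaf (nat_lit 0x264)) (.leaf (nat_lit 0x265))) (.node 1 (.leaf (nat_lit 0x266)) (.leaf (nat_lit 0x267))))) (.node 4 (.node 2 (.node 1 (.leaf (nat_lit 0x268)) (.leaf (nat_lit 0x269))) (.node 1 (.leaf (nat_lit 0x26a)) (.leaf (nat_lit 0x26b)))) (.node 2 (.node 1 (.leaf (nat_lit 0x26c)) (.leaf (nat_lit 0x26d))) (.node 1 (.leaf (nat_lit 0x26e)) (.leaf (nat_lit 0x26f)))))) (.node 8 (.node 4 (.node 2 (.node 1 (.leaf (nat_lit 0x270)) (.leaf (nat_lit 0x271))) (.node 1 (.leaf (nat_lit 0x272)) (.leaf (nat_lit 0x273)))) (.node 2 (.node 1 (.leaf (nat_lit 0x274)) (.leaf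 (nat_lit 0x275))) (.node 1 (.leaf (nat_lit 0x276)) (.leaf (nat_lit 0x277))))) (.node 4 (.node 2 (.node 1 (.leaf (nat_lit 0x278)) (.leaf (nat_lit 0x279))) (.node 1 (.leaf (nat_lit 0x27a)) (.leaf (nat_lit 0x27b)))) (.node 2 (.node 1 (.leaf (nat_lit 0x27c)) (.leaf (nat_lit 0x27d))) (.node 1 (.leaf (nat_lit 0x27e)) (.leaf (nat_lit 0x27f)))))))))

noncomputable def M1id5 : Tree :=
  (.node 44 (.node 22 (.node 11 (.node 5 (.node 2 (.node 1 (.leaf (nat_lit 0x280)) (.leaf (nat_lit 0x281))) (.node 1 (.leaf (nat_lit 0x282)) (.node 1 (.leaf (nat_lit 0x283)) (.leaf (nat_lit 0x284))))) (.node 3 (.node 1 (.leaf (nat_lit 0x285)) (.node 1 (.leaf (nat_lit 0x286)) (.leaf (nat_lit 0x287)))) (.node 1 (.leaf (nat_lit 0x288)) (.node 1 (.leaf (nat_lit 0x289)) (.leaf (nat_lit 0x28a)))))) (.node 5 (.node 2 (.node 1 (.leaf (nat_lit 0x28b)) (.leaf (nat_lit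 0x28c))) (.node 1 (.leaf (nat_lit 0x28d)) (.node 1 (.leaf (nat_lit 0x28e)) (.leaf (nat_lit 0x28f))))) (.node 3 (.node 1 (.leaf (nat_lit 0x290)) (.node 1 (.leaf (nat_lit 0x291)) (.leaf (nat_lit 0x292)))) (.node 1 (.leaf (nat_lit 0x293)) (.node 1 (.leaf (nat_lit 0x294)) (.leaf (nat_lit 0x295))))))) (.node 11 (.node 5 (.node 2 (.node 1 (.leaf (nat_lit 0x296)) (.leaf (nat_lit 0x297))) (.node 1 (.leaf (nat_lit 0x298)) (.node 1 (.leaf (nat_lit 0x299)) (.leaf (nat_lit 0x29a))))) (.node 3 (.node 1 (.leaf (nat_lit 0x29b)) (.node 1 (.leaf (nat_lit 0x29c)) (.leaf (nat_lit 0x29d)))) (.node 1 (.leaf (nat_lit 0x29e)) (.node 1 (.leaf (nat_lit 0x29f)) (.leaf (nat_lit 0x2a0)))))) (.node 5 (.node 2 (.node 1 (.leaf (nat_lit 0x2a1)) (.leaf (nat_lit 0x2a2))) (.node 1 (.leaf (nat_lit 0x2a3)) (.node 1 (.leaf (nat_lit 0x2a4)) (.leaf (nat_lit 0x2a5)))))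 (.node 3 (.node 1 (.leaf (nat_lit 0x2a6)) (.node 1 (.leaf (nat_lit 0x2a7)) (.leaf (nat_lit 0x2a8)))) (.node 1 (.leaf (nat_lit 0x2a9)) (.node 1 (.leaf (nat_lit 0x2aa)) (.leaf (nat_lit 0x2ab)))))))) (.node 22 (.node 11 (.node 5 (.node 2 (.node 1 (.leaf (nat_lit 0x2ac)) (.leaf (nat_lit 0x2ad))) (.node 1 (.leaf (nat_lit 0x2ae)) (.node 1 (.leaf (nat_lit 0x2af)) (.leaf (nat_lit 0x2b0))))) (.node 3 (.node 1 (.leaf (nat_lit 0x2b1)) (.node 1 (.leaf (nat_lit 0x2b2)) (.leaf (nat_lit 0x2b3)))) (.node 1 (.leaf (nat_lit 0x2b4)) (.node 1 (.leaf (nat_lit 0x2b5)) (.leaf (nat_lit 0x2b6)))))) (.node 5 (.node 2 (.node 1 (.leaf (nat_lit 0x2b7)) (.leaf (nat_lit 0x2b8))) (.node 1 (.leaf (nat_lit 0x2b9)) (.node 1 (.leaf (nat_lit 0x2ba)) (.leaf (nat_lit 0x2bb))))) (.node 3 (.node 1 (.leaf (nat_lit 0x2bc)) (.node 1 (.leaf (nat_lit 0x2bd)) (.leaf (nat_lit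 0x2be)))) (.node 1 (.leaf (nat_lit 0x2bf)) (.node 1 (.leaf (nat_lit 0x2c0)) (.leaf (nat_lit 0x2c1))))))) (.node 11 (.node 5 (.node 2 (.node 1 (.leaf (nat_lit 0x2c2)) (.leaf (nat_lit 0x2c3))) (.node 1 (.leaf (nat_lit 0x2c4)) (.node 1 (.leaf (nat_lit 0x2c5)) (.leaf (nat_lit 0x2c6))))) (.node 3 (.node 1 (.leaf (nat_lit 0x2c7)) (.node 1 (.leaf (nat_lit 0x2c8)) (.leaf (nat_lit 0x2c9)))) (.node 1 (.leaf (nat_lit 0x2ca)) (.node 1 (.leaf (nat_lit 0x2cb)) (.leaf (nat_lit 0x2cc)))))) (.node 5 (.node 2 (.node 1 (.leaf (nat_lit 0x2cd)) (.leaf (nat_lit 0x2ce))) (.node 1 (.leaf (nat_lit 0x2cf)) (.node 1 (.leaf (nat_lit 0x2d0)) (.leaf (nat_lit 0x2d1))))) (.node 3 (.node 1 (.leaf (nat_lit 0x2d2)) (.node 1 (.leaf (nat_lit 0x2d3)) (.leaf (nat_lit 0x2d4)))) (.node 1 (.leaf (nat_lit 0x2d5)) (.node 1 (.leaf (nat_lit 0x2d6)) (.leaf (nat_lit 0x2d7)))))))))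

noncomputable def M1id : Tree :=
  (.node 384 (.node 128 M1id0 (.node 128 M1id1 M1id2)) (.node 128 M1id3 (.node 128 M1id4 M1id5)))

noncomputable def M1g0x0 : Tree :=
  (.node 64 (.node 32 (.node 16 (.node 8 (.node 4 (.node 2 (.node 1 (.leaf (nat_lit 0)) (.leaf (nat_lit 1))) (.node 1 (.leaf (nat_lit 2)) (.leaf (nat_lit 4)))) (.node 2 (.node 1 (.leaf (nat_lit 3)) (.leaf (nat_lit 5))) (.node 1 (.leaf (nat_lit 6)) (.leaf (nat_lit 7))))) (.node 4 (.node 2 (.node 1 (.leaf (nat_lit 0xb)) (.leaf (nat_lit 9))) (.node 1 (.leaf (nat_lit 0xd)) (.leaf (nat_lit 8)))) (.node 2 (.node 1 (.leaf (nat_lit 0x10)) (.leaf (nat_lit 0xa))) (.node 1 (.leaf (nat_lit 0x13)) (.leaf (nat_lit 0xf)))))) (.node 8 (.node 4 (.node 2 (.node 1 (.leaf (nat_lit 0xc)) (.leaf (nat_lit 0x11))) (.node 1 (.leaf (nat_lit 0x12)) (.leaf (nat_lit 0xe)))) (.node 2 (.node 1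 (.leaf (nat_lit 0x14)) (.leaf (nat_lit 0x15))) (.node 1 (.leaf (nat_lit 0x16)) (.leaf (nat_lit 0x17))))) (.node 4 (.node 2 (.node 1 (.leaf (nat_lit 0x22)) (.leaf (nat_lit 0x19))) (.node 1 (.leaf (nat_lit 0x1a)) (.leaf (nat_lit 0x1b)))) (.node 2 (.node 1 (.leaf (nat_lit 0x1c)) (.leaf (nat_lit 0x1d))) (.node 1 (.leaf (nat_lit 0x28)) (.leaf (nat_lit 0x1f))))))) (.node 16 (.node 8 (.node 4 (.node 2 (.node 1 (.leaf (nat_lit 0x2b)) (.leaf (nat_lit 0x21))) (.node 1 (.leaf (nat_lit 0x18)) (.leaf (nat_lit 0x2f)))) (.node 2 (.node 1 (.leaf (nat_lit 0x31)) (.leaf (nat_lit 0x32))) (.node 1 (.leaf (nat_lit 0x26)) (.leaf (nat_lit 0x34))))) (.node 4 (.node 2 (.node 1 (.leaf (nat_lit 0x1e)) (.leaf (nat_lit 0x36))) (.node 1 (.leaf (nat_lit 0x2a)) (.leaf (nat_lit 0x20)))) (.node 2 (.node 1 (.leaf (nat_lit 0x3b)) (.leaf (nat_lit 0x3d))) (.node 1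 (.leaf (nat_lit 0x2e)) (.leaf (nat_lit 0x23)))))) (.node 8 (.node 4 (.node 2 (.node 1 (.leaf (nat_lit 0x40)) (.leaf (nat_lit 0x24))) (.node 1 (.leaf (nat_lit 0x25)) (.leaf (nat_lit 0x43)))) (.node 2 (.node 1 (.leaf (nat_lit 0x27)) (.leaf (nat_lit 0x35))) (.node 1 (.leaf (nat_lit 0x29)) (.leaf (nat_lit 0x49))))) (.node 4 (.node 2 (.node 1 (.leaf (nat_lit 0x4b)) (.leaf (nat_lit 0x39))) (.node 1 (.leaf (nat_lit 0x3a)) (.leaf (nat_lit 0x2c)))) (.node 2 (.node 1 (.leaf (nat_lit 0x50)) (.leaf (nat_lit 0x2d))) (.node 1 (.leaf (nat_lit 0x3e)) (.leaf (nat_lit 0x54)))))))) (.node 32 (.node 16 (.node 8 (.node 4 (.node 2 (.node 1 (.leaf (nat_lit 0x30)) (.leaf (nat_lit 0x56))) (.node 1 (.leaf (nat_lit 0x55)) (.leaf (nat_lit 0x33)))) (.node 2 (.node 1 (.leaf (nat_lit 0x44)) (.leaf (nat_lit 0x45))) (.node 1 (.leaf (nat_lit 0x46)) (.leaf (nat_lit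 0x47))))) (.node 4 (.node 2 (.node 1 (.leaf (nat_lit 0x48)) (.leaf (nat_lit 0x37))) (.node 1 (.leaf (nat_lit 0x62)) (.leaf (nat_lit 0x38)))) (.node 2 (.node 1 (.leaf (nat_lit 0x65)) (.leaf (nat_lit 0x4d))) (.node 1 (.leaf (nat_lit 0x4e)) (.leaf (nat_lit 0x69)))))) (.node 8 (.node 4 (.node 2 (.node 1 (.leaf (nat_lit 0x3c)) (.leaf (nat_lit 0x51))) (.node 1 (.leaf (nat_lit 0x6b)) (.leaf (nat_lit 0x6e)))) (.node 2 (.node 1 (.leaf (nat_lit 0x3f)) (.leaf (nat_lit 0x42))) (.node 1 (.leaf (nat_lit 0x41)) (.leaf (nat_lit 0x73))))) (.node 4 (.node 2 (.node 1 (.leaf (nat_lit 0x71)) (.leaf (nat_lit 0x59))) (.node 1 (.leaf (nat_lit 0x5a)) (.leaf (nat_lit 0x78)))) (.node 2 (.node 1 (.leaf (nat_lit 0x5c)) (.leaf (nat_lit 0x5d))) (.node 1 (.leaf (nat_lit 0x7c)) (.leaf (nat_lit 0x5f))))))) (.node 16 (.node 8 (.node 4 (.node 2 (.node 1 (.leaf (nat_lit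 0x60)) (.leaf (nat_lit 0x80))) (.node 1 (.leaf (nat_lit 0x4a)) (.leaf (nat_lit 0x63)))) (.node 2 (.node 1 (.leaf (nat_lit 0x82)) (.leaf (nat_lit 0x4c))) (.node 1 (.leaf (nat_lit 0x87)) (.leaf (nat_lit 0x89))))) (.node 4 (.node 2 (.node 1 (.leaf (nat_lit 0x8a)) (.leaf (nat_lit 0x4f))) (.node 1 (.leaf (nat_lit 0x6a)) (.leaf (nat_lit 0x52)))) (.node 2 (.node 1 (.leaf (nat_lit 0x90)) (.leaf (nat_lit 0x8f))) (.node 1 (.leaf (nat_lit 0x53)) (.leaf (nat_lit 0x6f)))))) (.node 8 (.node 4 (.node 2 (.node 1 (.leaf (nat_lit 0x70)) (.leaf (nat_lit 0x58))) (.node 1 (.leaf (nat_lit 0x72)) (.leaf (nat_lit 0x57)))) (.node 2 (.node 1 (.leaf (nat_lit 0x97)) (.leaf (nat_lit 0x75))) (.node 1 (.leaf (nat_lit 0x9b)) (.leaf (nat_lit 0x77))))) (.node 4 (.node 2 (.node 1 (.leaf (nat_lit 0x5b)) (.leaf (nat_lit 0x9d))) (.node 1 (.leaf (nat_lit 0x9f)) (.leaf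 (nat_lit 0x7b)))) (.node 2 (.node 1 (.leaf (nat_lit 0x5e)) (.leaf (nat_lit 0xa3))) (.node 1 (.leaf (nat_lit 0xa5)) (.leaf (nat_lit 0xa6)))))))))

noncomputable def M1g0x1 : Tree :=
  (.node 64 (.node 32 (.node 16 (.node 8 (.node 4 (.node 2 (.node 1 (.leaf (nat_lit 0x61)) (.leaf (nat_lit 0x81))) (.node 1 (.leaf (nat_lit 0x64)) (.leaf (nat_lit 0x83)))) (.node 2 (.node 1 (.leaf (nat_lit 0xad)) (.leaf (nat_lit 0xab))) (.node 1 (.leaf (nat_lit 0x86)) (.leaf (nat_lit 0x66))))) (.node 4 (.node 2 (.node 1 (.leaf (nat_lit 0xb2)) (.leaf (nat_lit 0x67))) (.node 1 (.leaf (nat_lit 0x68)) (.leaf (nat_lit 0xb3)))) (.node 2 (.node 1 (.leaf (nat_lit 0x8c)) (.leaf (nat_lit 0x8d))) (.node 1 (.leaf (nat_lit 0xbc)) (.leaf (nat_lit 0x6d)))))) (.node 8 (.node 4 (.node 2 (.node 1 (.leaf (nat_lit 0x6c)) (.leaf (nat_lit 0xbe))) (.node 1 (.leaf (nat_lit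 0x92)) (.leaf (nat_lit 0x93)))) (.node 2 (.node 1 (.leaf (nat_lit 0x94)) (.leaf (nat_lit 0xc5))) (.node 1 (.leaf (nat_lit 0x96)) (.leaf (nat_lit 0x74))))) (.node 4 (.node 2 (.node 1 (.leaf (nat_lit 0x98)) (.leaf (nat_lit 0x99))) (.node 1 (.leaf (nat_lit 0xc9)) (.leaf (nat_lit 0x76)))) (.node 2 (.node 1 (.leaf (nat_lit 0xcb)) (.leaf (nat_lit 0x79))) (.node 1 (.leaf (nat_lit 0x9e)) (.leaf (nat_lit 0x7a))))))) (.node 16 (.node 8 (.node 4 (.node 2 (.node 1 (.leaf (nat_lit 0xcf)) (.leaf (nat_lit 0xd1))) (.node 1 (.leaf (nat_lit 0xa2)) (.leaf (nat_lit 0x7d)))) (.node 2 (.node 1 (.leaf (nat_lit 0xd5)) (.leaf (nat_lit 0x7e))) (.node 1 (.leaf (nat_lit 0x7f)) (.leaf (nat_lit 0xd6))))) (.node 4 (.node 2 (.node 1 (.leaf (nat_lit 0xa8)) (.leaf (nat_lit 0xa9))) (.node 1 (.leaf (nat_lit 0xdf)) (.leaf (nat_lit 0x85)))) (.node 2 (.node 1 (.leaf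 (nat_lit 0xe1)) (.leaf (nat_lit 0x84))) (.node 1 (.leaf (nat_lit 0xe3)) (.leaf (nat_lit 0xaf)))))) (.node 8 (.node 4 (.node 2 (.node 1 (.leaf (nat_lit 0xb0)) (.leaf (nat_lit 0xe5))) (.node 1 (.leaf (nat_lit 0x88)) (.leaf (nat_lit 0x8b)))) (.node 2 (.node 1 (.leaf (nat_lit 0xb4)) (.leaf (nat_lit 0xe6))) (.node 1 (.leaf (nat_lit 0xb6)) (.leaf (nat_lit 0xe8))))) (.node 4 (.node 2 (.node 1 (.leaf (nat_lit 0xf0)) (.leaf (nat_lit 0xb9))) (.node 1 (.leaf (nat_lit 0xba)) (.leaf (nat_lit 0xf3)))) (.node 2 (.node 1 (.leaf (nat_lit 0x8e)) (.leaf (nat_lit 0xf5))) (.node 1 (.leaf (nat_lit 0x91)) (.leaf (nat_lit 0xbf)))))))) (.node 32 (.node 16 (.node 8 (.node 4 (.node 2 (.node 1 (.leaf (nat_lit 0xc0)) (.leaf (nat_lit 0xf9))) (.node 1 (.leaf (nat_lit 0xc2)) (.leaf (nat_lit 0xc3)))) (.node 2 (.node 1 (.leaf (nat_lit 0xfc)) (.leaf (nat_lit 0x95)))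 (.node 1 (.leaf (nat_lit 0xfe)) (.leaf (nat_lit 0xc7))))) (.node 4 (.node 2 (.node 1 (.leaf (nat_lit 0xc8)) (.leaf (nat_lit 0x9a))) (.node 1 (.leaf (nat_lit 0x101)) (.leaf (nat_lit 0x9c)))) (.node 2 (.node 1 (.leaf (nat_lit 0xcc)) (.leaf (nat_lit 0xcd))) (.node 1 (.leaf (nat_lit 0xce)) (.leaf (nat_lit 0xa0)))))) (.node 8 (.node 4 (.node 2 (.node 1 (.leaf (nat_lit 0x108)) (.leaf (nat_lit 0xa1))) (.node 1 (.leaf (nat_lit 0xd2)) (.leaf (nat_lit 0xd3)))) (.node 2 (.node 1 (.leaf (nat_lit 0x10b)) (.leaf (nat_lit 0xa4))) (.node 1 (.leaf (nat_lit 0xa7)) (.leaf (nat_lit 0xd7))))) (.node 4 (.node 2 (.node 1 (.leaf (nat_lit 0x10c)) (.leaf (nat_lit 0xd9))) (.node 1 (.leaf (nat_lit 0x10e)) (.leaf (nat_lit 0x116)))) (.node 2 (.node 1 (.leaf (nat_lit 0xdc)) (.leaf (nat_lit 0xdd))) (.node 1 (.leaf (nat_lit 0x119)) (.leaf (nat_lit 0xaa)))))))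 (.node 16 (.node 8 (.node 4 (.node 2 (.node 1 (.leaf (nat_lit 0x11b)) (.leaf (nat_lit 0xac))) (.node 1 (.leaf (nat_lit 0x11e)) (.leaf (nat_lit 0xae)))) (.node 2 (.node 1 (.leaf (nat_lit 0xe4)) (.leaf (nat_lit 0xb1))) (.node 1 (.leaf (nat_lit 0xb5)) (.leaf (nat_lit 0xe7))))) (.node 4 (.node 2 (.node 1 (.leaf (nat_lit 0xb7)) (.leaf (nat_lit 0x125))) (.node 1 (.leaf (nat_lit 0xea)) (.leaf (nat_lit 0x121)))) (.node 2 (.node 1 (.leaf (nat_lit 0x129)) (.leaf (nat_lit 0xed))) (.node 1 (.leaf (nat_lit 0x123)) (.leaf (nat_lit 0x12c)))))) (.node 8 (.node 4 (.node 2 (.node 1 (.leaf (nat_lit 0xb8)) (.leaf (nat_lit 0x12e))) (.node 1 (.leaf (nat_lit 0x130)) (.leaf (nat_lit 0xbb)))) (.node 2 (.node 1 (.leaf (nat_lit 0x132)) (.leaf (nat_lit 0xbd))) (.node 1 (.leaf (nat_lit 0x12f)) (.leaf (nat_lit 0xf7))))) (.node 4 (.node 2 (.node 1 (.leaf (nat_lit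 0x135)) (.leaf (nat_lit 0xc1))) (.node 1 (.leaf (nat_lit 0x137)) (.leaf (nat_lit 0x139)))) (.node 2 (.node 1 (.leaf (nat_lit 0xc4)) (.leaf (nat_lit 0x13c))) (.node 1 (.leaf (nat_lit 0xc6)) (.leaf (nat_lit 0xff)))))))))

noncomputable def M1g0x2 : Tree :=
  (.node 64 (.node 32 (.node 16 (.node 8 (.node 4 (.node 2 (.node 1 (.leaf (nat_lit 0x100)) (.leaf (nat_lit 0xca))) (.node 1 (.leaf (nat_lit 0x102)) (.leaf (nat_lit 0x140)))) (.node 2 (.node 1 (.leaf (nat_lit 0x104)) (.leaf (nat_lit 0x105))) (.node 1 (.leaf (nat_lit 0x106)) (.leaf (nat_lit 0x144))))) (.node 4 (.node 2 (.node 1 (.leaf (nat_lit 0xd0)) (.leaf (nat_lit 0x109))) (.node 1 (.leaf (nat_lit 0x10a)) (.leaf (nat_lit 0xd4)))) (.node 2 (.node 1 (.leaf (nat_lit 0xd8)) (.leaf (nat_lit 0x10d))) (.node 1 (.leaf (nat_lit 0xda)) (.leaf (nat_lit 0x14f)))))) (.node 8 (.node 4 (.node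 2 (.node 1 (.leaf (nat_lit 0x110)) (.leaf (nat_lit 0x14b))) (.node 1 (.leaf (nat_lit 0x153)) (.leaf (nat_lit 0x113)))) (.node 2 (.node 1 (.leaf (nat_lit 0x14d)) (.leaf (nat_lit 0x156))) (.node 1 (.leaf (nat_lit 0xdb)) (.leaf (nat_lit 0x158))))) (.node 4 (.node 2 (.node 1 (.leaf (nat_lit 0x15a)) (.leaf (nat_lit 0xde))) (.node 1 (.leaf (nat_lit 0x15d)) (.leaf (nat_lit 0xe0)))) (.node 2 (.node 1 (.leaf (nat_lit 0x159)) (.leaf (nat_lit 0x11d))) (.node 1 (.leaf (nat_lit 0xe2)) (.leaf (nat_lit 0x11f))))))) (.node 16 (.node 8 (.node 4 (.node 2 (.node 1 (.leaf (nat_lit 0x120)) (.leaf (nat_lit 0xeb))) (.node 1 (.leaf (nat_lit 0x164)) (.leaf (nat_lit 0xee)))) (.node 2 (.node 1 (.leaf (nat_lit 0x166)) (.leaf (nat_lit 0xe9))) (.node 1 (.leaf (nat_lit 0x168)) (.leaf (nat_lit 0x162))))) (.node 4 (.node 2 (.node 1 (.leaf (nat_lit 0x16b)) (.leaf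 (nat_lit 0xec))) (.node 1 (.leaf (nat_lit 0x16d)) (.leaf (nat_lit 0x16f)))) (.node 2 (.node 1 (.leaf (nat_lit 0xef)) (.leaf (nat_lit 0x172))) (.node 1 (.leaf (nat_lit 0xf1)) (.leaf (nat_lit 0xf6)))))) (.node 8 (.node 4 (.node 2 (.node 1 (.leaf (nat_lit 0xf2)) (.leaf (nat_lit 0x174))) (.node 1 (.leaf (nat_lit 0xf4)) (.leaf (nat_lit 0x173)))) (.node 2 (.node 1 (.leaf (nat_lit 0x176)) (.leaf (nat_lit 0xf8))) (.node 1 (.leaf (nat_lit 0x179)) (.leaf (nat_lit 0xfa))))) (.node 4 (.node 2 (.node 1 (.leaf (nat_lit 0x138)) (.leaf (nat_lit 0xfb))) (.node 1 (.leaf (nat_lit 0x17e)) (.leaf (nat_lit 0x171)))) (.node 2 (.node 1 (.leaf (nat_lit 0xfd)) (.leaf (nat_lit 0x13d))) (.node 1 (.leaf (nat_lit 0x13e)) (.leaf (nat_lit 0x181)))))))) (.node 32 (.node 16 (.node 8 (.node 4 (.node 2 (.node 1 (.leaf (nat_lit 0x103)) (.leaf (nat_lit 0x182))) (.node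 1 (.leaf (nat_lit 0x184)) (.leaf (nat_lit 0x185)))) (.node 2 (.node 1 (.leaf (nat_lit 0x107)) (.leaf (nat_lit 0x145))) (.node 1 (.leaf (nat_lit 0x146)) (.leaf (nat_lit 0x147))))) (.node 4 (.node 2 (.node 1 (.leaf (nat_lit 0x18b)) (.leaf (nat_lit 0x149))) (.node 1 (.leaf (nat_lit 0x14a)) (.leaf (nat_lit 0x111)))) (.node 2 (.node 1 (.leaf (nat_lit 0x190)) (.leaf (nat_lit 0x114))) (.node 1 (.leaf (nat_lit 0x192)) (.leaf (nat_lit 0x10f)))))) (.node 8 (.node 4 (.node 2 (.node 1 (.leaf (nat_lit 0x194)) (.leaf (nat_lit 0x18e))) (.node 1 (.leaf (nat_lit 0x197)) (.leaf (nat_lit 0x112)))) (.node 2 (.node 1 (.leaf (nat_lit 0x199)) (.leaf (nat_lit 0x19b))) (.node 1 (.leaf (nat_lit 0x115)) (.leaf (nat_lit 0x19e))))) (.node 4 (.node 2 (.node 1 (.leaf (nat_lit 0x117)) (.leaf (nat_lit 0x11c))) (.node 1 (.leaf (nat_lit 0x118)) (.leaf (nat_lit 0x1a1))))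 (.node 2 (.node 1 (.leaf (nat_lit 0x15c)) (.leaf (nat_lit 0x11a))) (.node 1 (.leaf (nat_lit 0x19f)) (.leaf (nat_lit 0x15f))))))) (.node 16 (.node 8 (.node 4 (.node 2 (.node 1 (.leaf (nat_lit 0x1a5)) (.leaf (nat_lit 0x161))) (.node 1 (.leaf (nat_lit 0x127)) (.leaf (nat_lit 0x1a8)))) (.node 2 (.node 1 (.leaf (nat_lit 0x122)) (.leaf (nat_lit 0x1a9))) (.node 1 (.leaf (nat_lit 0x124)) (.leaf (nat_lit 0x1ac))))) (.node 4 (.node 2 (.node 1 (.leaf (nat_lit 0x126)) (.leaf (nat_lit 0x169))) (.node 1 (.leaf (nat_lit 0x1b0)) (.leaf (nat_lit 0x128)))) (.node 2 (.node 1 (.leaf (nat_lit 0x1b3)) (.leaf (nat_lit 0x12a))) (.node 1 (.leaf (nat_lit 0x16e)) (.leaf (nat_lit 0x12b)))))) (.node 8 (.node 4 (.node 2 (.node 1 (.leaf (nat_lit 0x1b6)) (.leaf (nat_lit 0x13b))) (.node 1 (.leaf (nat_lit 0x12d)) (.leaf (nat_lit 0x133)))) (.node 2 (.node 1 (.leaf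 (nat_lit 0x131)) (.leaf (nat_lit 0x1b7))) (.node 1 (.leaf (nat_lit 0x134)) (.leaf (nat_lit 0x1bb))))) (.node 4 (.node 2 (.node 1 (.leaf (nat_lit 0x1b2)) (.leaf (nat_lit 0x136))) (.node 1 (.leaf (nat_lit 0x17a)) (.leaf (nat_lit 0x17b)))) (.node 2 (.node 1 (.leaf (nat_lit 0x17c)) (.leaf (nat_lit 0x1b5))) (.node 1 (.leaf (nat_lit 0x13a)) (.leaf (nat_lit 0x1b8)))))))))

noncomputable def M1g0x3 : Tree :=
  (.node 64 (.node 32 (.node 16 (.node 8 (.node 4 (.node 2 (.node 1 (.leaf (nat_lit 0x180)) (.leaf (nat_lit 0x13f))) (.node 1 (.leaf (nat_lit 0x141)) (.leaf (nat_lit 0x183)))) (.node 2 (.node 1 (.leaf (nat_lit 0x142)) (.leaf (nat_lit 0x143))) (.node 1 (.leaf (nat_lit 0x1c9)) (.leaf (nat_lit 0x187))))) (.node 4 (.node 2 (.node 1 (.leaf (nat_lit 0x1cd)) (.leaf (nat_lit 0x189))) (.node 1 (.leaf (nat_lit 0x1cf)) (.leaf (nat_lit 0x148))))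 (.node 2 (.node 1 (.leaf (nat_lit 0x1d1)) (.leaf (nat_lit 0x18d))) (.node 1 (.leaf (nat_lit 0x151)) (.leaf (nat_lit 0x1d5)))))) (.node 8 (.node 4 (.node 2 (.node 1 (.leaf (nat_lit 0x14c)) (.leaf (nat_lit 0x1d6))) (.node 1 (.leaf (nat_lit 0x14e)) (.leaf (nat_lit 0x1d9)))) (.node 2 (.node 1 (.leaf (nat_lit 0x150)) (.leaf (nat_lit 0x195))) (.node 1 (.leaf (nat_lit 0x1dd)) (.leaf (nat_lit 0x152))))) (.node 4 (.node 2 (.node 1 (.leaf (nat_lit 0x1e0)) (.leaf (nat_lit 0x154))) (.node 1 (.leaf (nat_lit 0x19a)) (.leaf (nat_lit 0x155)))) (.node 2 (.node 1 (.leaf (nat_lit 0x1e3)) (.leaf (nat_lit 0x19d))) (.node 1 (.leaf (nat_lit 0x157)) (.leaf (nat_lit 0x15e))))))) (.node 16 (.node 8 (.node 4 (.node 2 (.node 1 (.leaf (nat_lit 0x1a0)) (.leaf (nat_lit 0x15b))) (.node 1 (.leaf (nat_lit 0x1e4)) (.leaf (nat_lit 0x1a3)))) (.node 2 (.node 1 (.leaf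 (nat_lit 0x1e9)) (.leaf (nat_lit 0x160))) (.node 1 (.leaf (nat_lit 0x1a6)) (.leaf (nat_lit 0x1eb))))) (.node 4 (.node 2 (.node 1 (.leaf (nat_lit 0x163)) (.leaf (nat_lit 0x165))) (.node 1 (.leaf (nat_lit 0x1ee)) (.leaf (nat_lit 0x1ab)))) (.node 2 (.node 1 (.leaf (nat_lit 0x167)) (.leaf (nat_lit 0x1ad))) (.node 1 (.leaf (nat_lit 0x1ae)) (.leaf (nat_lit 0x1af)))))) (.node 8 (.node 4 (.node 2 (.node 1 (.leaf (nat_lit 0x16a)) (.leaf (nat_lit 0x1f5))) (.node 1 (.leaf (nat_lit 0x178)) (.leaf (nat_lit 0x16c)))) (.node 2 (.node 1 (.leaf (nat_lit 0x1b4)) (.leaf (nat_lit 0x17d))) (.node 1 (.leaf (nat_lit 0x170)) (.leaf (nat_lit 0x175))))) (.node 4 (.node 2 (.node 1 (.leaf (nat_lit 0x17f)) (.leaf (nat_lit 0x1b9))) (.node 1 (.leaf (nat_lit 0x1f4)) (.leaf (nat_lit 0x177)))) (.node 2 (.node 1 (.leaf (nat_lit 0x1bc)) (.leaf (nat_lit 0x1f7))) (.node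 1 (.leaf (nat_lit 0x203)) (.leaf (nat_lit 0x1bf)))))))) (.node 32 (.node 16 (.node 8 (.node 4 (.node 2 (.node 1 (.leaf (nat_lit 0x1c0)) (.leaf (nat_lit 0x205))) (.node 1 (.leaf (nat_lit 0x1f9)) (.leaf (nat_lit 0x1fa)))) (.node 2 (.node 1 (.leaf (nat_lit 0x1c4)) (.leaf (nat_lit 0x208))) (.node 1 (.leaf (nat_lit 0x1c6)) (.leaf (nat_lit 0x1c7))))) (.node 4 (.node 2 (.node 1 (.leaf (nat_lit 0x1c8)) (.leaf (nat_lit 0x186))) (.node 1 (.leaf (nat_lit 0x20a)) (.leaf (nat_lit 0x1cb)))) (.node 2 (.node 1 (.leaf (nat_lit 0x20d)) (.leaf (nat_lit 0x188))) (.node 1 (.leaf (nat_lit 0x20e)) (.leaf (nat_lit 0x18a)))))) (.node 8 (.node 4 (.node 2 (.node 1 (.leaf (nat_lit 0x211)) (.leaf (nat_lit 0x18c))) (.node 1 (.leaf (nat_lit 0x1d2)) (.leaf (nat_lit 0x1d3)))) (.node 2 (.node 1 (.leaf (nat_lit 0x215)) (.leaf (nat_lit 0x18f))) (.node 1 (.leaf (nat_lit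 0x191)) (.leaf (nat_lit 0x218))))) (.node 4 (.node 2 (.node 1 (.leaf (nat_lit 0x210)) (.leaf (nat_lit 0x193))) (.node 1 (.leaf (nat_lit 0x1da)) (.leaf (nat_lit 0x1db)))) (.node 2 (.node 1 (.leaf (nat_lit 0x1dc)) (.leaf (nat_lit 0x196))) (.node 1 (.leaf (nat_lit 0x21f)) (.leaf (nat_lit 0x1df))))))) (.node 16 (.node 8 (.node 4 (.node 2 (.node 1 (.leaf (nat_lit 0x198)) (.leaf (nat_lit 0x1e1))) (.node 1 (.leaf (nat_lit 0x1e2)) (.leaf (nat_lit 0x19c)))) (.node 2 (.node 1 (.leaf (nat_lit 0x1a2)) (.leaf (nat_lit 0x1e5))) (.node 1 (.leaf (nat_lit 0x226)) (.leaf (nat_lit 0x1e7))))) (.node 4 (.node 2 (.node 1 (.leaf (nat_lit 0x227)) (.leaf (nat_lit 0x1a4))) (.node 1 (.leaf (nat_lit 0x1ea)) (.leaf (nat_lit 0x1a7)))) (.node 2 (.node 1 (.leaf (nat_lit 0x1ec)) (.leaf (nat_lit 0x1ed))) (.node 1 (.leaf (nat_lit 0x1aa)) (.leaf (nat_lit 0x1ef))))))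 (.node 8 (.node 4 (.node 2 (.node 1 (.leaf (nat_lit 0x1f0)) (.leaf (nat_lit 0x231))) (.node 1 (.leaf (nat_lit 0x1f2)) (.leaf (nat_lit 0x1f3)))) (.node 2 (.node 1 (.leaf (nat_lit 0x1ba)) (.leaf (nat_lit 0x1b1))) (.node 1 (.leaf (nat_lit 0x1f6)) (.leaf (nat_lit 0x1bd))))) (.node 4 (.node 2 (.node 1 (.leaf (nat_lit 0x235)) (.leaf (nat_lit 0x1c2))) (.node 1 (.leaf (nat_lit 0x1c3)) (.leaf (nat_lit 0x1fb)))) (.node 2 (.node 1 (.leaf (nat_lit 0x232)) (.leaf (nat_lit 0x233))) (.node 1 (.leaf (nat_lit 0x23c)) (.leaf (nat_lit 0x1ff)))))))))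

noncomputable def M1g0x4 : Tree :=
  (.node 64 (.node 32 (.node 16 (.node 8 (.node 4 (.node 2 (.node 1 (.leaf (nat_lit 0x200)) (.leaf (nat_lit 0x23e))) (.node 1 (.leaf (nat_lit 0x240)) (.leaf (nat_lit 0x1be)))) (.node 2 (.node 1 (.leaf (nat_lit 0x242)) (.leaf (nat_lit 0x1c1))) (.node 1 (.leaf (nat_lit 0x236)) (.leaf (nat_lit 0x245))))) (.node 4 (.node 2 (.node 1 (.leaf (nat_lit 0x1c5)) (.leaf (nat_lit 0x246))) (.node 1 (.leaf (nat_lit 0x1ca)) (.leaf (nat_lit 0x247)))) (.node 2 (.node 1 (.leaf (nat_lit 0x248)) (.leaf (nat_lit 0x1cc))) (.node 1 (.leaf (nat_lit 0x1ce)) (.leaf (nat_lit 0x24b)))))) (.node 8 (.node 4 (.node 2 (.node 1 (.leaf (nat_lit 0x1d8)) (.leaf (nat_lit 0x1d0))) (.node 1 (.leaf (nat_lit 0x212)) (.leaf (nat_lit 0x213)))) (.node 2 (.node 1 (.leaf (nat_lit 0x214)) (.leaf (nat_lit 0x1d4))) (.node 1 (.leaf (nat_lit 0x249))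 (.leaf (nat_lit 0x24a))))) (.node 4 (.node 2 (.node 1 (.leaf (nat_lit 0x1d7)) (.leaf (nat_lit 0x219))) (.node 1 (.leaf (nat_lit 0x24d)) (.leaf (nat_lit 0x25a)))) (.node 2 (.node 1 (.leaf (nat_lit 0x21c)) (.leaf (nat_lit 0x21d))) (.node 1 (.leaf (nat_lit 0x21e)) (.leaf (nat_lit 0x1de))))))) (.node 16 (.node 8 (.node 4 (.node 2 (.node 1 (.leaf (nat_lit 0x220)) (.leaf (nat_lit 0x221))) (.node 1 (.leaf (nat_lit 0x25e)) (.leaf (nat_lit 0x223)))) (.node 2 (.node 1 (.leaf (nat_lit 0x224)) (.leaf (nat_lit 0x261))) (.node 1 (.leaf (nat_lit 0x1e6)) (.leaf (nat_lit 0x1e8))))) (.node 4 (.node 2 (.node 1 (.leaf (nat_lit 0x228)) (.leaf (nat_lit 0x229))) (.node 1 (.leaf (nat_lit 0x22a)) (.leaf (nat_lit 0x22b)))) (.node 2 (.node 1 (.leaf (nat_lit 0x269)) (.leaf (nat_lit 0x22d))) (.node 1 (.leaf (nat_lit 0x22e)) (.leaf (nat_lit 0x26a)))))) (.node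 8 (.node 4 (.node 2 (.node 1 (.leaf (nat_lit 0x26b)) (.leaf (nat_lit 0x1f1))) (.node 1 (.leaf (nat_lit 0x1fc)) (.leaf (nat_lit 0x1fd)))) (.node 2 (.node 1 (.leaf (nat_lit 0x26e)) (.leaf (nat_lit 0x1f8))) (.node 1 (.leaf (nat_lit 0x206)) (.leaf (nat_lit 0x237))))) (.node 4 (.node 2 (.node 1 (.leaf (nat_lit 0x26c)) (.leaf (nat_lit 0x271))) (.node 1 (.leaf (nat_lit 0x272)) (.leaf (nat_lit 0x274)))) (.node 2 (.node 1 (.leaf (nat_lit 0x1fe)) (.leaf (nat_lit 0x276))) (.node 1 (.leaf (nat_lit 0x201)) (.leaf (nat_lit 0x23f)))))))) (.node 32 (.node 16 (.node 8 (.node 4 (.node 2 (.node 1 (.leaf (nat_lit 0x202)) (.leaf (nat_lit 0x241))) (.node 1 (.leaf (nat_lit 0x204)) (.leaf (nat_lit 0x243)))) (.node 2 (.node 1 (.leaf (nat_lit 0x277)) (.leaf (nat_lit 0x207))) (.node 1 (.leaf (nat_lit 0x209)) (.leaf (nat_lit 0x20b))))) (.node 4 (.node 2 (.node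 1 (.leaf (nat_lit 0x20c)) (.leaf (nat_lit 0x216))) (.node 1 (.leaf (nat_lit 0x217)) (.leaf (nat_lit 0x20f)))) (.node 2 (.node 1 (.leaf (nat_lit 0x24c)) (.leaf (nat_lit 0x21a))) (.node 1 (.leaf (nat_lit 0x281)) (.leaf (nat_lit 0x24f)))))) (.node 8 (.node 4 (.node 2 (.node 1 (.leaf (nat_lit 0x250)) (.leaf (nat_lit 0x283))) (.node 1 (.leaf (nat_lit 0x279)) (.leaf (nat_lit 0x27a)))) (.node 2 (.node 1 (.leaf (nat_lit 0x27b)) (.leaf (nat_lit 0x289))) (.node 1 (.leaf (nat_lit 0x256)) (.leaf (nat_lit 0x257))))) (.node 4 (.node 2 (.node 1 (.leaf (nat_lit 0x28a)) (.leaf (nat_lit 0x28b))) (.node 1 (.leaf (nat_lit 0x21b)) (.leaf (nat_lit 0x25b)))) (.node 2 (.node 1 (.leaf (nat_lit 0x25c)) (.leaf (nat_lit 0x28f))) (.node 1 (.leaf (nat_lit 0x222)) (.leaf (nat_lit 0x25f))))))) (.node 16 (.node 8 (.node 4 (.node 2 (.node 1 (.leaf (nat_lit 0x290))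 (.leaf (nat_lit 0x225))) (.node 1 (.leaf (nat_lit 0x28c)) (.leaf (nat_lit 0x263)))) (.node 2 (.node 1 (.leaf (nat_lit 0x264)) (.leaf (nat_lit 0x265))) (.node 1 (.leaf (nat_lit 0x294)) (.leaf (nat_lit 0x295))))) (.node 4 (.node 2 (.node 1 (.leaf (nat_lit 0x296)) (.leaf (nat_lit 0x22c))) (.node 1 (.leaf (nat_lit 0x22f)) (.leaf (nat_lit 0x230)))) (.node 2 (.node 1 (.leaf (nat_lit 0x238)) (.leaf (nat_lit 0x297))) (.node 1 (.leaf (nat_lit 0x234)) (.leaf (nat_lit 0x298)))))) (.node 8 (.node 4 (.node 2 (.node 1 (.leaf (nat_lit 0x29a)) (.leaf (nat_lit 0x239))) (.node 1 (.leaf (nat_lit 0x23a)) (.leaf (nat_lit 0x273)))) (.node 2 (.node 1 (.leaf (nat_lit 0x23b)) (.leaf (nat_lit 0x275))) (.node 1 (.leaf (nat_lit 0x23d)) (.leaf (nat_lit 0x244))))) (.node 4 (.node 2 (.node 1 (.leaf (nat_lit 0x278)) (.leaf (nat_lit 0x252))) (.node 1 (.leaf (nat_lit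 0x253)) (.leaf (nat_lit 0x254)))) (.node 2 (.node 1 (.leaf (nat_lit 0x2a4)) (.leaf (nat_lit 0x27d))) (.node 1 (.leaf (nat_lit 0x27e)) (.leaf (nat_lit 0x2a6)))))))))

noncomputable def M1g0x5 : Tree :=
  (.node 44 (.node 22 (.node 11 (.node 5 (.node 2 (.node 1 (.leaf (nat_lit 0x2a8)) (.leaf (nat_lit 0x24e))) (.node 1 (.leaf (nat_lit 0x2aa)) (.node 1 (.leaf (nat_lit 0x251)) (.leaf (nat_lit 0x29f))))) (.node 3 (.node 1 (.leaf (nat_lit 0x2a0)) (.node 1 (.leaf (nat_lit 0x2ae)) (.leaf (nat_lit 0x2af)))) (.node 1 (.leaf (nat_lit 0x2b0)) (.node 1 (.leaf (nat_lit 0x255)) (.leaf (nat_lit 0x258)))))) (.node 5 (.node 2 (.node 1 (.leaf (nat_lit 0x259)) (.leaf (nat_lit 0x262))) (.node 1 (.leaf (nat_lit 0x28d)) (.node 1 (.leaf (nat_lit 0x2b2)) (.leaf (nat_lit 0x25d))))) (.node 3 (.node 1 (.leaf (nat_lit 0x260)) (.node 1 (.leaf (nat_lit 0x2b1))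 (.leaf (nat_lit 0x2b4)))) (.node 1 (.leaf (nat_lit 0x2b5)) (.node 1 (.leaf (nat_lit 0x266)) (.leaf (nat_lit 0x267))))))) (.node 11 (.node 5 (.node 2 (.node 1 (.leaf (nat_lit 0x268)) (.leaf (nat_lit 0x26d))) (.node 1 (.leaf (nat_lit 0x26f)) (.node 1 (.leaf (nat_lit 0x299)) (.leaf (nat_lit 0x270))))) (.node 3 (.node 1 (.leaf (nat_lit 0x29b)) (.node 1 (.leaf (nat_lit 0x29c)) (.leaf (nat_lit 0x29d)))) (.node 1 (.leaf (nat_lit 0x29e)) (.node 1 (.leaf (nat_lit 0x284)) (.leaf (nat_lit 0x285)))))) (.node 5 (.node 2 (.node 1 (.leaf (nat_lit 0x2be)) (.leaf (nat_lit 0x2bf))) (.node 1 (.leaf (nat_lit 0x2c1)) (.node 1 (.leaf (nat_lit 0x27c)) (.leaf (nat_lit 0x2c3))))) (.node 3 (.node 1 (.leaf (nat_lit 0x27f)) (.node 1 (.leaf (nat_lit 0x2a7)) (.leaf (nat_lit 0x280)))) (.node 1 (.leaf (nat_lit 0x2a9)) (.node 1 (.leaf (nat_lit 0x282)) (.leaf (nat_lit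 0x2ab)))))))) (.node 22 (.node 11 (.node 5 (.node 2 (.node 1 (.leaf (nat_lit 0x2c4)) (.leaf (nat_lit 0x2c5))) (.node 1 (.leaf (nat_lit 0x286)) (.node 1 (.leaf (nat_lit 0x287)) (.leaf (nat_lit 0x288))))) (.node 3 (.node 1 (.leaf (nat_lit 0x291)) (.node 1 (.leaf (nat_lit 0x28e)) (.leaf (nat_lit 0x2c7)))) (.node 1 (.leaf (nat_lit 0x292)) (.node 1 (.leaf (nat_lit 0x293)) (.leaf (nat_lit 0x2c6)))))) (.node 5 (.node 2 (.node 1 (.leaf (nat_lit 0x2c8)) (.leaf (nat_lit 0x2b8))) (.node 1 (.leaf (nat_lit 0x2b9)) (.node 1 (.leaf (nat_lit 0x2cb)) (.leaf (nat_lit 0x2bb))))) (.node 3 (.node 1 (.leaf (nat_lit 0x2cc)) (.node 1 (.leaf (nat_lit 0x2ce)) (.leaf (nat_lit 0x2a1)))) (.node 1 (.leaf (nat_lit 0x2a2)) (.node 1 (.leaf (nat_lit 0x2c0)) (.leaf (nat_lit 0x2a3))))))) (.node 11 (.node 5 (.node 2 (.node 1 (.leaf (nat_lit 0x2c2)) (.leaf (nat_lit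 0x2a5))) (.node 1 (.leaf (nat_lit 0x2ac)) (.node 1 (.leaf (nat_lit 0x2ad)) (.leaf (nat_lit 0x2b6))))) (.node 3 (.node 1 (.leaf (nat_lit 0x2b3)) (.node 1 (.leaf (nat_lit 0x2b7)) (.leaf (nat_lit 0x2d1)))) (.node 1 (.leaf (nat_lit 0x2d2)) (.node 1 (.leaf (nat_lit 0x2ba)) (.leaf (nat_lit 0x2bc)))))) (.node 5 (.node 2 (.node 1 (.leaf (nat_lit 0x2cd)) (.leaf (nat_lit 0x2bd))) (.node 1 (.leaf (nat_lit 0x2cf)) (.node 1 (.leaf (nat_lit 0x2d0)) (.leaf (nat_lit 0x2c9))))) (.node 3 (.node 1 (.leaf (nat_lit 0x2ca)) (.node 1 (.leaf (nat_lit 0x2d3)) (.leaf (nat_lit 0x2d4)))) (.node 1 (.leaf (nat_lit 0x2d5)) (.node 1 (.leaf (nat_lit 0x2d7)) (.leaf (nat_lit 0x2d6)))))))))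

noncomputable def M1g0x : Tree :=
  (.node 384 (.node 128 M1g0x0 (.node 128 M1g0x1 M1g0x2)) (.node 128 M1g0x3 (.node 128 M1g0x4 M1g0x5)))

noncomputable def M1g1x0 : Tree :=
  (.node 64 (.node 32 (.node 16 (.node 8 (.node 4 (.node 2 (.node 1 (.leaf (nat_lit 0)) (.leaf (nat_lit 1))) (.node 1 (.leaf (nat_lit 3)) (.leaf (nat_lit 2)))) (.node 2 (.node 1 (.leaf (nat_lit 4)) (.leaf (nat_lit 5))) (.node 1 (.leaf (nat_lit 6)) (.leaf (nat_lit 7))))) (.node 4 (.node 2 (.node 1 (.leaf (nat_lit 8)) (.leaf (nat_lit 9))) (.node 1 (.leaf (nat_lit 0xa)) (.leaf (nat_lit 0xf)))) (.node 2 (.node 1 (.leaf (nat_lit 0xc)) (.leaf (nat_lit 0x11))) (.node 1 (.leaf (nat_lit 0xe)) (.leaf (nat_lit 0xb)))))) (.node 8 (.node 4 (.node 2 (.node 1 (.leaf (nat_lit 0x15)) (.leaf (nat_lit 0xd))) (.node 1 (.leaf (nat_lit 0x18)) (.leaf (nat_lit 0x19)))) (.node 2 (.node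 1 (.leaf (nat_lit 0x14)) (.leaf (nat_lit 0x10))) (.node 1 (.leaf (nat_lit 0x1e)) (.leaf (nat_lit 0x17))))) (.node 4 (.node 2 (.node 1 (.leaf (nat_lit 0x12)) (.leaf (nat_lit 0x13))) (.node 1 (.leaf (nat_lit 0x23)) (.leaf (nat_lit 0x24)))) (.node 2 (.node 1 (.leaf (nat_lit 0x1c)) (.leaf (nat_lit 0x1d))) (.node 1 (.leaf (nat_lit 0x16)) (.leaf (nat_lit 0x1f))))))) (.node 16 (.node 8 (.node 4 (.node 2 (.node 1 (.leaf (nat_lit 0x20)) (.leaf (nat_lit 0x21))) (.node 1 (.leaf (nat_lit 0x22)) (.leaf (nat_lit 0x1a)))) (.node 2 (.node 1 (.leaf (nat_lit 0x1b)) (.leaf (nat_lit 0x30))) (.node 1 (.leaf (nat_lit 0x26)) (.leaf (nat_lit 0x27))))) (.node 4 (.node 2 (.node 1 (.leaf (nat_lit 0x28)) (.leaf (nat_lit 0x29))) (.node 1 (.leaf (nat_lit 0x2a)) (.leaf (nat_lit 0x39)))) (.node 2 (.node 1 (.leaf (nat_lit 0x2c)) (.leaf (nat_lit 0x2d))) (.node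 1 (.leaf (nat_lit 0x2e)) (.leaf (nat_lit 0x2f)))))) (.node 8 (.node 4 (.node 2 (.node 1 (.leaf (nat_lit 0x25)) (.leaf (nat_lit 0x31))) (.node 1 (.leaf (nat_lit 0x42)) (.leaf (nat_lit 0x33)))) (.node 2 (.node 1 (.leaf (nat_lit 0x44)) (.leaf (nat_lit 0x35))) (.node 1 (.leaf (nat_lit 0x47)) (.leaf (nat_lit 0x37))))) (.node 4 (.node 2 (.node 1 (.leaf (nat_lit 0x38)) (.leaf (nat_lit 0x2b))) (.node 1 (.leaf (nat_lit 0x4c)) (.leaf (nat_lit 0x4d)))) (.node 2 (.node 1 (.leaf (nat_lit 0x3c)) (.leaf (nat_lit 0x51))) (.node 1 (.leaf (nat_lit 0x3e)) (.leaf (nat_lit 0x3f)))))))) (.node 32 (.node 16 (.node 8 (.node 4 (.node 2 (.node 1 (.leaf (nat_lit 0x55)) (.leaf (nat_lit 0x41))) (.node 1 (.leaf (nat_lit 0x32)) (.leaf (nat_lit 0x59)))) (.node 2 (.node 1 (.leaf (nat_lit 0x34)) (.leaf (nat_lit 0x5b))) (.node 1 (.leaf (nat_lit 0x46)) (.leaf (nat_lit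 0x36))))) (.node 4 (.node 2 (.node 1 (.leaf (nat_lit 0x5e)) (.leaf (nat_lit 0x5f))) (.node 1 (.leaf (nat_lit 0x4a)) (.leaf (nat_lit 0x63)))) (.node 2 (.node 1 (.leaf (nat_lit 0x3a)) (.leaf (nat_lit 0x3b))) (.node 1 (.leaf (nat_lit 0x66)) (.leaf (nat_lit 0x67)))))) (.node 8 (.node 4 (.node 2 (.node 1 (.leaf (nat_lit 0x6a)) (.leaf (nat_lit 0x3d))) (.node 1 (.leaf (nat_lit 0x6c)) (.leaf (nat_lit 0x53)))) (.node 2 (.node 1 (.leaf (nat_lit 0x6f)) (.leaf (nat_lit 0x40))) (.node 1 (.leaf (nat_lit 0x72)) (.leaf (nat_lit 0x57))))) (.node 4 (.node 2 (.node 1 (.leaf (nat_lit 0x58)) (.leaf (nat_lit 0x43))) (.node 1 (.leaf (nat_lit 0x76)) (.leaf (nat_lit 0x45)))) (.node 2 (.node 1 (.leaf (nat_lit 0x79)) (.leaf (nat_lit 0x5d))) (.node 1 (.leaf (nat_lit 0x48)) (.leaf (nat_lit 0x49))))))) (.node 16 (.node 8 (.node 4 (.node 2 (.node 1 (.leaf (nat_lit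 0x7d)) (.leaf (nat_lit 0x7e))) (.node 1 (.leaf (nat_lit 0x81)) (.leaf (nat_lit 0x4b)))) (.node 2 (.node 1 (.leaf (nat_lit 0x84)) (.leaf (nat_lit 0x65))) (.node 1 (.leaf (nat_lit 0x4e)) (.leaf (nat_lit 0x4f))))) (.node 4 (.node 2 (.node 1 (.leaf (nat_lit 0x88)) (.leaf (nat_lit 0x8b))) (.node 1 (.leaf (nat_lit 0x50)) (.leaf (nat_lit 0x8e)))) (.node 2 (.node 1 (.leaf (nat_lit 0x52)) (.leaf (nat_lit 0x91))) (.node 1 (.leaf (nat_lit 0x92)) (.leaf (nat_lit 0x54)))))) (.node 8 (.node 4 (.node 2 (.node 1 (.leaf (nat_lit 0x95)) (.leaf (nat_lit 0x8d))) (.node 1 (.leaf (nat_lit 0x56)) (.leaf (nat_lit 0x99)))) (.node 2 (.node 1 (.leaf (nat_lit 0x74)) (.leaf (nat_lit 0x75))) (.node 1 (.leaf (nat_lit 0x5a)) (.leaf (nat_lit 0x9c))))) (.node 4 (.node 2 (.node 1 (.leaf (nat_lit 0x78)) (.leaf (nat_lit 0x5c))) (.node 1 (.leaf (nat_lit 0x7a)) (.leaf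 (nat_lit 0x7b)))) (.node 2 (.node 1 (.leaf (nat_lit 0x7c)) (.leaf (nat_lit 0x60))) (.node 1 (.leaf (nat_lit 0x61)) (.leaf (nat_lit 0xa4)))))))))

noncomputable def M1g1x1 : Tree :=
  (.node 64 (.node 32 (.node 16 (.node 8 (.node 4 (.node 2 (.node 1 (.leaf (nat_lit 0xa7)) (.leaf (nat_lit 0x62))) (.node 1 (.leaf (nat_lit 0xaa)) (.leaf (nat_lit 0x83)))) (.node 2 (.node 1 (.leaf (nat_lit 0x64)) (.leaf (nat_lit 0xae))) (.node 1 (.leaf (nat_lit 0x86)) (.leaf (nat_lit 0x87))))) (.node 4 (.node 2 (.node 1 (.leaf (nat_lit 0x68)) (.leaf (nat_lit 0xb3))) (.node 1 (.leaf (nat_lit 0xb5)) (.leaf (nat_lit 0x69)))) (.node 2 (.node 1 (.leaf (nat_lit 0xb8)) (.leaf (nat_lit 0x71))) (.node 1 (.leaf (nat_lit 0x6b)) (.leaf (nat_lit 0xbd)))))) (.node 8 (.node 4 (.node 2 (.node 1 (.leaf (nat_lit 0xbc)) (.leaf (nat_lit 0x6d))) (.node 1 (.leaf (nat_lit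 0x6e)) (.leaf (nat_lit 0xc1)))) (.node 2 (.node 1 (.leaf (nat_lit 0xb7)) (.leaf (nat_lit 0x70))) (.node 1 (.leaf (nat_lit 0xc6)) (.leaf (nat_lit 0xba))))) (.node 4 (.node 2 (.node 1 (.leaf (nat_lit 0xbb)) (.leaf (nat_lit 0x73))) (.node 1 (.leaf (nat_lit 0x9a)) (.leaf (nat_lit 0x9b)))) (.node 2 (.node 1 (.leaf (nat_lit 0x77)) (.leaf (nat_lit 0x9d))) (.node 1 (.leaf (nat_lit 0x9e)) (.leaf (nat_lit 0xcd))))))) (.node 16 (.node 8 (.node 4 (.node 2 (.node 1 (.leaf (nat_lit 0xa0)) (.leaf (nat_lit 0xa1))) (.node 1 (.leaf (nat_lit 0xa2)) (.leaf (nat_lit 0xa3)))) (.node 2 (.node 1 (.leaf (nat_lit 0x7f)) (.leaf (nat_lit 0xd6))) (.node 1 (.leaf (nat_lit 0xd8)) (.leaf (nat_lit 0x80))))) (.node 4 (.node 2 (.node 1 (.leaf (nat_lit 0xdb)) (.leaf (nat_lit 0xa9))) (.node 1 (.leaf (nat_lit 0x82)) (.leaf (nat_lit 0xe0)))) (.node 2 (.node 1 (.leaf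 (nat_lit 0xac)) (.leaf (nat_lit 0xdf))) (.node 1 (.leaf (nat_lit 0x85)) (.leaf (nat_lit 0xaf)))))) (.node 8 (.node 4 (.node 2 (.node 1 (.leaf (nat_lit 0xb0)) (.leaf (nat_lit 0xb1))) (.node 1 (.leaf (nat_lit 0xe6)) (.leaf (nat_lit 0x89)))) (.node 2 (.node 1 (.leaf (nat_lit 0xe9)) (.leaf (nat_lit 0x8a))) (.node 1 (.leaf (nat_lit 0xec)) (.leaf (nat_lit 0x94))))) (.node 4 (.node 2 (.node 1 (.leaf (nat_lit 0x8c)) (.leaf (nat_lit 0xf1))) (.node 1 (.leaf (nat_lit 0x97)) (.leaf (nat_lit 0x98)))) (.node 2 (.node 1 (.leaf (nat_lit 0x90)) (.leaf (nat_lit 0x8f))) (.node 1 (.leaf (nat_lit 0xf5)) (.leaf (nat_lit 0xf6)))))))) (.node 32 (.node 16 (.node 8 (.node 4 (.node 2 (.node 1 (.leaf (nat_lit 0xeb)) (.leaf (nat_lit 0x93))) (.node 1 (.leaf (nat_lit 0xfa)) (.leaf (nat_lit 0xee)))) (.node 2 (.node 1 (.leaf (nat_lit 0xef)) (.leaf (nat_lit 0xc5)))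 (.node 1 (.leaf (nat_lit 0x96)) (.leaf (nat_lit 0xf2))))) (.node 4 (.node 2 (.node 1 (.leaf (nat_lit 0xf4)) (.leaf (nat_lit 0x100))) (.node 1 (.leaf (nat_lit 0xca)) (.leaf (nat_lit 0xcb)))) (.node 2 (.node 1 (.leaf (nat_lit 0xcc)) (.leaf (nat_lit 0x9f))) (.node 1 (.leaf (nat_lit 0x103)) (.leaf (nat_lit 0x104)))))) (.node 8 (.node 4 (.node 2 (.node 1 (.leaf (nat_lit 0xd0)) (.leaf (nat_lit 0x109))) (.node 1 (.leaf (nat_lit 0xd2)) (.leaf (nat_lit 0xd3)))) (.node 2 (.node 1 (.leaf (nat_lit 0xd4)) (.leaf (nat_lit 0x10c))) (.node 1 (.leaf (nat_lit 0xa5)) (.leaf (nat_lit 0x10f))))) (.node 4 (.node 2 (.node 1 (.leaf (nat_lit 0xa6)) (.leaf (nat_lit 0x112))) (.node 1 (.leaf (nat_lit 0xda)) (.leaf (nat_lit 0xa8)))) (.node 2 (.node 1 (.leaf (nat_lit 0x117)) (.leaf (nat_lit 0xdd))) (.node 1 (.leaf (nat_lit 0xde)) (.leaf (nat_lit 0xad)))))))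 (.node 16 (.node 8 (.node 4 (.node 2 (.node 1 (.leaf (nat_lit 0xab)) (.leaf (nat_lit 0x11d))) (.node 1 (.leaf (nat_lit 0xe2)) (.leaf (nat_lit 0x11b)))) (.node 2 (.node 1 (.leaf (nat_lit 0x11c)) (.leaf (nat_lit 0x120))) (.node 1 (.leaf (nat_lit 0xb2)) (.leaf (nat_lit 0x122))))) (.node 4 (.node 2 (.node 1 (.leaf (nat_lit 0xe8)) (.leaf (nat_lit 0xb4))) (.node 1 (.leaf (nat_lit 0x126)) (.leaf (nat_lit 0xc0)))) (.node 2 (.node 1 (.leaf (nat_lit 0xb6)) (.leaf (nat_lit 0x12a))) (.node 1 (.leaf (nat_lit 0xc3)) (.leaf (nat_lit 0xc4)))))) (.node 8 (.node 4 (.node 2 (.node 1 (.leaf (nat_lit 0xf0)) (.leaf (nat_lit 0xb9))) (.node 1 (.leaf (nat_lit 0xc7)) (.leaf (nat_lit 0xf3)))) (.node 2 (.node 1 (.leaf (nat_lit 0xc8)) (.leaf (nat_lit 0xbe))) (.node 1 (.leaf (nat_lit 0xbf)) (.leaf (nat_lit 0x127))))) (.node 4 (.node 2 (.node 1 (.leaf (nat_lit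 0x128)) (.leaf (nat_lit 0xf9))) (.node 1 (.leaf (nat_lit 0xc2)) (.leaf (nat_lit 0x12b)))) (.node 2 (.node 1 (.leaf (nat_lit 0x13b)) (.leaf (nat_lit 0x12d))) (.node 1 (.leaf (nat_lit 0xfe)) (.leaf (nat_lit 0x131)))))))))

noncomputable def M1g1x2 : Tree :=
  (.node 64 (.node 32 (.node 16 (.node 8 (.node 4 (.node 2 (.node 1 (.leaf (nat_lit 0xc9)) (.leaf (nat_lit 0x13e))) (.node 1 (.leaf (nat_lit 0x13f)) (.leaf (nat_lit 0xce)))) (.node 2 (.node 1 (.leaf (nat_lit 0xcf)) (.leaf (nat_lit 0x141))) (.node 1 (.leaf (nat_lit 0x142)) (.leaf (nat_lit 0x143))))) (.node 4 (.node 2 (.node 1 (.leaf (nat_lit 0x145)) (.leaf (nat_lit 0xd1))) (.node 1 (.leaf (nat_lit 0x148)) (.leaf (nat_lit 0x14a)))) (.node 2 (.node 1 (.leaf (nat_lit 0xd5)) (.leaf (nat_lit 0x14c))) (.node 1 (.leaf (nat_lit 0x147)) (.leaf (nat_lit 0xd7)))))) (.node 8 (.node 4 (.node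 2 (.node 1 (.leaf (nat_lit 0x150)) (.leaf (nat_lit 0x111))) (.node 1 (.leaf (nat_lit 0xd9)) (.leaf (nat_lit 0x154)))) (.node 2 (.node 1 (.leaf (nat_lit 0x114)) (.leaf (nat_lit 0x115))) (.node 1 (.leaf (nat_lit 0x116)) (.leaf (nat_lit 0xdc))))) (.node 4 (.node 2 (.node 1 (.leaf (nat_lit 0x118)) (.leaf (nat_lit 0x15c))) (.node 1 (.leaf (nat_lit 0x11a)) (.leaf (nat_lit 0xe3)))) (.node 2 (.node 1 (.leaf (nat_lit 0xe4)) (.leaf (nat_lit 0xe1))) (.node 1 (.leaf (nat_lit 0x15f)) (.leaf (nat_lit 0x160))))))) (.node 16 (.node 8 (.node 4 (.node 2 (.node 1 (.leaf (nat_lit 0xe5)) (.leaf (nat_lit 0x121))) (.node 1 (.leaf (nat_lit 0xe7)) (.leaf (nat_lit 0x123)))) (.node 2 (.node 1 (.leaf (nat_lit 0x124)) (.leaf (nat_lit 0x125))) (.node 1 (.leaf (nat_lit 0xea)) (.leaf (nat_lit 0xf7))))) (.node 4 (.node 2 (.node 1 (.leaf (nat_lit 0xf8)) (.leaf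 (nat_lit 0x129))) (.node 1 (.leaf (nat_lit 0xed)) (.leaf (nat_lit 0xfb)))) (.node 2 (.node 1 (.leaf (nat_lit 0x171)) (.leaf (nat_lit 0xfd))) (.node 1 (.leaf (nat_lit 0x12e)) (.leaf (nat_lit 0x12f)))))) (.node 8 (.node 4 (.node 2 (.node 1 (.leaf (nat_lit 0x130)) (.leaf (nat_lit 0xff))) (.node 1 (.leaf (nat_lit 0x132)) (.leaf (nat_lit 0x133)))) (.node 2 (.node 1 (.leaf (nat_lit 0x16a)) (.leaf (nat_lit 0x178))) (.node 1 (.leaf (nat_lit 0x16c)) (.leaf (nat_lit 0x137))))) (.node 4 (.node 2 (.node 1 (.leaf (nat_lit 0x138)) (.leaf (nat_lit 0x17d))) (.node 1 (.leaf (nat_lit 0x170)) (.leaf (nat_lit 0xfc)))) (.node 2 (.node 1 (.leaf (nat_lit 0x17f)) (.leaf (nat_lit 0x13d))) (.node 1 (.leaf (nat_lit 0x101)) (.leaf (nat_lit 0x102)))))))) (.node 32 (.node 16 (.node 8 (.node 4 (.node 2 (.node 1 (.leaf (nat_lit 0x140)) (.leaf (nat_lit 0x105)))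 (.node 1 (.leaf (nat_lit 0x106)) (.leaf (nat_lit 0x107)))) (.node 2 (.node 1 (.leaf (nat_lit 0x186)) (.leaf (nat_lit 0x108))) (.node 1 (.leaf (nat_lit 0x188)) (.leaf (nat_lit 0x10e))))) (.node 4 (.node 2 (.node 1 (.leaf (nat_lit 0x10a)) (.leaf (nat_lit 0x18c))) (.node 1 (.leaf (nat_lit 0x10b)) (.leaf (nat_lit 0x187)))) (.node 2 (.node 1 (.leaf (nat_lit 0x10d)) (.leaf (nat_lit 0x189))) (.node 1 (.leaf (nat_lit 0x18a)) (.leaf (nat_lit 0x14f)))))) (.node 8 (.node 4 (.node 2 (.node 1 (.leaf (nat_lit 0x110)) (.leaf (nat_lit 0x151))) (.node 1 (.leaf (nat_lit 0x152)) (.leaf (nat_lit 0x153)))) (.node 2 (.node 1 (.leaf (nat_lit 0x113)) (.leaf (nat_lit 0x155))) (.node 1 (.leaf (nat_lit 0x19d)) (.leaf (nat_lit 0x157))))) (.node 4 (.node 2 (.node 1 (.leaf (nat_lit 0x158)) (.leaf (nat_lit 0x159))) (.node 1 (.leaf (nat_lit 0x1a0)) (.leaf (nat_lit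 0x15b)))) (.node 2 (.node 1 (.leaf (nat_lit 0x119)) (.leaf (nat_lit 0x1a3))) (.node 1 (.leaf (nat_lit 0x1a4)) (.leaf (nat_lit 0x11e))))))) (.node 16 (.node 8 (.node 4 (.node 2 (.node 1 (.leaf (nat_lit 0x11f)) (.leaf (nat_lit 0x161))) (.node 1 (.leaf (nat_lit 0x162)) (.leaf (nat_lit 0x163)))) (.node 2 (.node 1 (.leaf (nat_lit 0x164)) (.leaf (nat_lit 0x165))) (.node 1 (.leaf (nat_lit 0x1ab)) (.leaf (nat_lit 0x167))))) (.node 4 (.node 2 (.node 1 (.leaf (nat_lit 0x168)) (.leaf (nat_lit 0x169))) (.node 1 (.leaf (nat_lit 0x134)) (.leaf (nat_lit 0x1b2)))) (.node 2 (.node 1 (.leaf (nat_lit 0x136)) (.leaf (nat_lit 0x16d))) (.node 1 (.leaf (nat_lit 0x16e)) (.leaf (nat_lit 0x1b5)))))) (.node 8 (.node 4 (.node 2 (.node 1 (.leaf (nat_lit 0x13a)) (.leaf (nat_lit 0x12c))) (.node 1 (.leaf (nat_lit 0x1b8)) (.leaf (nat_lit 0x1b9)))) (.node 2 (.node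 1 (.leaf (nat_lit 0x174)) (.leaf (nat_lit 0x175))) (.node 1 (.leaf (nat_lit 0x1ba)) (.leaf (nat_lit 0x1b1))))) (.node 4 (.node 2 (.node 1 (.leaf (nat_lit 0x135)) (.leaf (nat_lit 0x1bd))) (.node 1 (.leaf (nat_lit 0x1be)) (.leaf (nat_lit 0x17b)))) (.node 2 (.node 1 (.leaf (nat_lit 0x17c)) (.leaf (nat_lit 0x139))) (.node 1 (.leaf (nat_lit 0x1c3)) (.leaf (nat_lit 0x13c)))))))))

noncomputable def M1g1x3 : Tree :=
  (.node 64 (.node 32 (.node 16 (.node 8 (.node 4 (.node 2 (.node 1 (.leaf (nat_lit 0x1c5)) (.leaf (nat_lit 0x181))) (.node 1 (.leaf (nat_lit 0x182)) (.leaf (nat_lit 0x183)))) (.node 2 (.node 1 (.leaf (nat_lit 0x184)) (.leaf (nat_lit 0x1c9))) (.node 1 (.leaf (nat_lit 0x144)) (.leaf (nat_lit 0x14b))))) (.node 4 (.node 2 (.node 1 (.leaf (nat_lit 0x146)) (.leaf (nat_lit 0x14d))) (.node 1 (.leaf (nat_lit 0x14e)) (.leaf (nat_lit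 0x18b)))) (.node 2 (.node 1 (.leaf (nat_lit 0x149)) (.leaf (nat_lit 0x1ca))) (.node 1 (.leaf (nat_lit 0x1cb)) (.leaf (nat_lit 0x1cc)))))) (.node 8 (.node 4 (.node 2 (.node 1 (.leaf (nat_lit 0x190)) (.leaf (nat_lit 0x1ce))) (.node 1 (.leaf (nat_lit 0x1d8)) (.leaf (nat_lit 0x1d0)))) (.node 2 (.node 1 (.leaf (nat_lit 0x194)) (.leaf (nat_lit 0x195))) (.node 1 (.leaf (nat_lit 0x196)) (.leaf (nat_lit 0x1df))))) (.node 4 (.node 2 (.node 1 (.leaf (nat_lit 0x198)) (.leaf (nat_lit 0x199))) (.node 1 (.leaf (nat_lit 0x19a)) (.leaf (nat_lit 0x1e2)))) (.node 2 (.node 1 (.leaf (nat_lit 0x19c)) (.leaf (nat_lit 0x156))) (.node 1 (.leaf (nat_lit 0x1e5)) (.leaf (nat_lit 0x1e6))))))) (.node 16 (.node 8 (.node 4 (.node 2 (.node 1 (.leaf (nat_lit 0x15a)) (.leaf (nat_lit 0x1e7))) (.node 1 (.leaf (nat_lit 0x1e8)) (.leaf (nat_lit 0x15d)))) (.node 2 (.node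 1 (.leaf (nat_lit 0x15e)) (.leaf (nat_lit 0x1a5))) (.node 1 (.leaf (nat_lit 0x1a6)) (.leaf (nat_lit 0x1a7))))) (.node 4 (.node 2 (.node 1 (.leaf (nat_lit 0x1ec)) (.leaf (nat_lit 0x1ed))) (.node 1 (.leaf (nat_lit 0x1aa)) (.leaf (nat_lit 0x166)))) (.node 2 (.node 1 (.leaf (nat_lit 0x1f0)) (.leaf (nat_lit 0x1f1))) (.node 1 (.leaf (nat_lit 0x1ae)) (.leaf (nat_lit 0x1af)))))) (.node 8 (.node 4 (.node 2 (.node 1 (.leaf (nat_lit 0x1f4)) (.leaf (nat_lit 0x177))) (.node 1 (.leaf (nat_lit 0x16b)) (.leaf (nat_lit 0x1f7)))) (.node 2 (.node 1 (.leaf (nat_lit 0x1f8)) (.leaf (nat_lit 0x16f))) (.node 1 (.leaf (nat_lit 0x1fa)) (.leaf (nat_lit 0x1fb))))) (.node 4 (.node 2 (.node 1 (.leaf (nat_lit 0x172)) (.leaf (nat_lit 0x173))) (.node 1 (.leaf (nat_lit 0x176)) (.leaf (nat_lit 0x1fd)))) (.node 2 (.node 1 (.leaf (nat_lit 0x1fe)) (.leaf (nat_lit 0x179)))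 (.node 1 (.leaf (nat_lit 0x17a)) (.leaf (nat_lit 0x201)))))))) (.node 32 (.node 16 (.node 8 (.node 4 (.node 2 (.node 1 (.leaf (nat_lit 0x202)) (.leaf (nat_lit 0x1c1))) (.node 1 (.leaf (nat_lit 0x1c2)) (.leaf (nat_lit 0x17e)))) (.node 2 (.node 1 (.leaf (nat_lit 0x207)) (.leaf (nat_lit 0x180))) (.node 1 (.leaf (nat_lit 0x1c6)) (.leaf (nat_lit 0x1c7))))) (.node 4 (.node 2 (.node 1 (.leaf (nat_lit 0x1c8)) (.leaf (nat_lit 0x185))) (.node 1 (.leaf (nat_lit 0x18d)) (.leaf (nat_lit 0x18e)))) (.node 2 (.node 1 (.leaf (nat_lit 0x18f)) (.leaf (nat_lit 0x1cd))) (.node 1 (.leaf (nat_lit 0x191)) (.leaf (nat_lit 0x210)))))) (.node 8 (.node 4 (.node 2 (.node 1 (.leaf (nat_lit 0x193)) (.leaf (nat_lit 0x1d1))) (.node 1 (.leaf (nat_lit 0x1d2)) (.leaf (nat_lit 0x20b)))) (.node 2 (.node 1 (.leaf (nat_lit 0x20c)) (.leaf (nat_lit 0x216))) (.node 1 (.leaf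 (nat_lit 0x217)) (.leaf (nat_lit 0x20f))))) (.node 4 (.node 2 (.node 1 (.leaf (nat_lit 0x192)) (.leaf (nat_lit 0x21a))) (.node 1 (.leaf (nat_lit 0x21b)) (.leaf (nat_lit 0x1db)))) (.node 2 (.node 1 (.leaf (nat_lit 0x1dc)) (.leaf (nat_lit 0x21e))) (.node 1 (.leaf (nat_lit 0x1de)) (.leaf (nat_lit 0x197))))))) (.node 16 (.node 8 (.node 4 (.node 2 (.node 1 (.leaf (nat_lit 0x221)) (.leaf (nat_lit 0x222))) (.node 1 (.leaf (nat_lit 0x19b)) (.leaf (nat_lit 0x224)))) (.node 2 (.node 1 (.leaf (nat_lit 0x225)) (.leaf (nat_lit 0x19e))) (.node 1 (.leaf (nat_lit 0x19f)) (.leaf (nat_lit 0x1a1))))) (.node 4 (.node 2 (.node 1 (.leaf (nat_lit 0x1a2)) (.leaf (nat_lit 0x226))) (.node 1 (.leaf (nat_lit 0x1ea)) (.leaf (nat_lit 0x229)))) (.node 2 (.node 1 (.leaf (nat_lit 0x1a8)) (.leaf (nat_lit 0x1a9))) (.node 1 (.leaf (nat_lit 0x22b)) (.leaf (nat_lit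 0x22c)))))) (.node 8 (.node 4 (.node 2 (.node 1 (.leaf (nat_lit 0x1ac)) (.leaf (nat_lit 0x1ad))) (.node 1 (.leaf (nat_lit 0x22f)) (.leaf (nat_lit 0x230)))) (.node 2 (.node 1 (.leaf (nat_lit 0x1b0)) (.leaf (nat_lit 0x233))) (.node 1 (.leaf (nat_lit 0x234)) (.leaf (nat_lit 0x1b3))))) (.node 4 (.node 2 (.node 1 (.leaf (nat_lit 0x1b4)) (.leaf (nat_lit 0x223))) (.node 1 (.leaf (nat_lit 0x1b6)) (.leaf (nat_lit 0x1b7)))) (.node 2 (.node 1 (.leaf (nat_lit 0x1fc)) (.leaf (nat_lit 0x1bb))) (.node 1 (.leaf (nat_lit 0x1bc)) (.leaf (nat_lit 0x23a)))))))))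

noncomputable def M1g1x4 : Tree :=
  (.node 64 (.node 32 (.node 16 (.node 8 (.node 4 (.node 2 (.node 1 (.leaf (nat_lit 0x23b)) (.leaf (nat_lit 0x1bf))) (.node 1 (.leaf (nat_lit 0x1c0)) (.leaf (nat_lit 0x203)))) (.node 2 (.node 1 (.leaf (nat_lit 0x23f)) (.leaf (nat_lit 0x243))) (.node 1 (.leaf (nat_lit 0x206)) (.leaf (nat_lit 0x1c4))))) (.node 4 (.node 2 (.node 1 (.leaf (nat_lit 0x208)) (.leaf (nat_lit 0x209))) (.node 1 (.leaf (nat_lit 0x20a)) (.leaf (nat_lit 0x1d3)))) (.node 2 (.node 1 (.leaf (nat_lit 0x1d4)) (.leaf (nat_lit 0x249))) (.node 1 (.leaf (nat_lit 0x24a)) (.leaf (nat_lit 0x1d7)))))) (.node 8 (.node 4 (.node 2 (.node 1 (.leaf (nat_lit 0x1cf)) (.leaf (nat_lit 0x24d))) (.node 1 (.leaf (nat_lit 0x24e)) (.leaf (nat_lit 0x213)))) (.node 2 (.node 1 (.leaf (nat_lit 0x214)) (.leaf (nat_lit 0x252))) (.node 1 (.leaf (nat_lit 0x1d5))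 (.leaf (nat_lit 0x1d6))))) (.node 4 (.node 2 (.node 1 (.leaf (nat_lit 0x254)) (.leaf (nat_lit 0x255))) (.node 1 (.leaf (nat_lit 0x1d9)) (.leaf (nat_lit 0x1da)))) (.node 2 (.node 1 (.leaf (nat_lit 0x258)) (.leaf (nat_lit 0x259))) (.node 1 (.leaf (nat_lit 0x1dd)) (.leaf (nat_lit 0x25c))))))) (.node 16 (.node 8 (.node 4 (.node 2 (.node 1 (.leaf (nat_lit 0x25d)) (.leaf (nat_lit 0x1e0))) (.node 1 (.leaf (nat_lit 0x1e1)) (.leaf (nat_lit 0x1f9)))) (.node 2 (.node 1 (.leaf (nat_lit 0x1e3)) (.leaf (nat_lit 0x1e4))) (.node 1 (.leaf (nat_lit 0x1e9)) (.leaf (nat_lit 0x261))))) (.node 4 (.node 2 (.node 1 (.leaf (nat_lit 0x262)) (.leaf (nat_lit 0x1eb))) (.node 1 (.leaf (nat_lit 0x253)) (.leaf (nat_lit 0x1ee)))) (.node 2 (.node 1 (.leaf (nat_lit 0x1ef)) (.leaf (nat_lit 0x267))) (.node 1 (.leaf (nat_lit 0x268)) (.leaf (nat_lit 0x1f2)))))) (.node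 8 (.node 4 (.node 2 (.node 1 (.leaf (nat_lit 0x1f3)) (.leaf (nat_lit 0x231))) (.node 1 (.leaf (nat_lit 0x25b)) (.leaf (nat_lit 0x1f5)))) (.node 2 (.node 1 (.leaf (nat_lit 0x1f6)) (.leaf (nat_lit 0x235))) (.node 1 (.leaf (nat_lit 0x25f)) (.leaf (nat_lit 0x260))))) (.node 4 (.node 2 (.node 1 (.leaf (nat_lit 0x238)) (.leaf (nat_lit 0x239))) (.node 1 (.leaf (nat_lit 0x1ff)) (.leaf (nat_lit 0x200)))) (.node 2 (.node 1 (.leaf (nat_lit 0x23c)) (.leaf (nat_lit 0x273))) (.node 1 (.leaf (nat_lit 0x23e)) (.leaf (nat_lit 0x204)))))))) (.node 32 (.node 16 (.node 8 (.node 4 (.node 2 (.node 1 (.leaf (nat_lit 0x240)) (.leaf (nat_lit 0x241))) (.node 1 (.leaf (nat_lit 0x242)) (.leaf (nat_lit 0x205)))) (.node 2 (.node 1 (.leaf (nat_lit 0x244)) (.leaf (nat_lit 0x245))) (.node 1 (.leaf (nat_lit 0x278)) (.leaf (nat_lit 0x247))))) (.node 4 (.node 2 (.node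 1 (.leaf (nat_lit 0x279)) (.leaf (nat_lit 0x20d))) (.node 1 (.leaf (nat_lit 0x20e)) (.leaf (nat_lit 0x27b)))) (.node 2 (.node 1 (.leaf (nat_lit 0x27c)) (.leaf (nat_lit 0x211))) (.node 1 (.leaf (nat_lit 0x212)) (.leaf (nat_lit 0x27f)))))) (.node 8 (.node 4 (.node 2 (.node 1 (.leaf (nat_lit 0x280)) (.leaf (nat_lit 0x251))) (.node 1 (.leaf (nat_lit 0x215)) (.leaf (nat_lit 0x22a)))) (.node 2 (.node 1 (.leaf (nat_lit 0x218)) (.leaf (nat_lit 0x219))) (.node 1 (.leaf (nat_lit 0x287)) (.leaf (nat_lit 0x288))))) (.node 4 (.node 2 (.node 1 (.leaf (nat_lit 0x21c)) (.leaf (nat_lit 0x21d))) (.node 1 (.leaf (nat_lit 0x25a)) (.leaf (nat_lit 0x232)))) (.node 2 (.node 1 (.leaf (nat_lit 0x21f)) (.leaf (nat_lit 0x220))) (.node 1 (.leaf (nat_lit 0x25e)) (.leaf (nat_lit 0x236))))))) (.node 16 (.node 8 (.node 4 (.node 2 (.node 1 (.leaf (nat_lit 0x237))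 (.leaf (nat_lit 0x227))) (.node 1 (.leaf (nat_lit 0x228)) (.leaf (nat_lit 0x291)))) (.node 2 (.node 1 (.leaf (nat_lit 0x284)) (.leaf (nat_lit 0x285))) (.node 1 (.leaf (nat_lit 0x286)) (.leaf (nat_lit 0x22d))))) (.node 4 (.node 2 (.node 1 (.leaf (nat_lit 0x22e)) (.leaf (nat_lit 0x269))) (.node 1 (.leaf (nat_lit 0x26a)) (.leaf (nat_lit 0x26b)))) (.node 2 (.node 1 (.leaf (nat_lit 0x28d)) (.leaf (nat_lit 0x28e))) (.node 1 (.leaf (nat_lit 0x26e)) (.leaf (nat_lit 0x26f)))))) (.node 8 (.node 4 (.node 2 (.node 1 (.leaf (nat_lit 0x270)) (.leaf (nat_lit 0x29b))) (.node 1 (.leaf (nat_lit 0x272)) (.leaf (nat_lit 0x23d)))) (.node 2 (.node 1 (.leaf (nat_lit 0x274)) (.leaf (nat_lit 0x275))) (.node 1 (.leaf (nat_lit 0x276)) (.leaf (nat_lit 0x29d))))) (.node 4 (.node 2 (.node 1 (.leaf (nat_lit 0x246)) (.leaf (nat_lit 0x248))) (.node 1 (.leaf (nat_lit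 0x27a)) (.leaf (nat_lit 0x24b)))) (.node 2 (.node 1 (.leaf (nat_lit 0x24c)) (.leaf (nat_lit 0x2a2))) (.node 1 (.leaf (nat_lit 0x2a3)) (.leaf (nat_lit 0x24f)))))))))

noncomputable def M1g1x5 : Tree :=
  (.node 44 (.node 22 (.node 11 (.node 5 (.node 2 (.node 1 (.leaf (nat_lit 0x250)) (.leaf (nat_lit 0x281))) (.node 1 (.leaf (nat_lit 0x2a7)) (.node 1 (.leaf (nat_lit 0x2ab)) (.leaf (nat_lit 0x264))))) (.node 3 (.node 1 (.leaf (nat_lit 0x265)) (.node 1 (.leaf (nat_lit 0x266)) (.leaf (nat_lit 0x256)))) (.node 1 (.leaf (nat_lit 0x257)) (.node 1 (.leaf (nat_lit 0x289)) (.leaf (nat_lit 0x28a)))))) (.node 5 (.node 2 (.node 1 (.leaf (nat_lit 0x28b)) (.leaf (nat_lit 0x28c))) (.node 1 (.leaf (nat_lit 0x26c)) (.node 1 (.leaf (nat_lit 0x26d)) (.leaf (nat_lit 0x28f))))) (.node 3 (.node 1 (.leaf (nat_lit 0x290)) (.node 1 (.leaf (nat_lit 0x263))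 (.leaf (nat_lit 0x2ac)))) (.node 1 (.leaf (nat_lit 0x2ad)) (.node 1 (.leaf (nat_lit 0x2b6)) (.leaf (nat_lit 0x295))))))) (.node 11 (.node 5 (.node 2 (.node 1 (.leaf (nat_lit 0x296)) (.leaf (nat_lit 0x2b7))) (.node 1 (.leaf (nat_lit 0x2b8)) (.node 1 (.leaf (nat_lit 0x299)) (.leaf (nat_lit 0x2b9))))) (.node 3 (.node 1 (.leaf (nat_lit 0x271)) (.node 1 (.leaf (nat_lit 0x2ba)) (.leaf (nat_lit 0x277)))) (.node 1 (.leaf (nat_lit 0x29e)) (.node 1 (.leaf (nat_lit 0x29f)) (.leaf (nat_lit 0x2a0)))))) (.node 5 (.node 2 (.node 1 (.leaf (nat_lit 0x2a1)) (.leaf (nat_lit 0x27d))) (.node 1 (.leaf (nat_lit 0x27e)) (.node 1 (.leaf (nat_lit 0x2a4)) (.leaf (nat_lit 0x2c0))))) (.node 3 (.node 1 (.leaf (nat_lit 0x2a6)) (.node 1 (.leaf (nat_lit 0x282)) (.leaf (nat_lit 0x2a8)))) (.node 1 (.leaf (nat_lit 0x2a9)) (.node 1 (.leaf (nat_lit 0x2aa)) (.leaf (nat_lit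 0x283)))))))) (.node 22 (.node 11 (.node 5 (.node 2 (.node 1 (.leaf (nat_lit 0x292)) (.leaf (nat_lit 0x293))) (.node 1 (.leaf (nat_lit 0x2c6)) (.node 1 (.leaf (nat_lit 0x2af)) (.leaf (nat_lit 0x2b0))))) (.node 3 (.node 1 (.leaf (nat_lit 0x2b1)) (.node 1 (.leaf (nat_lit 0x2c8)) (.leaf (nat_lit 0x2b3)))) (.node 1 (.leaf (nat_lit 0x2c9)) (.node 1 (.leaf (nat_lit 0x2ca)) (.leaf (nat_lit 0x294)))))) (.node 5 (.node 2 (.node 1 (.leaf (nat_lit 0x297)) (.leaf (nat_lit 0x298))) (.node 1 (.leaf (nat_lit 0x29a)) (.node 1 (.leaf (nat_lit 0x29c)) (.leaf (nat_lit 0x2bb))))) (.node 3 (.node 1 (.leaf (nat_lit 0x2bc)) (.node 1 (.leaf (nat_lit 0x2bd)) (.leaf (nat_lit 0x2cf)))) (.node 1 (.leaf (nat_lit 0x2bf)) (.node 1 (.leaf (nat_lit 0x2a5)) (.leaf (nat_lit 0x2c1))))))) (.node 11 (.node 5 (.node 2 (.node 1 (.leaf (nat_lit 0x2c2)) (.leaf (nat_lit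 0x2c3))) (.node 1 (.leaf (nat_lit 0x2d1)) (.node 1 (.leaf (nat_lit 0x2d2)) (.leaf (nat_lit 0x2ae))))) (.node 3 (.node 1 (.leaf (nat_lit 0x2d3)) (.node 1 (.leaf (nat_lit 0x2b2)) (.leaf (nat_lit 0x2b4)))) (.node 1 (.leaf (nat_lit 0x2b5)) (.node 1 (.leaf (nat_lit 0x2cb)) (.leaf (nat_lit 0x2d4)))))) (.node 5 (.node 2 (.node 1 (.leaf (nat_lit 0x2cd)) (.leaf (nat_lit 0x2d5))) (.node 1 (.leaf (nat_lit 0x2be)) (.node 1 (.leaf (nat_lit 0x2d6)) (.leaf (nat_lit 0x2c4))))) (.node 3 (.node 1 (.leaf (nat_lit 0x2c5)) (.node 1 (.leaf (nat_lit 0x2c7)) (.leaf (nat_lit 0x2cc)))) (.node 1 (.leaf (nat_lit 0x2ce)) (.node 1 (.leaf (nat_lit 0x2d0)) (.leaf (nat_lit 0x2d7)))))))))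

noncomputable def M1g1x : Tree :=
  (.node 384 (.node 128 M1g1x0 (.node 128 M1g1x1 M1g1x2)) (.node 128 M1g1x3 (.node 128 M1g1x4 M1g1x5)))

noncomputable def M1g2x0 : Tree :=
  (.node 64 (.node 32 (.node 16 (.node 8 (.node 4 (.node 2 (.node 1 (.leaf (nat_lit 0)) (.leaf (nat_lit 2))) (.node 1 (.leaf (nat_lit 1)) (.leaf (nat_lit 3)))) (.node 2 (.node 1 (.leaf (nat_lit 4)) (.leaf (nat_lit 5))) (.node 1 (.leaf (nat_lit 6)) (.leaf (nat_lit 7))))) (.node 4 (.node 2 (.node 1 (.leaf (nat_lit 8)) (.leaf (nat_lit 9))) (.node 1 (.leaf (nat_lit 0xa)) (.leaf (nat_lit 0xb)))) (.node 2 (.node 1 (.leaf (nat_lit 0xc)) (.leaf (nat_lit 0xd))) (.node 1 (.leaf (nat_lit 0xe)) (.leaf (nat_lit 0x14)))))) (.node 8 (.node 4 (.node 2 (.node 1 (.leaf (nat_lit 0x10)) (.leaf (nat_lit 0x17))) (.node 1 (.leaf (nat_lit 0x12)) (.leaf (nat_lit 0x13)))) (.node 2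 (.node 1 (.leaf (nat_lit 0xf)) (.leaf (nat_lit 0x1d))) (.node 1 (.leaf (nat_lit 0x16)) (.leaf (nat_lit 0x11))))) (.node 4 (.node 2 (.node 1 (.leaf (nat_lit 0x20)) (.leaf (nat_lit 0x21))) (.node 1 (.leaf (nat_lit 0x1a)) (.leaf (nat_lit 0x1b)))) (.node 2 (.node 1 (.leaf (nat_lit 0x1c)) (.leaf (nat_lit 0x15))) (.node 1 (.leaf (nat_lit 0x27)) (.leaf (nat_lit 0x1f))))))) (.node 16 (.node 8 (.node 4 (.node 2 (.node 1 (.leaf (nat_lit 0x18)) (.leaf (nat_lit 0x19))) (.node 1 (.leaf (nat_lit 0x2b)) (.leaf (nat_lit 0x2c)))) (.node 2 (.node 1 (.leaf (nat_lit 0x2d)) (.leaf (nat_lit 0x25))) (.node 1 (.leaf (nat_lit 0x26)) (.leaf (nat_lit 0x1e))))) (.node 4 (.node 2 (.node 1 (.leaf (nat_lit 0x34)) (.leaf (nat_lit 0x29))) (.node 1 (.leaf (nat_lit 0x2a)) (.leaf (nat_lit 0x22)))) (.node 2 (.node 1 (.leaf (nat_lit 0x23)) (.leaf (nat_lit 0x24))) (.node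 1 (.leaf (nat_lit 0x3a)) (.leaf (nat_lit 0x3b)))))) (.node 8 (.node 4 (.node 2 (.node 1 (.leaf (nat_lit 0x3c)) (.leaf (nat_lit 0x3d))) (.node 1 (.leaf (nat_lit 0x32)) (.leaf (nat_lit 0x33)))) (.node 2 (.node 1 (.leaf (nat_lit 0x28)) (.leaf (nat_lit 0x45))) (.node 1 (.leaf (nat_lit 0x36)) (.leaf (nat_lit 0x37))))) (.node 4 (.node 2 (.node 1 (.leaf (nat_lit 0x38)) (.leaf (nat_lit 0x39))) (.node 1 (.leaf (nat_lit 0x2e)) (.leaf (nat_lit 0x2f)))) (.node 2 (.node 1 (.leaf (nat_lit 0x30)) (.leaf (nat_lit 0x31))) (.node 1 (.leaf (nat_lit 0x4e)) (.leaf (nat_lit 0x4f)))))))) (.node 32 (.node 16 (.node 8 (.node 4 (.node 2 (.node 1 (.leaf (nat_lit 0x50)) (.leaf (nat_lit 0x52))) (.node 1 (.leaf (nat_lit 0x58)) (.leaf (nat_lit 0x43)))) (.node 2 (.node 1 (.leaf (nat_lit 0x44)) (.leaf (nat_lit 0x35))) (.node 1 (.leaf (nat_lit 0x5c)) (.leaf (nat_lit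 0x5d))))) (.node 4 (.node 2 (.node 1 (.leaf (nat_lit 0x48)) (.leaf (nat_lit 0x49))) (.node 1 (.leaf (nat_lit 0x4a)) (.leaf (nat_lit 0x4b)))) (.node 2 (.node 1 (.leaf (nat_lit 0x4c)) (.leaf (nat_lit 0x4d))) (.node 1 (.leaf (nat_lit 0x3e)) (.leaf (nat_lit 0x3f)))))) (.node 8 (.node 4 (.node 2 (.node 1 (.leaf (nat_lit 0x40)) (.leaf (nat_lit 0x51))) (.node 1 (.leaf (nat_lit 0x41)) (.leaf (nat_lit 0x68)))) (.node 2 (.node 1 (.leaf (nat_lit 0x69)) (.leaf (nat_lit 0x71))) (.node 1 (.leaf (nat_lit 0x6b)) (.leaf (nat_lit 0x6d))))) (.node 4 (.node 2 (.node 1 (.leaf (nat_lit 0x42)) (.leaf (nat_lit 0x75))) (.node 1 (.leaf (nat_lit 0x5a)) (.leaf (nat_lit 0x5b)))) (.node 2 (.node 1 (.leaf (nat_lit 0x46)) (.leaf (nat_lit 0x47))) (.node 1 (.leaf (nat_lit 0x7a)) (.leaf (nat_lit 0x7b))))))) (.node 16 (.node 8 (.node 4 (.node 2 (.node 1 (.leaf (nat_lit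 0x60)) (.leaf (nat_lit 0x61))) (.node 1 (.leaf (nat_lit 0x62)) (.leaf (nat_lit 0x83)))) (.node 2 (.node 1 (.leaf (nat_lit 0x64)) (.leaf (nat_lit 0x65))) (.node 1 (.leaf (nat_lit 0x66)) (.leaf (nat_lit 0x67))))) (.node 4 (.node 2 (.node 1 (.leaf (nat_lit 0x53)) (.leaf (nat_lit 0x54))) (.node 1 (.leaf (nat_lit 0x8d)) (.leaf (nat_lit 0x56)))) (.node 2 (.node 1 (.leaf (nat_lit 0x6c)) (.leaf (nat_lit 0x57))) (.node 1 (.leaf (nat_lit 0x8a)) (.leaf (nat_lit 0x94)))))) (.node 8 (.node 4 (.node 2 (.node 1 (.leaf (nat_lit 0x8c)) (.leaf (nat_lit 0x55))) (.node 1 (.leaf (nat_lit 0x98)) (.leaf (nat_lit 0x8f)))) (.node 2 (.node 1 (.leaf (nat_lit 0x74)) (.leaf (nat_lit 0x59))) (.node 1 (.leaf (nat_lit 0x9a)) (.leaf (nat_lit 0x77))))) (.node 4 (.node 2 (.node 1 (.leaf (nat_lit 0x78)) (.leaf (nat_lit 0x79))) (.node 1 (.leaf (nat_lit 0x5e)) (.leaf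 (nat_lit 0x5f)))) (.node 2 (.node 1 (.leaf (nat_lit 0x9f)) (.leaf (nat_lit 0xa0))) (.node 1 (.leaf (nat_lit 0xa1)) (.leaf (nat_lit 0x7f)))))))))

noncomputable def M1g2x1 : Tree :=
  (.node 64 (.node 32 (.node 16 (.node 8 (.node 4 (.node 2 (.node 1 (.leaf (nat_lit 0x80)) (.leaf (nat_lit 0xa9))) (.node 1 (.leaf (nat_lit 0x82)) (.leaf (nat_lit 0x63)))) (.node 2 (.node 1 (.leaf (nat_lit 0xac)) (.leaf (nat_lit 0x85))) (.node 1 (.leaf (nat_lit 0x86)) (.leaf (nat_lit 0x87))))) (.node 4 (.node 2 (.node 1 (.leaf (nat_lit 0x88)) (.leaf (nat_lit 0x89))) (.node 1 (.leaf (nat_lit 0x6e)) (.leaf (nat_lit 0xb7)))) (.node 2 (.node 1 (.leaf (nat_lit 0x70)) (.leaf (nat_lit 0x6a))) (.node 1 (.leaf (nat_lit 0xbb)) (.leaf (nat_lit 0x73)))))) (.node 8 (.node 4 (.node 2 (.node 1 (.leaf (nat_lit 0x90)) (.leaf (nat_lit 0x91))) (.node 1 (.leaf (nat_lit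 0xc0)) (.leaf (nat_lit 0xb6)))) (.node 2 (.node 1 (.leaf (nat_lit 0x6f)) (.leaf (nat_lit 0xc4))) (.node 1 (.leaf (nat_lit 0xb9)) (.leaf (nat_lit 0x97))))) (.node 4 (.node 2 (.node 1 (.leaf (nat_lit 0x72)) (.leaf (nat_lit 0xc8))) (.node 1 (.leaf (nat_lit 0x76)) (.leaf (nat_lit 0xc9)))) (.node 2 (.node 1 (.leaf (nat_lit 0xca)) (.leaf (nat_lit 0x9d))) (.node 1 (.leaf (nat_lit 0x9e)) (.leaf (nat_lit 0x7c))))))) (.node 16 (.node 8 (.node 4 (.node 2 (.node 1 (.leaf (nat_lit 0x7d)) (.leaf (nat_lit 0x7e))) (.node 1 (.leaf (nat_lit 0xce)) (.leaf (nat_lit 0xcf)))) (.node 2 (.node 1 (.leaf (nat_lit 0xd0)) (.leaf (nat_lit 0xd1))) (.node 1 (.leaf (nat_lit 0xa6)) (.leaf (nat_lit 0xda))))) (.node 4 (.node 2 (.node 1 (.leaf (nat_lit 0xa8)) (.leaf (nat_lit 0x81))) (.node 1 (.leaf (nat_lit 0xde)) (.leaf (nat_lit 0xab)))) (.node 2 (.node 1 (.leaf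 (nat_lit 0x84)) (.leaf (nat_lit 0xe1))) (.node 1 (.leaf (nat_lit 0xe2)) (.leaf (nat_lit 0xaf)))))) (.node 8 (.node 4 (.node 2 (.node 1 (.leaf (nat_lit 0xb0)) (.leaf (nat_lit 0xb1))) (.node 1 (.leaf (nat_lit 0xb2)) (.leaf (nat_lit 0xe8)))) (.node 2 (.node 1 (.leaf (nat_lit 0xb4)) (.leaf (nat_lit 0xeb))) (.node 1 (.leaf (nat_lit 0x93)) (.leaf (nat_lit 0x8b))))) (.node 4 (.node 2 (.node 1 (.leaf (nat_lit 0xef)) (.leaf (nat_lit 0x96))) (.node 1 (.leaf (nat_lit 0xdd)) (.leaf (nat_lit 0x8e)))) (.node 2 (.node 1 (.leaf (nat_lit 0xf3)) (.leaf (nat_lit 0xf4))) (.node 1 (.leaf (nat_lit 0xbe)) (.leaf (nat_lit 0xbf)))))))) (.node 32 (.node 16 (.node 8 (.node 4 (.node 2 (.node 1 (.leaf (nat_lit 0x92)) (.leaf (nat_lit 0xf8))) (.node 1 (.leaf (nat_lit 0xed)) (.leaf (nat_lit 0xc3)))) (.node 2 (.node 1 (.leaf (nat_lit 0x95)) (.leaf (nat_lit 0xfc)))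 (.node 1 (.leaf (nat_lit 0xfd)) (.leaf (nat_lit 0xc7))))) (.node 4 (.node 2 (.node 1 (.leaf (nat_lit 0x99)) (.leaf (nat_lit 0x9b))) (.node 1 (.leaf (nat_lit 0x9c)) (.leaf (nat_lit 0x101)))) (.node 2 (.node 1 (.leaf (nat_lit 0x102)) (.leaf (nat_lit 0xcd))) (.node 1 (.leaf (nat_lit 0xa2)) (.leaf (nat_lit 0xa3)))))) (.node 8 (.node 4 (.node 2 (.node 1 (.leaf (nat_lit 0xa4)) (.leaf (nat_lit 0xa5))) (.node 1 (.leaf (nat_lit 0x105)) (.leaf (nat_lit 0x106)))) (.node 2 (.node 1 (.leaf (nat_lit 0x107)) (.leaf (nat_lit 0x108))) (.node 1 (.leaf (nat_lit 0x10e)) (.leaf (nat_lit 0x10a))))) (.node 4 (.node 2 (.node 1 (.leaf (nat_lit 0x111)) (.leaf (nat_lit 0xd9))) (.node 1 (.leaf (nat_lit 0xa7)) (.leaf (nat_lit 0x115)))) (.node 2 (.node 1 (.leaf (nat_lit 0xdc)) (.leaf (nat_lit 0xba))) (.node 1 (.leaf (nat_lit 0xaa)) (.leaf (nat_lit 0x119)))))))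 (.node 16 (.node 8 (.node 4 (.node 2 (.node 1 (.leaf (nat_lit 0x11a)) (.leaf (nat_lit 0xad))) (.node 1 (.leaf (nat_lit 0xae)) (.leaf (nat_lit 0x11e)))) (.node 2 (.node 1 (.leaf (nat_lit 0x11f)) (.leaf (nat_lit 0xe5))) (.node 1 (.leaf (nat_lit 0x121)) (.leaf (nat_lit 0xe7))))) (.node 4 (.node 2 (.node 1 (.leaf (nat_lit 0xb3)) (.leaf (nat_lit 0x124))) (.node 1 (.leaf (nat_lit 0xea)) (.leaf (nat_lit 0xb5)))) (.node 2 (.node 1 (.leaf (nat_lit 0x128)) (.leaf (nat_lit 0xc2))) (.node 1 (.leaf (nat_lit 0x114)) (.leaf (nat_lit 0xb8)))))) (.node 8 (.node 4 (.node 2 (.node 1 (.leaf (nat_lit 0x12c)) (.leaf (nat_lit 0x12d))) (.node 1 (.leaf (nat_lit 0x118)) (.leaf (nat_lit 0xbc)))) (.node 2 (.node 1 (.leaf (nat_lit 0xbd)) (.leaf (nat_lit 0x132))) (.node 1 (.leaf (nat_lit 0x133)) (.leaf (nat_lit 0xf7))))) (.node 4 (.node 2 (.node 1 (.leaf (nat_lit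 0xc1)) (.leaf (nat_lit 0x135))) (.node 1 (.leaf (nat_lit 0x136)) (.leaf (nat_lit 0xfb)))) (.node 2 (.node 1 (.leaf (nat_lit 0xc5)) (.leaf (nat_lit 0xc6))) (.node 1 (.leaf (nat_lit 0x13c)) (.leaf (nat_lit 0xff)))))))))

noncomputable def M1g2x2 : Tree :=
  (.node 64 (.node 32 (.node 16 (.node 8 (.node 4 (.node 2 (.node 1 (.leaf (nat_lit 0x100)) (.leaf (nat_lit 0xcb))) (.node 1 (.leaf (nat_lit 0xcc)) (.leaf (nat_lit 0x103)))) (.node 2 (.node 1 (.leaf (nat_lit 0x104)) (.leaf (nat_lit 0xd2))) (.node 1 (.leaf (nat_lit 0xd3)) (.leaf (nat_lit 0xd4))))) (.node 4 (.node 2 (.node 1 (.leaf (nat_lit 0xd5)) (.leaf (nat_lit 0x147))) (.node 1 (.leaf (nat_lit 0xd7)) (.leaf (nat_lit 0x144)))) (.node 2 (.node 1 (.leaf (nat_lit 0x14b)) (.leaf (nat_lit 0x146))) (.node 1 (.leaf (nat_lit 0xd6)) (.leaf (nat_lit 0x14e)))))) (.node 8 (.node 4 (.node 2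 (.node 1 (.leaf (nat_lit 0x149)) (.leaf (nat_lit 0xd8))) (.node 1 (.leaf (nat_lit 0x152)) (.leaf (nat_lit 0x113)))) (.node 2 (.node 1 (.leaf (nat_lit 0xee)) (.leaf (nat_lit 0xdb))) (.node 1 (.leaf (nat_lit 0x156)) (.leaf (nat_lit 0x157))))) (.node 4 (.node 2 (.node 1 (.leaf (nat_lit 0xf2)) (.leaf (nat_lit 0xdf))) (.node 1 (.leaf (nat_lit 0xe0)) (.leaf (nat_lit 0x15d)))) (.node 2 (.node 1 (.leaf (nat_lit 0x15e)) (.leaf (nat_lit 0x15c))) (.node 1 (.leaf (nat_lit 0xe3)) (.leaf (nat_lit 0xe4))))))) (.node 16 (.node 8 (.node 4 (.node 2 (.node 1 (.leaf (nat_lit 0x161)) (.leaf (nat_lit 0xe6))) (.node 1 (.leaf (nat_lit 0x163)) (.leaf (nat_lit 0x14d)))) (.node 2 (.node 1 (.leaf (nat_lit 0xe9)) (.leaf (nat_lit 0x166))) (.node 1 (.leaf (nat_lit 0x167)) (.leaf (nat_lit 0x151))))) (.node 4 (.node 2 (.node 1 (.leaf (nat_lit 0xec)) (.leaf (nat_lit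 0x16b))) (.node 1 (.leaf (nat_lit 0x16c)) (.leaf (nat_lit 0x155)))) (.node 2 (.node 1 (.leaf (nat_lit 0xf0)) (.leaf (nat_lit 0xf1))) (.node 1 (.leaf (nat_lit 0x172)) (.leaf (nat_lit 0x173)))))) (.node 8 (.node 4 (.node 2 (.node 1 (.leaf (nat_lit 0x15a)) (.leaf (nat_lit 0x15b))) (.node 1 (.leaf (nat_lit 0xf5)) (.leaf (nat_lit 0xf6)))) (.node 2 (.node 1 (.leaf (nat_lit 0x134)) (.leaf (nat_lit 0xf9))) (.node 1 (.leaf (nat_lit 0xfa)) (.leaf (nat_lit 0x179))))) (.node 4 (.node 2 (.node 1 (.leaf (nat_lit 0x17a)) (.leaf (nat_lit 0x139))) (.node 1 (.leaf (nat_lit 0x13a)) (.leaf (nat_lit 0x13b)))) (.node 2 (.node 1 (.leaf (nat_lit 0xfe)) (.leaf (nat_lit 0x180))) (.node 1 (.leaf (nat_lit 0x13e)) (.leaf (nat_lit 0x13f)))))))) (.node 32 (.node 16 (.node 8 (.node 4 (.node 2 (.node 1 (.leaf (nat_lit 0x140)) (.leaf (nat_lit 0x141))) (.node 1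 (.leaf (nat_lit 0x142)) (.leaf (nat_lit 0x143)))) (.node 2 (.node 1 (.leaf (nat_lit 0x10b)) (.leaf (nat_lit 0x187))) (.node 1 (.leaf (nat_lit 0x10d)) (.leaf (nat_lit 0x109))))) (.node 4 (.node 2 (.node 1 (.leaf (nat_lit 0x18a)) (.leaf (nat_lit 0x110))) (.node 1 (.leaf (nat_lit 0x18d)) (.leaf (nat_lit 0x10c)))) (.node 2 (.node 1 (.leaf (nat_lit 0x18f)) (.leaf (nat_lit 0x123))) (.node 1 (.leaf (nat_lit 0x10f)) (.leaf (nat_lit 0x192)))))) (.node 8 (.node 4 (.node 2 (.node 1 (.leaf (nat_lit 0x193)) (.leaf (nat_lit 0x127))) (.node 1 (.leaf (nat_lit 0x112)) (.leaf (nat_lit 0x197)))) (.node 2 (.node 1 (.leaf (nat_lit 0x198)) (.leaf (nat_lit 0x12b))) (.node 1 (.leaf (nat_lit 0x116)) (.leaf (nat_lit 0x117))))) (.node 4 (.node 2 (.node 1 (.leaf (nat_lit 0x19e)) (.leaf (nat_lit 0x19f))) (.node 1 (.leaf (nat_lit 0x130)) (.leaf (nat_lit 0x131))))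 (.node 2 (.node 1 (.leaf (nat_lit 0x11d)) (.leaf (nat_lit 0x11b))) (.node 1 (.leaf (nat_lit 0x11c)) (.leaf (nat_lit 0x1a3))))))) (.node 16 (.node 8 (.node 4 (.node 2 (.node 1 (.leaf (nat_lit 0x1a4)) (.leaf (nat_lit 0x120))) (.node 1 (.leaf (nat_lit 0x18e)) (.leaf (nat_lit 0x122)))) (.node 2 (.node 1 (.leaf (nat_lit 0x1a8)) (.leaf (nat_lit 0x191))) (.node 1 (.leaf (nat_lit 0x125)) (.leaf (nat_lit 0x126))))) (.node 4 (.node 2 (.node 1 (.leaf (nat_lit 0x1ac)) (.leaf (nat_lit 0x1ad))) (.node 1 (.leaf (nat_lit 0x196)) (.leaf (nat_lit 0x129)))) (.node 2 (.node 1 (.leaf (nat_lit 0x12a)) (.leaf (nat_lit 0x1b3))) (.node 1 (.leaf (nat_lit 0x1b4)) (.leaf (nat_lit 0x19b)))))) (.node 8 (.node 4 (.node 2 (.node 1 (.leaf (nat_lit 0x19c)) (.leaf (nat_lit 0x171))) (.node 1 (.leaf (nat_lit 0x12e)) (.leaf (nat_lit 0x12f)))) (.node 2 (.node 1 (.leaf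 (nat_lit 0x1a1)) (.leaf (nat_lit 0x1a2))) (.node 1 (.leaf (nat_lit 0x176)) (.leaf (nat_lit 0x177))))) (.node 4 (.node 2 (.node 1 (.leaf (nat_lit 0x178)) (.leaf (nat_lit 0x137))) (.node 1 (.leaf (nat_lit 0x138)) (.leaf (nat_lit 0x1bf)))) (.node 2 (.node 1 (.leaf (nat_lit 0x1c0)) (.leaf (nat_lit 0x1c2))) (.node 1 (.leaf (nat_lit 0x17e)) (.leaf (nat_lit 0x17f)))))))))

noncomputable def M1g2x3 : Tree :=
  (.node 64 (.node 32 (.node 16 (.node 8 (.node 4 (.node 2 (.node 1 (.leaf (nat_lit 0x13d)) (.leaf (nat_lit 0x181))) (.node 1 (.leaf (nat_lit 0x182)) (.leaf (nat_lit 0x183)))) (.node 2 (.node 1 (.leaf (nat_lit 0x184)) (.leaf (nat_lit 0x185))) (.node 1 (.leaf (nat_lit 0x1ca)) (.leaf (nat_lit 0x145))))) (.node 4 (.node 2 (.node 1 (.leaf (nat_lit 0x1cc)) (.leaf (nat_lit 0x189))) (.node 1 (.leaf (nat_lit 0x148)) (.leaf (nat_lit 0x1cf))))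 (.node 2 (.node 1 (.leaf (nat_lit 0x1d0)) (.leaf (nat_lit 0x14a))) (.node 1 (.leaf (nat_lit 0x162)) (.leaf (nat_lit 0x14c)))))) (.node 8 (.node 4 (.node 2 (.node 1 (.leaf (nat_lit 0x1d5)) (.leaf (nat_lit 0x165))) (.node 1 (.leaf (nat_lit 0x14f)) (.leaf (nat_lit 0x150)))) (.node 2 (.node 1 (.leaf (nat_lit 0x1d9)) (.leaf (nat_lit 0x1da))) (.node 1 (.leaf (nat_lit 0x16a)) (.leaf (nat_lit 0x153))))) (.node 4 (.node 2 (.node 1 (.leaf (nat_lit 0x154)) (.leaf (nat_lit 0x1e0))) (.node 1 (.leaf (nat_lit 0x1e1)) (.leaf (nat_lit 0x16f)))) (.node 2 (.node 1 (.leaf (nat_lit 0x170)) (.leaf (nat_lit 0x19d))) (.node 1 (.leaf (nat_lit 0x158)) (.leaf (nat_lit 0x159))))))) (.node 16 (.node 8 (.node 4 (.node 2 (.node 1 (.leaf (nat_lit 0x1a0)) (.leaf (nat_lit 0x174))) (.node 1 (.leaf (nat_lit 0x175)) (.leaf (nat_lit 0x15f)))) (.node 2 (.node 1 (.leaf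 (nat_lit 0x160)) (.leaf (nat_lit 0x1e9))) (.node 1 (.leaf (nat_lit 0x1d3)) (.leaf (nat_lit 0x1d4))))) (.node 4 (.node 2 (.node 1 (.leaf (nat_lit 0x164)) (.leaf (nat_lit 0x1d6))) (.node 1 (.leaf (nat_lit 0x1d7)) (.leaf (nat_lit 0x1ab)))) (.node 2 (.node 1 (.leaf (nat_lit 0x168)) (.leaf (nat_lit 0x169))) (.node 1 (.leaf (nat_lit 0x1f2)) (.leaf (nat_lit 0x1f3)))))) (.node 8 (.node 4 (.node 2 (.node 1 (.leaf (nat_lit 0x1dd)) (.leaf (nat_lit 0x1de))) (.node 1 (.leaf (nat_lit 0x1b2)) (.leaf (nat_lit 0x16d)))) (.node 2 (.node 1 (.leaf (nat_lit 0x16e)) (.leaf (nat_lit 0x1f9))) (.node 1 (.leaf (nat_lit 0x1e3)) (.leaf (nat_lit 0x1e4))))) (.node 4 (.node 2 (.node 1 (.leaf (nat_lit 0x1b8)) (.leaf (nat_lit 0x1b9))) (.node 1 (.leaf (nat_lit 0x1fc)) (.leaf (nat_lit 0x1bb)))) (.node 2 (.node 1 (.leaf (nat_lit 0x1bc)) (.leaf (nat_lit 0x1bd))) (.node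 1 (.leaf (nat_lit 0x1be)) (.leaf (nat_lit 0x17b)))))))) (.node 32 (.node 16 (.node 8 (.node 4 (.node 2 (.node 1 (.leaf (nat_lit 0x17c)) (.leaf (nat_lit 0x204))) (.node 1 (.leaf (nat_lit 0x17d)) (.leaf (nat_lit 0x206)))) (.node 2 (.node 1 (.leaf (nat_lit 0x1c4)) (.leaf (nat_lit 0x1c5))) (.node 1 (.leaf (nat_lit 0x1c6)) (.leaf (nat_lit 0x1c7))))) (.node 4 (.node 2 (.node 1 (.leaf (nat_lit 0x1c8)) (.leaf (nat_lit 0x20a))) (.node 1 (.leaf (nat_lit 0x186)) (.leaf (nat_lit 0x1cb)))) (.node 2 (.node 1 (.leaf (nat_lit 0x188)) (.leaf (nat_lit 0x20d))) (.node 1 (.leaf (nat_lit 0x1ce)) (.leaf (nat_lit 0x18b)))))) (.node 8 (.node 4 (.node 2 (.node 1 (.leaf (nat_lit 0x18c)) (.leaf (nat_lit 0x211))) (.node 1 (.leaf (nat_lit 0x212)) (.leaf (nat_lit 0x1a6)))) (.node 2 (.node 1 (.leaf (nat_lit 0x1a7)) (.leaf (nat_lit 0x190))) (.node 1 (.leaf (nat_lit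 0x1a9)) (.leaf (nat_lit 0x1aa))))) (.node 4 (.node 2 (.node 1 (.leaf (nat_lit 0x1d8)) (.leaf (nat_lit 0x194))) (.node 1 (.leaf (nat_lit 0x195)) (.leaf (nat_lit 0x21c)))) (.node 2 (.node 1 (.leaf (nat_lit 0x21d)) (.leaf (nat_lit 0x1b0))) (.node 1 (.leaf (nat_lit 0x1b1)) (.leaf (nat_lit 0x1df))))))) (.node 16 (.node 8 (.node 4 (.node 2 (.node 1 (.leaf (nat_lit 0x199)) (.leaf (nat_lit 0x19a))) (.node 1 (.leaf (nat_lit 0x223)) (.leaf (nat_lit 0x1b6)))) (.node 2 (.node 1 (.leaf (nat_lit 0x1b7)) (.leaf (nat_lit 0x1e5))) (.node 1 (.leaf (nat_lit 0x1e6)) (.leaf (nat_lit 0x1e7))))) (.node 4 (.node 2 (.node 1 (.leaf (nat_lit 0x1e8)) (.leaf (nat_lit 0x1a5))) (.node 1 (.leaf (nat_lit 0x228)) (.leaf (nat_lit 0x215)))) (.node 2 (.node 1 (.leaf (nat_lit 0x1ec)) (.leaf (nat_lit 0x22a))) (.node 1 (.leaf (nat_lit 0x218)) (.leaf (nat_lit 0x219))))))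 (.node 8 (.node 4 (.node 2 (.node 1 (.leaf (nat_lit 0x1f0)) (.leaf (nat_lit 0x1f1))) (.node 1 (.leaf (nat_lit 0x1ae)) (.leaf (nat_lit 0x1af)))) (.node 2 (.node 1 (.leaf (nat_lit 0x232)) (.leaf (nat_lit 0x21f))) (.node 1 (.leaf (nat_lit 0x220)) (.leaf (nat_lit 0x1f7))))) (.node 4 (.node 2 (.node 1 (.leaf (nat_lit 0x1f8)) (.leaf (nat_lit 0x1b5))) (.node 1 (.leaf (nat_lit 0x236)) (.leaf (nat_lit 0x237)))) (.node 2 (.node 1 (.leaf (nat_lit 0x1ba)) (.leaf (nat_lit 0x238))) (.node 1 (.leaf (nat_lit 0x239)) (.leaf (nat_lit 0x1ff)))))))))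

noncomputable def M1g2x4 : Tree :=
  (.node 64 (.node 32 (.node 16 (.node 8 (.node 4 (.node 2 (.node 1 (.leaf (nat_lit 0x200)) (.leaf (nat_lit 0x201))) (.node 1 (.leaf (nat_lit 0x202)) (.leaf (nat_lit 0x203)))) (.node 2 (.node 1 (.leaf (nat_lit 0x1c1)) (.leaf (nat_lit 0x242))) (.node 1 (.leaf (nat_lit 0x1c3)) (.leaf (nat_lit 0x244))))) (.node 4 (.node 2 (.node 1 (.leaf (nat_lit 0x208)) (.leaf (nat_lit 0x209))) (.node 1 (.leaf (nat_lit 0x1c9)) (.leaf (nat_lit 0x20b)))) (.node 2 (.node 1 (.leaf (nat_lit 0x20c)) (.leaf (nat_lit 0x1cd))) (.node 1 (.leaf (nat_lit 0x20e)) (.leaf (nat_lit 0x20f)))))) (.node 8 (.node 4 (.node 2 (.node 1 (.leaf (nat_lit 0x210)) (.leaf (nat_lit 0x1d1))) (.node 1 (.leaf (nat_lit 0x1d2)) (.leaf (nat_lit 0x24f)))) (.node 2 (.node 1 (.leaf (nat_lit 0x250)) (.leaf (nat_lit 0x1eb))) (.node 1 (.leaf (nat_lit 0x216))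 (.leaf (nat_lit 0x253))))) (.node 4 (.node 2 (.node 1 (.leaf (nat_lit 0x1ee)) (.leaf (nat_lit 0x1ef))) (.node 1 (.leaf (nat_lit 0x21a)) (.leaf (nat_lit 0x21b)))) (.node 2 (.node 1 (.leaf (nat_lit 0x1db)) (.leaf (nat_lit 0x1dc))) (.node 1 (.leaf (nat_lit 0x25b)) (.leaf (nat_lit 0x1f5))))))) (.node 16 (.node 8 (.node 4 (.node 2 (.node 1 (.leaf (nat_lit 0x1f6)) (.leaf (nat_lit 0x221))) (.node 1 (.leaf (nat_lit 0x222)) (.leaf (nat_lit 0x1e2)))) (.node 2 (.node 1 (.leaf (nat_lit 0x25f)) (.leaf (nat_lit 0x260))) (.node 1 (.leaf (nat_lit 0x226)) (.leaf (nat_lit 0x227))))) (.node 4 (.node 2 (.node 1 (.leaf (nat_lit 0x1ea)) (.leaf (nat_lit 0x264))) (.node 1 (.leaf (nat_lit 0x1ed)) (.leaf (nat_lit 0x265)))) (.node 2 (.node 1 (.leaf (nat_lit 0x266)) (.leaf (nat_lit 0x256))) (.node 1 (.leaf (nat_lit 0x257)) (.leaf (nat_lit 0x22f)))))) (.node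 8 (.node 4 (.node 2 (.node 1 (.leaf (nat_lit 0x230)) (.leaf (nat_lit 0x231))) (.node 1 (.leaf (nat_lit 0x1f4)) (.leaf (nat_lit 0x26c)))) (.node 2 (.node 1 (.leaf (nat_lit 0x26d)) (.leaf (nat_lit 0x235))) (.node 1 (.leaf (nat_lit 0x1fa)) (.leaf (nat_lit 0x1fb))))) (.node 4 (.node 2 (.node 1 (.leaf (nat_lit 0x1fd)) (.leaf (nat_lit 0x1fe))) (.node 1 (.leaf (nat_lit 0x26f)) (.leaf (nat_lit 0x270)))) (.node 2 (.node 1 (.leaf (nat_lit 0x271)) (.leaf (nat_lit 0x23d))) (.node 1 (.leaf (nat_lit 0x23e)) (.leaf (nat_lit 0x23f)))))))) (.node 32 (.node 16 (.node 8 (.node 4 (.node 2 (.node 1 (.leaf (nat_lit 0x240)) (.leaf (nat_lit 0x241))) (.node 1 (.leaf (nat_lit 0x205)) (.leaf (nat_lit 0x243)))) (.node 2 (.node 1 (.leaf (nat_lit 0x207)) (.leaf (nat_lit 0x277))) (.node 1 (.leaf (nat_lit 0x246)) (.leaf (nat_lit 0x247))))) (.node 4 (.node 2 (.node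 1 (.leaf (nat_lit 0x248)) (.leaf (nat_lit 0x249))) (.node 1 (.leaf (nat_lit 0x27a)) (.leaf (nat_lit 0x24b)))) (.node 2 (.node 1 (.leaf (nat_lit 0x24c)) (.leaf (nat_lit 0x24d))) (.node 1 (.leaf (nat_lit 0x24e)) (.leaf (nat_lit 0x213)))))) (.node 8 (.node 4 (.node 2 (.node 1 (.leaf (nat_lit 0x214)) (.leaf (nat_lit 0x282))) (.node 1 (.leaf (nat_lit 0x284)) (.leaf (nat_lit 0x217)))) (.node 2 (.node 1 (.leaf (nat_lit 0x285)) (.leaf (nat_lit 0x286))) (.node 1 (.leaf (nat_lit 0x22d)) (.leaf (nat_lit 0x22e))))) (.node 4 (.node 2 (.node 1 (.leaf (nat_lit 0x258)) (.leaf (nat_lit 0x259))) (.node 1 (.leaf (nat_lit 0x25a)) (.leaf (nat_lit 0x21e)))) (.node 2 (.node 1 (.leaf (nat_lit 0x28d)) (.leaf (nat_lit 0x28e))) (.node 1 (.leaf (nat_lit 0x25e)) (.leaf (nat_lit 0x224))))))) (.node 16 (.node 8 (.node 4 (.node 2 (.node 1 (.leaf (nat_lit 0x225))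 (.leaf (nat_lit 0x290))) (.node 1 (.leaf (nat_lit 0x262)) (.leaf (nat_lit 0x263)))) (.node 2 (.node 1 (.leaf (nat_lit 0x229)) (.leaf (nat_lit 0x22b))) (.node 1 (.leaf (nat_lit 0x22c)) (.leaf (nat_lit 0x292))))) (.node 4 (.node 2 (.node 1 (.leaf (nat_lit 0x293)) (.leaf (nat_lit 0x294))) (.node 1 (.leaf (nat_lit 0x26a)) (.leaf (nat_lit 0x26b)))) (.node 2 (.node 1 (.leaf (nat_lit 0x233)) (.leaf (nat_lit 0x234))) (.node 1 (.leaf (nat_lit 0x297)) (.leaf (nat_lit 0x23a)))))) (.node 8 (.node 4 (.node 2 (.node 1 (.leaf (nat_lit 0x23b)) (.leaf (nat_lit 0x23c))) (.node 1 (.leaf (nat_lit 0x298)) (.leaf (nat_lit 0x299)))) (.node 2 (.node 1 (.leaf (nat_lit 0x29a)) (.leaf (nat_lit 0x29c))) (.node 1 (.leaf (nat_lit 0x276)) (.leaf (nat_lit 0x245))))) (.node 4 (.node 2 (.node 1 (.leaf (nat_lit 0x29e)) (.leaf (nat_lit 0x29f))) (.node 1 (.leaf (nat_lit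 0x24a)) (.leaf (nat_lit 0x2a0)))) (.node 2 (.node 1 (.leaf (nat_lit 0x2a1)) (.leaf (nat_lit 0x27d))) (.node 1 (.leaf (nat_lit 0x27e)) (.leaf (nat_lit 0x27f)))))))))

noncomputable def M1g2x5 : Tree :=
  (.node 44 (.node 22 (.node 11 (.node 5 (.node 2 (.node 1 (.leaf (nat_lit 0x280)) (.leaf (nat_lit 0x281))) (.node 1 (.leaf (nat_lit 0x251)) (.node 1 (.leaf (nat_lit 0x2aa)) (.leaf (nat_lit 0x252))))) (.node 3 (.node 1 (.leaf (nat_lit 0x254)) (.node 1 (.leaf (nat_lit 0x255)) (.leaf (nat_lit 0x2ac)))) (.node 1 (.leaf (nat_lit 0x2ad)) (.node 1 (.leaf (nat_lit 0x2ae)) (.leaf (nat_lit 0x28a)))))) (.node 5 (.node 2 (.node 1 (.leaf (nat_lit 0x28b)) (.leaf (nat_lit 0x28c))) (.node 1 (.leaf (nat_lit 0x25c)) (.node 1 (.leaf (nat_lit 0x25d)) (.leaf (nat_lit 0x2b2))))) (.node 3 (.node 1 (.leaf (nat_lit 0x261)) (.node 1 (.leaf (nat_lit 0x2b3))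 (.leaf (nat_lit 0x267)))) (.node 1 (.leaf (nat_lit 0x268)) (.node 1 (.leaf (nat_lit 0x269)) (.leaf (nat_lit 0x2b4))))))) (.node 11 (.node 5 (.node 2 (.node 1 (.leaf (nat_lit 0x2b5)) (.leaf (nat_lit 0x26e))) (.node 1 (.leaf (nat_lit 0x272)) (.node 1 (.leaf (nat_lit 0x273)) (.leaf (nat_lit 0x274))))) (.node 3 (.node 1 (.leaf (nat_lit 0x29b)) (.node 1 (.leaf (nat_lit 0x275)) (.leaf (nat_lit 0x29d)))) (.node 1 (.leaf (nat_lit 0x278)) (.node 1 (.leaf (nat_lit 0x279)) (.leaf (nat_lit 0x27b)))))) (.node 5 (.node 2 (.node 1 (.leaf (nat_lit 0x27c)) (.leaf (nat_lit 0x2bc))) (.node 1 (.leaf (nat_lit 0x2bd)) (.node 1 (.leaf (nat_lit 0x2be)) (.leaf (nat_lit 0x2a5))))) (.node 3 (.node 1 (.leaf (nat_lit 0x2a6)) (.node 1 (.leaf (nat_lit 0x2a7)) (.leaf (nat_lit 0x2a8)))) (.node 1 (.leaf (nat_lit 0x2a9)) (.node 1 (.leaf (nat_lit 0x283)) (.leaf (nat_lit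 0x2ab)))))))) (.node 22 (.node 11 (.node 5 (.node 2 (.node 1 (.leaf (nat_lit 0x287)) (.leaf (nat_lit 0x288))) (.node 1 (.leaf (nat_lit 0x289)) (.node 1 (.leaf (nat_lit 0x2c4)) (.leaf (nat_lit 0x2c5))))) (.node 3 (.node 1 (.leaf (nat_lit 0x2c7)) (.node 1 (.leaf (nat_lit 0x28f)) (.leaf (nat_lit 0x291)))) (.node 1 (.leaf (nat_lit 0x295)) (.node 1 (.leaf (nat_lit 0x296)) (.leaf (nat_lit 0x2b6)))))) (.node 5 (.node 2 (.node 1 (.leaf (nat_lit 0x2b7)) (.leaf (nat_lit 0x2b8))) (.node 1 (.leaf (nat_lit 0x2b9)) (.node 1 (.leaf (nat_lit 0x2ba)) (.leaf (nat_lit 0x2bb))))) (.node 3 (.node 1 (.leaf (nat_lit 0x2a2)) (.node 1 (.leaf (nat_lit 0x2a3)) (.leaf (nat_lit 0x2a4)))) (.node 1 (.leaf (nat_lit 0x2cc)) (.node 1 (.leaf (nat_lit 0x2cd)) (.leaf (nat_lit 0x2ce))))))) (.node 11 (.node 5 (.node 2 (.node 1 (.leaf (nat_lit 0x2d0)) (.leaf (nat_lit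 0x2c3))) (.node 1 (.leaf (nat_lit 0x2af)) (.node 1 (.leaf (nat_lit 0x2b0)) (.leaf (nat_lit 0x2c6))))) (.node 3 (.node 1 (.leaf (nat_lit 0x2b1)) (.node 1 (.leaf (nat_lit 0x2c8)) (.leaf (nat_lit 0x2c9)))) (.node 1 (.leaf (nat_lit 0x2ca)) (.node 1 (.leaf (nat_lit 0x2cb)) (.leaf (nat_lit 0x2bf)))))) (.node 5 (.node 2 (.node 1 (.leaf (nat_lit 0x2c0)) (.leaf (nat_lit 0x2c1))) (.node 1 (.leaf (nat_lit 0x2cf)) (.node 1 (.leaf (nat_lit 0x2c2)) (.leaf (nat_lit 0x2d1))))) (.node 3 (.node 1 (.leaf (nat_lit 0x2d2)) (.node 1 (.leaf (nat_lit 0x2d3)) (.leaf (nat_lit 0x2d4)))) (.node 1 (.leaf (nat_lit 0x2d5)) (.node 1 (.leaf (nat_lit 0x2d6)) (.leaf (nat_lit 0x2d7)))))))))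

noncomputable def M1g2x : Tree :=
  (.node 384 (.node 128 M1g2x0 (.node 128 M1g2x1 M1g2x2)) (.node 128 M1g2x3 (.node 128 M1g2x4 M1g2x5)))

noncomputable def M1g3x0 : Tree :=
  (.node 64 (.node 32 (.node 16 (.node 8 (.node 4 (.node 2 (.node 1 (.leaf (nat_lit 1)) (.leaf (nat_lit 0))) (.node 1 (.leaf (nat_lit 2)) (.leaf (nat_lit 3)))) (.node 2 (.node 1 (.leaf (nat_lit 4)) (.leaf (nat_lit 5))) (.node 1 (.leaf (nat_lit 6)) (.leaf (nat_lit 7))))) (.node 4 (.node 2 (.node 1 (.leaf (nat_lit 8)) (.leaf (nat_lit 9))) (.node 1 (.leaf (nat_lit 0xa)) (.leaf (nat_lit 0xb)))) (.node 2 (.node 1 (.leaf (nat_lit 0xc)) (.leaf (nat_lit 0xd))) (.node 1 (.leaf (nat_lit 0xe)) (.leaf (nat_lit 0xf)))))) (.node 8 (.node 4 (.node 2 (.node 1 (.leaf (nat_lit 0x10)) (.leaf (nat_lit 0x11))) (.node 1 (.leaf (nat_lit 0x12)) (.leaf (nat_lit 0x13)))) (.node 2 (.node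 1 (.leaf (nat_lit 0x1c)) (.leaf (nat_lit 0x15))) (.node 1 (.leaf (nat_lit 0x16)) (.leaf (nat_lit 0x1f))))) (.node 4 (.node 2 (.node 1 (.leaf (nat_lit 0x18)) (.leaf (nat_lit 0x19))) (.node 1 (.leaf (nat_lit 0x1a)) (.leaf (nat_lit 0x1b)))) (.node 2 (.node 1 (.leaf (nat_lit 0x14)) (.leaf (nat_lit 0x26))) (.node 1 (.leaf (nat_lit 0x1e)) (.leaf (nat_lit 0x17))))))) (.node 16 (.node 8 (.node 4 (.node 2 (.node 1 (.leaf (nat_lit 0x29)) (.leaf (nat_lit 0x2a))) (.node 1 (.leaf (nat_lit 0x22)) (.leaf (nat_lit 0x23)))) (.node 2 (.node 1 (.leaf (nat_lit 0x24)) (.leaf (nat_lit 0x25))) (.node 1 (.leaf (nat_lit 0x1d)) (.leaf (nat_lit 0x33))))) (.node 4 (.node 2 (.node 1 (.leaf (nat_lit 0x28)) (.leaf (nat_lit 0x20))) (.node 1 (.leaf (nat_lit 0x21)) (.leaf (nat_lit 0x36)))) (.node 2 (.node 1 (.leaf (nat_lit 0x37)) (.leaf (nat_lit 0x38))) (.node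 1 (.leaf (nat_lit 0x2e)) (.leaf (nat_lit 0x2f)))))) (.node 8 (.node 4 (.node 2 (.node 1 (.leaf (nat_lit 0x30)) (.leaf (nat_lit 0x31))) (.node 1 (.leaf (nat_lit 0x32)) (.leaf (nat_lit 0x27)))) (.node 2 (.node 1 (.leaf (nat_lit 0x43)) (.leaf (nat_lit 0x35))) (.node 1 (.leaf (nat_lit 0x2b)) (.leaf (nat_lit 0x2c))))) (.node 4 (.node 2 (.node 1 (.leaf (nat_lit 0x2d)) (.leaf (nat_lit 0x47))) (.node 1 (.leaf (nat_lit 0x48)) (.leaf (nat_lit 0x49)))) (.node 2 (.node 1 (.leaf (nat_lit 0x4a)) (.leaf (nat_lit 0x4b))) (.node 1 (.leaf (nat_lit 0x3e)) (.leaf (nat_lit 0x3f)))))))) (.node 32 (.node 16 (.node 8 (.node 4 (.node 2 (.node 1 (.leaf (nat_lit 0x40)) (.leaf (nat_lit 0x41))) (.node 1 (.leaf (nat_lit 0x42)) (.leaf (nat_lit 0x34)))) (.node 2 (.node 1 (.leaf (nat_lit 0x59)) (.leaf (nat_lit 0x5a))) (.node 1 (.leaf (nat_lit 0x46)) (.leaf (nat_lit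 0x39))))) (.node 4 (.node 2 (.node 1 (.leaf (nat_lit 0x3a)) (.leaf (nat_lit 0x3b))) (.node 1 (.leaf (nat_lit 0x3c)) (.leaf (nat_lit 0x3d)))) (.node 2 (.node 1 (.leaf (nat_lit 0x5e)) (.leaf (nat_lit 0x5f))) (.node 1 (.leaf (nat_lit 0x60)) (.leaf (nat_lit 0x61)))))) (.node 8 (.node 4 (.node 2 (.node 1 (.leaf (nat_lit 0x62)) (.leaf (nat_lit 0x63))) (.node 1 (.leaf (nat_lit 0x64)) (.leaf (nat_lit 0x53)))) (.node 2 (.node 1 (.leaf (nat_lit 0x54)) (.leaf (nat_lit 0x55))) (.node 1 (.leaf (nat_lit 0x56)) (.leaf (nat_lit 0x57))))) (.node 4 (.node 2 (.node 1 (.leaf (nat_lit 0x74)) (.leaf (nat_lit 0x44))) (.node 1 (.leaf (nat_lit 0x45)) (.leaf (nat_lit 0x76)))) (.node 2 (.node 1 (.leaf (nat_lit 0x77)) (.leaf (nat_lit 0x5d))) (.node 1 (.leaf (nat_lit 0x4c)) (.leaf (nat_lit 0x4d))))))) (.node 16 (.node 8 (.node 4 (.node 2 (.node 1 (.leaf (nat_lit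 0x4e)) (.leaf (nat_lit 0x4f))) (.node 1 (.leaf (nat_lit 0x50)) (.leaf (nat_lit 0x51)))) (.node 2 (.node 1 (.leaf (nat_lit 0x52)) (.leaf (nat_lit 0x7c))) (.node 1 (.leaf (nat_lit 0x7d)) (.leaf (nat_lit 0x7e))))) (.node 4 (.node 2 (.node 1 (.leaf (nat_lit 0x7f)) (.leaf (nat_lit 0x80))) (.node 1 (.leaf (nat_lit 0x81)) (.leaf (nat_lit 0x82)))) (.node 2 (.node 1 (.leaf (nat_lit 0x84)) (.leaf (nat_lit 0x85))) (.node 1 (.leaf (nat_lit 0x6e)) (.leaf (nat_lit 0x6f)))))) (.node 8 (.node 4 (.node 2 (.node 1 (.leaf (nat_lit 0x70)) (.leaf (nat_lit 0x97))) (.node 1 (.leaf (nat_lit 0x72)) (.leaf (nat_lit 0x73)))) (.node 2 (.node 1 (.leaf (nat_lit 0x58)) (.leaf (nat_lit 0x75))) (.node 1 (.leaf (nat_lit 0x5b)) (.leaf (nat_lit 0x5c))))) (.node 4 (.node 2 (.node 1 (.leaf (nat_lit 0x9b)) (.leaf (nat_lit 0x9c))) (.node 1 (.leaf (nat_lit 0x7a)) (.leaf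 (nat_lit 0x7b)))) (.node 2 (.node 1 (.leaf (nat_lit 0x65)) (.leaf (nat_lit 0x66))) (.node 1 (.leaf (nat_lit 0x67)) (.leaf (nat_lit 0x68)))))))))

noncomputable def M1g3x1 : Tree :=
  (.node 64 (.node 32 (.node 16 (.node 8 (.node 4 (.node 2 (.node 1 (.leaf (nat_lit 0x69)) (.leaf (nat_lit 0x6a))) (.node 1 (.leaf (nat_lit 0x6b)) (.leaf (nat_lit 0x83)))) (.node 2 (.node 1 (.leaf (nat_lit 0x6c)) (.leaf (nat_lit 0x6d))) (.node 1 (.leaf (nat_lit 0xa2)) (.leaf (nat_lit 0xa3))))) (.node 4 (.node 2 (.node 1 (.leaf (nat_lit 0xa4)) (.leaf (nat_lit 0xa5))) (.node 1 (.leaf (nat_lit 0xa6)) (.leaf (nat_lit 0xa7)))) (.node 2 (.node 1 (.leaf (nat_lit 0xa8)) (.leaf (nat_lit 0xba))) (.node 1 (.leaf (nat_lit 0xaa)) (.leaf (nat_lit 0xab)))))) (.node 8 (.node 4 (.node 2 (.node 1 (.leaf (nat_lit 0xad)) (.leaf (nat_lit 0xae))) (.node 1 (.leaf (nat_lit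 0x92)) (.leaf (nat_lit 0x93)))) (.node 2 (.node 1 (.leaf (nat_lit 0xc3)) (.leaf (nat_lit 0x95))) (.node 1 (.leaf (nat_lit 0x96)) (.leaf (nat_lit 0x71))))) (.node 4 (.node 2 (.node 1 (.leaf (nat_lit 0xc7)) (.leaf (nat_lit 0x99))) (.node 1 (.leaf (nat_lit 0x9a)) (.leaf (nat_lit 0x78)))) (.node 2 (.node 1 (.leaf (nat_lit 0x79)) (.leaf (nat_lit 0xcb))) (.node 1 (.leaf (nat_lit 0xcc)) (.leaf (nat_lit 0x9f))))))) (.node 16 (.node 8 (.node 4 (.node 2 (.node 1 (.leaf (nat_lit 0xa0)) (.leaf (nat_lit 0xa1))) (.node 1 (.leaf (nat_lit 0x86)) (.leaf (nat_lit 0x87)))) (.node 2 (.node 1 (.leaf (nat_lit 0x88)) (.leaf (nat_lit 0x89))) (.node 1 (.leaf (nat_lit 0x8a)) (.leaf (nat_lit 0x8b))))) (.node 4 (.node 2 (.node 1 (.leaf (nat_lit 0x8c)) (.leaf (nat_lit 0xdd))) (.node 1 (.leaf (nat_lit 0x8e)) (.leaf (nat_lit 0x8f)))) (.node 2 (.node 1 (.leaf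 (nat_lit 0xac)) (.leaf (nat_lit 0x90))) (.node 1 (.leaf (nat_lit 0x91)) (.leaf (nat_lit 0xd2)))))) (.node 8 (.node 4 (.node 2 (.node 1 (.leaf (nat_lit 0xd3)) (.leaf (nat_lit 0xd4))) (.node 1 (.leaf (nat_lit 0xd5)) (.leaf (nat_lit 0xd6)))) (.node 2 (.node 1 (.leaf (nat_lit 0xd7)) (.leaf (nat_lit 0xd8))) (.node 1 (.leaf (nat_lit 0xd9)) (.leaf (nat_lit 0xee))))) (.node 4 (.node 2 (.node 1 (.leaf (nat_lit 0xdb)) (.leaf (nat_lit 0xdc))) (.node 1 (.leaf (nat_lit 0x8d)) (.leaf (nat_lit 0xf2)))) (.node 2 (.node 1 (.leaf (nat_lit 0xdf)) (.leaf (nat_lit 0xe0))) (.node 1 (.leaf (nat_lit 0xe3)) (.leaf (nat_lit 0xe4)))))))) (.node 32 (.node 16 (.node 8 (.node 4 (.node 2 (.node 1 (.leaf (nat_lit 0xf7)) (.leaf (nat_lit 0xc1))) (.node 1 (.leaf (nat_lit 0xc2)) (.leaf (nat_lit 0x94)))) (.node 2 (.node 1 (.leaf (nat_lit 0xfb)) (.leaf (nat_lit 0xc5)))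 (.node 1 (.leaf (nat_lit 0xc6)) (.leaf (nat_lit 0x98))))) (.node 4 (.node 2 (.node 1 (.leaf (nat_lit 0xff)) (.leaf (nat_lit 0xc9))) (.node 1 (.leaf (nat_lit 0xca)) (.leaf (nat_lit 0x9d)))) (.node 2 (.node 1 (.leaf (nat_lit 0x9e)) (.leaf (nat_lit 0xcd))) (.node 1 (.leaf (nat_lit 0xce)) (.leaf (nat_lit 0xcf)))))) (.node 8 (.node 4 (.node 2 (.node 1 (.leaf (nat_lit 0xd0)) (.leaf (nat_lit 0xd1))) (.node 1 (.leaf (nat_lit 0xaf)) (.leaf (nat_lit 0xb0)))) (.node 2 (.node 1 (.leaf (nat_lit 0xb1)) (.leaf (nat_lit 0xb2))) (.node 1 (.leaf (nat_lit 0xb3)) (.leaf (nat_lit 0xb4))))) (.node 4 (.node 2 (.node 1 (.leaf (nat_lit 0xb5)) (.leaf (nat_lit 0xb6))) (.node 1 (.leaf (nat_lit 0x114)) (.leaf (nat_lit 0xb8)))) (.node 2 (.node 1 (.leaf (nat_lit 0xb9)) (.leaf (nat_lit 0xa9))) (.node 1 (.leaf (nat_lit 0x118)) (.leaf (nat_lit 0xbc))))))) (.node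 16 (.node 8 (.node 4 (.node 2 (.node 1 (.leaf (nat_lit 0xbd)) (.leaf (nat_lit 0xe1))) (.node 1 (.leaf (nat_lit 0xe2)) (.leaf (nat_lit 0xbe)))) (.node 2 (.node 1 (.leaf (nat_lit 0xbf)) (.leaf (nat_lit 0x10b))) (.node 1 (.leaf (nat_lit 0x10c)) (.leaf (nat_lit 0x10d))))) (.node 4 (.node 2 (.node 1 (.leaf (nat_lit 0x123)) (.leaf (nat_lit 0x10f))) (.node 1 (.leaf (nat_lit 0x110)) (.leaf (nat_lit 0x127)))) (.node 2 (.node 1 (.leaf (nat_lit 0x112)) (.leaf (nat_lit 0x113))) (.node 1 (.leaf (nat_lit 0xb7)) (.leaf (nat_lit 0x12b)))))) (.node 8 (.node 4 (.node 2 (.node 1 (.leaf (nat_lit 0x116)) (.leaf (nat_lit 0x117))) (.node 1 (.leaf (nat_lit 0xbb)) (.leaf (nat_lit 0x130)))) (.node 2 (.node 1 (.leaf (nat_lit 0x131)) (.leaf (nat_lit 0x11b))) (.node 1 (.leaf (nat_lit 0x11c)) (.leaf (nat_lit 0xc0))))) (.node 4 (.node 2 (.node 1 (.leaf (nat_lit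 0x134)) (.leaf (nat_lit 0xf9))) (.node 1 (.leaf (nat_lit 0xfa)) (.leaf (nat_lit 0xc4)))) (.node 2 (.node 1 (.leaf (nat_lit 0x139)) (.leaf (nat_lit 0x13a))) (.node 1 (.leaf (nat_lit 0xfe)) (.leaf (nat_lit 0xc8)))))))))

noncomputable def M1g3x2 : Tree :=
  (.node 64 (.node 32 (.node 16 (.node 8 (.node 4 (.node 2 (.node 1 (.leaf (nat_lit 0x100)) (.leaf (nat_lit 0x101))) (.node 1 (.leaf (nat_lit 0x102)) (.leaf (nat_lit 0x103)))) (.node 2 (.node 1 (.leaf (nat_lit 0x104)) (.leaf (nat_lit 0x105))) (.node 1 (.leaf (nat_lit 0x106)) (.leaf (nat_lit 0x107))))) (.node 4 (.node 2 (.node 1 (.leaf (nat_lit 0x108)) (.leaf (nat_lit 0x109))) (.node 1 (.leaf (nat_lit 0x10a)) (.leaf (nat_lit 0xe5)))) (.node 2 (.node 1 (.leaf (nat_lit 0xe6)) (.leaf (nat_lit 0xe7))) (.node 1 (.leaf (nat_lit 0x14d)) (.leaf (nat_lit 0xe9)))))) (.node 8 (.node 4 (.node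 2 (.node 1 (.leaf (nat_lit 0xea)) (.leaf (nat_lit 0x151))) (.node 1 (.leaf (nat_lit 0xec)) (.leaf (nat_lit 0xed)))) (.node 2 (.node 1 (.leaf (nat_lit 0xda)) (.leaf (nat_lit 0x155))) (.node 1 (.leaf (nat_lit 0xf0)) (.leaf (nat_lit 0xf1))))) (.node 4 (.node 2 (.node 1 (.leaf (nat_lit 0xde)) (.leaf (nat_lit 0x15a))) (.node 1 (.leaf (nat_lit 0x15b)) (.leaf (nat_lit 0xf5)))) (.node 2 (.node 1 (.leaf (nat_lit 0xf6)) (.leaf (nat_lit 0x11d))) (.node 1 (.leaf (nat_lit 0x11e)) (.leaf (nat_lit 0x11f))))))) (.node 16 (.node 8 (.node 4 (.node 2 (.node 1 (.leaf (nat_lit 0x14a)) (.leaf (nat_lit 0x162))) (.node 1 (.leaf (nat_lit 0x14c)) (.leaf (nat_lit 0xe8)))) (.node 2 (.node 1 (.leaf (nat_lit 0x165)) (.leaf (nat_lit 0x14f))) (.node 1 (.leaf (nat_lit 0x150)) (.leaf (nat_lit 0xeb))))) (.node 4 (.node 2 (.node 1 (.leaf (nat_lit 0x16a)) (.leaf (nat_lit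 0x153))) (.node 1 (.leaf (nat_lit 0x154)) (.leaf (nat_lit 0xef)))) (.node 2 (.node 1 (.leaf (nat_lit 0x16f)) (.leaf (nat_lit 0x170))) (.node 1 (.leaf (nat_lit 0x158)) (.leaf (nat_lit 0x159)))))) (.node 8 (.node 4 (.node 2 (.node 1 (.leaf (nat_lit 0xf3)) (.leaf (nat_lit 0xf4))) (.node 1 (.leaf (nat_lit 0x174)) (.leaf (nat_lit 0x175)))) (.node 2 (.node 1 (.leaf (nat_lit 0xf8)) (.leaf (nat_lit 0x176))) (.node 1 (.leaf (nat_lit 0x177)) (.leaf (nat_lit 0x137))))) (.node 4 (.node 2 (.node 1 (.leaf (nat_lit 0x138)) (.leaf (nat_lit 0xfc))) (.node 1 (.leaf (nat_lit 0xfd)) (.leaf (nat_lit 0x17d)))) (.node 2 (.node 1 (.leaf (nat_lit 0x17e)) (.leaf (nat_lit 0x13d))) (.node 1 (.leaf (nat_lit 0x13e)) (.leaf (nat_lit 0x13f)))))))) (.node 32 (.node 16 (.node 8 (.node 4 (.node 2 (.node 1 (.leaf (nat_lit 0x140)) (.leaf (nat_lit 0x141))) (.node 1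 (.leaf (nat_lit 0x142)) (.leaf (nat_lit 0x143)))) (.node 2 (.node 1 (.leaf (nat_lit 0x144)) (.leaf (nat_lit 0x145))) (.node 1 (.leaf (nat_lit 0x146)) (.leaf (nat_lit 0x189))))) (.node 4 (.node 2 (.node 1 (.leaf (nat_lit 0x148)) (.leaf (nat_lit 0x149))) (.node 1 (.leaf (nat_lit 0x120)) (.leaf (nat_lit 0x18e)))) (.node 2 (.node 1 (.leaf (nat_lit 0x122)) (.leaf (nat_lit 0x10e))) (.node 1 (.leaf (nat_lit 0x191)) (.leaf (nat_lit 0x125)))))) (.node 8 (.node 4 (.node 2 (.node 1 (.leaf (nat_lit 0x126)) (.leaf (nat_lit 0x111))) (.node 1 (.leaf (nat_lit 0x196)) (.leaf (nat_lit 0x129)))) (.node 2 (.node 1 (.leaf (nat_lit 0x12a)) (.leaf (nat_lit 0x115))) (.node 1 (.leaf (nat_lit 0x19b)) (.leaf (nat_lit 0x19c))))) (.node 4 (.node 2 (.node 1 (.leaf (nat_lit 0x12e)) (.leaf (nat_lit 0x12f))) (.node 1 (.leaf (nat_lit 0x119)) (.leaf (nat_lit 0x11a))))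 (.node 2 (.node 1 (.leaf (nat_lit 0x1a0)) (.leaf (nat_lit 0x1a1))) (.node 1 (.leaf (nat_lit 0x1a2)) (.leaf (nat_lit 0x15f))))))) (.node 16 (.node 8 (.node 4 (.node 2 (.node 1 (.leaf (nat_lit 0x160)) (.leaf (nat_lit 0x1a6))) (.node 1 (.leaf (nat_lit 0x121)) (.leaf (nat_lit 0x1a7)))) (.node 2 (.node 1 (.leaf (nat_lit 0x190)) (.leaf (nat_lit 0x124))) (.node 1 (.leaf (nat_lit 0x1a9)) (.leaf (nat_lit 0x1aa))))) (.node 4 (.node 2 (.node 1 (.leaf (nat_lit 0x194)) (.leaf (nat_lit 0x195))) (.node 1 (.leaf (nat_lit 0x128)) (.leaf (nat_lit 0x1b0)))) (.node 2 (.node 1 (.leaf (nat_lit 0x1b1)) (.leaf (nat_lit 0x199))) (.node 1 (.leaf (nat_lit 0x19a)) (.leaf (nat_lit 0x12c)))))) (.node 8 (.node 4 (.node 2 (.node 1 (.leaf (nat_lit 0x12d)) (.leaf (nat_lit 0x1b5))) (.node 1 (.leaf (nat_lit 0x1b6)) (.leaf (nat_lit 0x1b7)))) (.node 2 (.node 1 (.leaf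 (nat_lit 0x132)) (.leaf (nat_lit 0x133))) (.node 1 (.leaf (nat_lit 0x135)) (.leaf (nat_lit 0x136))))) (.node 4 (.node 2 (.node 1 (.leaf (nat_lit 0x1ba)) (.leaf (nat_lit 0x1bb))) (.node 1 (.leaf (nat_lit 0x1bc)) (.leaf (nat_lit 0x17b)))) (.node 2 (.node 1 (.leaf (nat_lit 0x17c)) (.leaf (nat_lit 0x13b))) (.node 1 (.leaf (nat_lit 0x13c)) (.leaf (nat_lit 0x1c3)))))))))

noncomputable def M1g3x3 : Tree :=
  (.node 64 (.node 32 (.node 16 (.node 8 (.node 4 (.node 2 (.node 1 (.leaf (nat_lit 0x1c4)) (.leaf (nat_lit 0x181))) (.node 1 (.leaf (nat_lit 0x182)) (.leaf (nat_lit 0x183)))) (.node 2 (.node 1 (.leaf (nat_lit 0x184)) (.leaf (nat_lit 0x185))) (.node 1 (.leaf (nat_lit 0x186)) (.leaf (nat_lit 0x1cb))))) (.node 4 (.node 2 (.node 1 (.leaf (nat_lit 0x188)) (.leaf (nat_lit 0x147))) (.node 1 (.leaf (nat_lit 0x1ce)) (.leaf (nat_lit 0x18b))))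 (.node 2 (.node 1 (.leaf (nat_lit 0x18c)) (.leaf (nat_lit 0x1d3))) (.node 1 (.leaf (nat_lit 0x14b)) (.leaf (nat_lit 0x1d4)))))) (.node 8 (.node 4 (.node 2 (.node 1 (.leaf (nat_lit 0x164)) (.leaf (nat_lit 0x14e))) (.node 1 (.leaf (nat_lit 0x1d6)) (.leaf (nat_lit 0x1d7)))) (.node 2 (.node 1 (.leaf (nat_lit 0x168)) (.leaf (nat_lit 0x169))) (.node 1 (.leaf (nat_lit 0x152)) (.leaf (nat_lit 0x1dd))))) (.node 4 (.node 2 (.node 1 (.leaf (nat_lit 0x1de)) (.leaf (nat_lit 0x16d))) (.node 1 (.leaf (nat_lit 0x16e)) (.leaf (nat_lit 0x156)))) (.node 2 (.node 1 (.leaf (nat_lit 0x157)) (.leaf (nat_lit 0x1e2))) (.node 1 (.leaf (nat_lit 0x1e3)) (.leaf (nat_lit 0x1e4))))))) (.node 16 (.node 8 (.node 4 (.node 2 (.node 1 (.leaf (nat_lit 0x15c)) (.leaf (nat_lit 0x15d))) (.node 1 (.leaf (nat_lit 0x15e)) (.leaf (nat_lit 0x1e7)))) (.node 2 (.node 1 (.leaf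 (nat_lit 0x1e8)) (.leaf (nat_lit 0x1a5))) (.node 1 (.leaf (nat_lit 0x161)) (.leaf (nat_lit 0x163))))) (.node 4 (.node 2 (.node 1 (.leaf (nat_lit 0x1eb)) (.leaf (nat_lit 0x166))) (.node 1 (.leaf (nat_lit 0x167)) (.leaf (nat_lit 0x1ed)))) (.node 2 (.node 1 (.leaf (nat_lit 0x1ee)) (.leaf (nat_lit 0x1ef))) (.node 1 (.leaf (nat_lit 0x1db)) (.leaf (nat_lit 0x1dc)))))) (.node 8 (.node 4 (.node 2 (.node 1 (.leaf (nat_lit 0x16b)) (.leaf (nat_lit 0x16c))) (.node 1 (.leaf (nat_lit 0x1f4)) (.leaf (nat_lit 0x1f5)))) (.node 2 (.node 1 (.leaf (nat_lit 0x1f6)) (.leaf (nat_lit 0x171))) (.node 1 (.leaf (nat_lit 0x172)) (.leaf (nat_lit 0x173))))) (.node 4 (.node 2 (.node 1 (.leaf (nat_lit 0x1fa)) (.leaf (nat_lit 0x1fb))) (.node 1 (.leaf (nat_lit 0x178)) (.leaf (nat_lit 0x179)))) (.node 2 (.node 1 (.leaf (nat_lit 0x17a)) (.leaf (nat_lit 0x1fd))) (.node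 1 (.leaf (nat_lit 0x1fe)) (.leaf (nat_lit 0x1ff)))))))) (.node 32 (.node 16 (.node 8 (.node 4 (.node 2 (.node 1 (.leaf (nat_lit 0x200)) (.leaf (nat_lit 0x1c1))) (.node 1 (.leaf (nat_lit 0x1c2)) (.leaf (nat_lit 0x17f)))) (.node 2 (.node 1 (.leaf (nat_lit 0x180)) (.leaf (nat_lit 0x207))) (.node 1 (.leaf (nat_lit 0x1c6)) (.leaf (nat_lit 0x1c7))))) (.node 4 (.node 2 (.node 1 (.leaf (nat_lit 0x1c8)) (.leaf (nat_lit 0x1c9))) (.node 1 (.leaf (nat_lit 0x20b)) (.leaf (nat_lit 0x187)))) (.node 2 (.node 1 (.leaf (nat_lit 0x20c)) (.leaf (nat_lit 0x1cd))) (.node 1 (.leaf (nat_lit 0x18a)) (.leaf (nat_lit 0x20e)))))) (.node 8 (.node 4 (.node 2 (.node 1 (.leaf (nat_lit 0x20f)) (.leaf (nat_lit 0x1d1))) (.node 1 (.leaf (nat_lit 0x1d2)) (.leaf (nat_lit 0x18d)))) (.node 2 (.node 1 (.leaf (nat_lit 0x18f)) (.leaf (nat_lit 0x215))) (.node 1 (.leaf (nat_lit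 0x192)) (.leaf (nat_lit 0x193))))) (.node 4 (.node 2 (.node 1 (.leaf (nat_lit 0x217)) (.leaf (nat_lit 0x218))) (.node 1 (.leaf (nat_lit 0x219)) (.leaf (nat_lit 0x1ae)))) (.node 2 (.node 1 (.leaf (nat_lit 0x1af)) (.leaf (nat_lit 0x197))) (.node 1 (.leaf (nat_lit 0x198)) (.leaf (nat_lit 0x21e))))))) (.node 16 (.node 8 (.node 4 (.node 2 (.node 1 (.leaf (nat_lit 0x21f)) (.leaf (nat_lit 0x220))) (.node 1 (.leaf (nat_lit 0x19d)) (.leaf (nat_lit 0x19e)))) (.node 2 (.node 1 (.leaf (nat_lit 0x19f)) (.leaf (nat_lit 0x224))) (.node 1 (.leaf (nat_lit 0x225)) (.leaf (nat_lit 0x1a3))))) (.node 4 (.node 2 (.node 1 (.leaf (nat_lit 0x1a4)) (.leaf (nat_lit 0x227))) (.node 1 (.leaf (nat_lit 0x1ea)) (.leaf (nat_lit 0x1a8)))) (.node 2 (.node 1 (.leaf (nat_lit 0x229)) (.leaf (nat_lit 0x1ab))) (.node 1 (.leaf (nat_lit 0x1ac)) (.leaf (nat_lit 0x1ad))))))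 (.node 8 (.node 4 (.node 2 (.node 1 (.leaf (nat_lit 0x22b)) (.leaf (nat_lit 0x22c))) (.node 1 (.leaf (nat_lit 0x22d)) (.leaf (nat_lit 0x22e)))) (.node 2 (.node 1 (.leaf (nat_lit 0x1b2)) (.leaf (nat_lit 0x1b3))) (.node 1 (.leaf (nat_lit 0x1b4)) (.leaf (nat_lit 0x233))))) (.node 4 (.node 2 (.node 1 (.leaf (nat_lit 0x234)) (.leaf (nat_lit 0x1f9))) (.node 1 (.leaf (nat_lit 0x1b8)) (.leaf (nat_lit 0x1b9)))) (.node 2 (.node 1 (.leaf (nat_lit 0x1fc)) (.leaf (nat_lit 0x1bd))) (.node 1 (.leaf (nat_lit 0x1be)) (.leaf (nat_lit 0x1bf)))))))))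

noncomputable def M1g3x4 : Tree :=
  (.node 64 (.node 32 (.node 16 (.node 8 (.node 4 (.node 2 (.node 1 (.leaf (nat_lit 0x1c0)) (.leaf (nat_lit 0x23a))) (.node 1 (.leaf (nat_lit 0x23b)) (.leaf (nat_lit 0x23c)))) (.node 2 (.node 1 (.leaf (nat_lit 0x23d)) (.leaf (nat_lit 0x205))) (.node 1 (.leaf (nat_lit 0x206)) (.leaf (nat_lit 0x1c5))))) (.node 4 (.node 2 (.node 1 (.leaf (nat_lit 0x245)) (.leaf (nat_lit 0x209))) (.node 1 (.leaf (nat_lit 0x247)) (.leaf (nat_lit 0x1ca)))) (.node 2 (.node 1 (.leaf (nat_lit 0x1cc)) (.leaf (nat_lit 0x248))) (.node 1 (.leaf (nat_lit 0x1cf)) (.leaf (nat_lit 0x1d0)))))) (.node 8 (.node 4 (.node 2 (.node 1 (.leaf (nat_lit 0x24a)) (.leaf (nat_lit 0x24b))) (.node 1 (.leaf (nat_lit 0x24c)) (.leaf (nat_lit 0x213)))) (.node 2 (.node 1 (.leaf (nat_lit 0x214)) (.leaf (nat_lit 0x1d5))) (.node 1 (.leaf (nat_lit 0x252))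 (.leaf (nat_lit 0x1d8))))) (.node 4 (.node 2 (.node 1 (.leaf (nat_lit 0x1d9)) (.leaf (nat_lit 0x1da))) (.node 1 (.leaf (nat_lit 0x254)) (.leaf (nat_lit 0x255)))) (.node 2 (.node 1 (.leaf (nat_lit 0x256)) (.leaf (nat_lit 0x257))) (.node 1 (.leaf (nat_lit 0x1df)) (.leaf (nat_lit 0x1e0))))))) (.node 16 (.node 8 (.node 4 (.node 2 (.node 1 (.leaf (nat_lit 0x1e1)) (.leaf (nat_lit 0x25c))) (.node 1 (.leaf (nat_lit 0x25d)) (.leaf (nat_lit 0x223)))) (.node 2 (.node 1 (.leaf (nat_lit 0x1e5)) (.leaf (nat_lit 0x1e6))) (.node 1 (.leaf (nat_lit 0x261)) (.leaf (nat_lit 0x1e9))))) (.node 4 (.node 2 (.node 1 (.leaf (nat_lit 0x263)) (.leaf (nat_lit 0x1ec))) (.node 1 (.leaf (nat_lit 0x22a)) (.leaf (nat_lit 0x1f0)))) (.node 2 (.node 1 (.leaf (nat_lit 0x1f1)) (.leaf (nat_lit 0x1f2))) (.node 1 (.leaf (nat_lit 0x1f3)) (.leaf (nat_lit 0x267)))))) (.node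 8 (.node 4 (.node 2 (.node 1 (.leaf (nat_lit 0x268)) (.leaf (nat_lit 0x269))) (.node 1 (.leaf (nat_lit 0x232)) (.leaf (nat_lit 0x1f7)))) (.node 2 (.node 1 (.leaf (nat_lit 0x1f8)) (.leaf (nat_lit 0x26e))) (.node 1 (.leaf (nat_lit 0x236)) (.leaf (nat_lit 0x237))))) (.node 4 (.node 2 (.node 1 (.leaf (nat_lit 0x238)) (.leaf (nat_lit 0x239))) (.node 1 (.leaf (nat_lit 0x201)) (.leaf (nat_lit 0x202)))) (.node 2 (.node 1 (.leaf (nat_lit 0x203)) (.leaf (nat_lit 0x204))) (.node 1 (.leaf (nat_lit 0x272)) (.leaf (nat_lit 0x273)))))))) (.node 32 (.node 16 (.node 8 (.node 4 (.node 2 (.node 1 (.leaf (nat_lit 0x274)) (.leaf (nat_lit 0x275))) (.node 1 (.leaf (nat_lit 0x276)) (.leaf (nat_lit 0x243)))) (.node 2 (.node 1 (.leaf (nat_lit 0x244)) (.leaf (nat_lit 0x208))) (.node 1 (.leaf (nat_lit 0x246)) (.leaf (nat_lit 0x20a))))) (.node 4 (.node 2 (.node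 1 (.leaf (nat_lit 0x20d)) (.leaf (nat_lit 0x279))) (.node 1 (.leaf (nat_lit 0x210)) (.leaf (nat_lit 0x211)))) (.node 2 (.node 1 (.leaf (nat_lit 0x212)) (.leaf (nat_lit 0x27b))) (.node 1 (.leaf (nat_lit 0x27c)) (.leaf (nat_lit 0x27d)))))) (.node 8 (.node 4 (.node 2 (.node 1 (.leaf (nat_lit 0x27e)) (.leaf (nat_lit 0x251))) (.node 1 (.leaf (nat_lit 0x216)) (.leaf (nat_lit 0x253)))) (.node 2 (.node 1 (.leaf (nat_lit 0x21a)) (.leaf (nat_lit 0x21b))) (.node 1 (.leaf (nat_lit 0x21c)) (.leaf (nat_lit 0x21d))))) (.node 4 (.node 2 (.node 1 (.leaf (nat_lit 0x287)) (.leaf (nat_lit 0x288))) (.node 1 (.leaf (nat_lit 0x289)) (.leaf (nat_lit 0x25b)))) (.node 2 (.node 1 (.leaf (nat_lit 0x221)) (.leaf (nat_lit 0x222))) (.node 1 (.leaf (nat_lit 0x28f)) (.leaf (nat_lit 0x25f))))))) (.node 16 (.node 8 (.node 4 (.node 2 (.node 1 (.leaf (nat_lit 0x260))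 (.leaf (nat_lit 0x226))) (.node 1 (.leaf (nat_lit 0x291)) (.leaf (nat_lit 0x228)))) (.node 2 (.node 1 (.leaf (nat_lit 0x264)) (.leaf (nat_lit 0x265))) (.node 1 (.leaf (nat_lit 0x266)) (.leaf (nat_lit 0x22f))))) (.node 4 (.node 2 (.node 1 (.leaf (nat_lit 0x230)) (.leaf (nat_lit 0x231))) (.node 1 (.leaf (nat_lit 0x295)) (.leaf (nat_lit 0x296)))) (.node 2 (.node 1 (.leaf (nat_lit 0x26c)) (.leaf (nat_lit 0x26d))) (.node 1 (.leaf (nat_lit 0x235)) (.leaf (nat_lit 0x26f)))))) (.node 8 (.node 4 (.node 2 (.node 1 (.leaf (nat_lit 0x270)) (.leaf (nat_lit 0x271))) (.node 1 (.leaf (nat_lit 0x23e)) (.leaf (nat_lit 0x23f)))) (.node 2 (.node 1 (.leaf (nat_lit 0x240)) (.leaf (nat_lit 0x241))) (.node 1 (.leaf (nat_lit 0x242)) (.leaf (nat_lit 0x277))))) (.node 4 (.node 2 (.node 1 (.leaf (nat_lit 0x278)) (.leaf (nat_lit 0x249))) (.node 1 (.leaf (nat_lit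 0x27a)) (.leaf (nat_lit 0x24d)))) (.node 2 (.node 1 (.leaf (nat_lit 0x24e)) (.leaf (nat_lit 0x24f))) (.node 1 (.leaf (nat_lit 0x250)) (.leaf (nat_lit 0x2a2)))))))))

noncomputable def M1g3x5 : Tree :=
  (.node 44 (.node 22 (.node 11 (.node 5 (.node 2 (.node 1 (.leaf (nat_lit 0x2a3)) (.leaf (nat_lit 0x2a4))) (.node 1 (.leaf (nat_lit 0x2a5)) (.node 1 (.leaf (nat_lit 0x283)) (.leaf (nat_lit 0x284))))) (.node 3 (.node 1 (.leaf (nat_lit 0x285)) (.node 1 (.leaf (nat_lit 0x286)) (.leaf (nat_lit 0x258)))) (.node 1 (.leaf (nat_lit 0x259)) (.node 1 (.leaf (nat_lit 0x25a)) (.leaf (nat_lit 0x2af)))))) (.node 5 (.node 2 (.node 1 (.leaf (nat_lit 0x2b0)) (.leaf (nat_lit 0x2b1))) (.node 1 (.leaf (nat_lit 0x28d)) (.node 1 (.leaf (nat_lit 0x28e)) (.leaf (nat_lit 0x25e))))) (.node 3 (.node 1 (.leaf (nat_lit 0x290)) (.node 1 (.leaf (nat_lit 0x262))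 (.leaf (nat_lit 0x292)))) (.node 1 (.leaf (nat_lit 0x293)) (.node 1 (.leaf (nat_lit 0x294)) (.leaf (nat_lit 0x26a))))))) (.node 11 (.node 5 (.node 2 (.node 1 (.leaf (nat_lit 0x26b)) (.leaf (nat_lit 0x297))) (.node 1 (.leaf (nat_lit 0x298)) (.node 1 (.leaf (nat_lit 0x299)) (.leaf (nat_lit 0x29a))))) (.node 3 (.node 1 (.leaf (nat_lit 0x29b)) (.node 1 (.leaf (nat_lit 0x29c)) (.leaf (nat_lit 0x29d)))) (.node 1 (.leaf (nat_lit 0x2bb)) (.node 1 (.leaf (nat_lit 0x29f)) (.leaf (nat_lit 0x2a0)))))) (.node 5 (.node 2 (.node 1 (.leaf (nat_lit 0x2a1)) (.leaf (nat_lit 0x27f))) (.node 1 (.leaf (nat_lit 0x280)) (.node 1 (.leaf (nat_lit 0x281)) (.leaf (nat_lit 0x282))))) (.node 3 (.node 1 (.leaf (nat_lit 0x2bf)) (.node 1 (.leaf (nat_lit 0x2c0)) (.leaf (nat_lit 0x2c1)))) (.node 1 (.leaf (nat_lit 0x2c2)) (.node 1 (.leaf (nat_lit 0x2c3)) (.leaf (nat_lit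 0x2ab)))))))) (.node 22 (.node 11 (.node 5 (.node 2 (.node 1 (.leaf (nat_lit 0x2ac)) (.leaf (nat_lit 0x2ad))) (.node 1 (.leaf (nat_lit 0x2ae)) (.node 1 (.leaf (nat_lit 0x28a)) (.leaf (nat_lit 0x28b))))) (.node 3 (.node 1 (.leaf (nat_lit 0x28c)) (.node 1 (.leaf (nat_lit 0x2b2)) (.leaf (nat_lit 0x2b3)))) (.node 1 (.leaf (nat_lit 0x2b4)) (.node 1 (.leaf (nat_lit 0x2b5)) (.leaf (nat_lit 0x2b6)))))) (.node 5 (.node 2 (.node 1 (.leaf (nat_lit 0x2b7)) (.leaf (nat_lit 0x2b8))) (.node 1 (.leaf (nat_lit 0x2b9)) (.node 1 (.leaf (nat_lit 0x2ba)) (.leaf (nat_lit 0x29e))))) (.node 3 (.node 1 (.leaf (nat_lit 0x2bc)) (.node 1 (.leaf (nat_lit 0x2bd)) (.leaf (nat_lit 0x2be)))) (.node 1 (.leaf (nat_lit 0x2a6)) (.node 1 (.leaf (nat_lit 0x2a7)) (.leaf (nat_lit 0x2a8))))))) (.node 11 (.node 5 (.node 2 (.node 1 (.leaf (nat_lit 0x2a9)) (.leaf (nat_lit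 0x2aa))) (.node 1 (.leaf (nat_lit 0x2c4)) (.node 1 (.leaf (nat_lit 0x2c5)) (.leaf (nat_lit 0x2c6))))) (.node 3 (.node 1 (.leaf (nat_lit 0x2c7)) (.node 1 (.leaf (nat_lit 0x2c8)) (.leaf (nat_lit 0x2c9)))) (.node 1 (.leaf (nat_lit 0x2ca)) (.node 1 (.leaf (nat_lit 0x2cb)) (.leaf (nat_lit 0x2cc)))))) (.node 5 (.node 2 (.node 1 (.leaf (nat_lit 0x2cd)) (.leaf (nat_lit 0x2ce))) (.node 1 (.leaf (nat_lit 0x2cf)) (.node 1 (.leaf (nat_lit 0x2d0)) (.leaf (nat_lit 0x2d1))))) (.node 3 (.node 1 (.leaf (nat_lit 0x2d2)) (.node 1 (.leaf (nat_lit 0x2d3)) (.leaf (nat_lit 0x2d4)))) (.node 1 (.leaf (nat_lit 0x2d5)) (.node 1 (.leaf (nat_lit 0x2d6)) (.leaf (nat_lit 0x2d7)))))))))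

noncomputable def M1g3x : Tree :=
  (.node 384 (.node 128 M1g3x0 (.node 128 M1g3x1 M1g3x2)) (.node 128 M1g3x3 (.node 128 M1g3x4 M1g3x5)))

noncomputable def M1g6x0 : Tree :=
  (.node 64 (.node 32 (.node 16 (.node 8 (.node 4 (.node 2 (.node 1 (.leaf (nat_lit 0)) (.leaf (nat_lit 1))) (.node 1 (.leaf (nat_lit 2)) (.leaf (nat_lit 3)))) (.node 2 (.node 1 (.leaf (nat_lit 5)) (.leaf (nat_lit 4))) (.node 1 (.leaf (nat_lit 8)) (.leaf (nat_lit 7))))) (.node 4 (.node 2 (.node 1 (.leaf (nat_lit 6)) (.leaf (nat_lit 0xc))) (.node 1 (.leaf (nat_lit 0xa)) (.leaf (nat_lit 0xb)))) (.node 2 (.node 1 (.leaf (nat_lit 9)) (.leaf (nat_lit 0x12))) (.node 1 (.leaf (nat_lit 0xe)) (.leaf (nat_lit 0xf)))))) (.node 8 (.node 4 (.node 2 (.node 1 (.leaf (nat_lit 0x10)) (.leaf (nat_lit 0x18))) (.node 1 (.leaf (nat_lit 0xd)) (.leaf (nat_lit 0x1a)))) (.node 2 (.node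 1 (.leaf (nat_lit 0x14)) (.leaf (nat_lit 0x15))) (.node 1 (.leaf (nat_lit 0x16)) (.leaf (nat_lit 0x20))))) (.node 4 (.node 2 (.node 1 (.leaf (nat_lit 0x11)) (.leaf (nat_lit 0x23))) (.node 1 (.leaf (nat_lit 0x13)) (.leaf (nat_lit 0x25)))) (.node 2 (.node 1 (.leaf (nat_lit 0x1c)) (.leaf (nat_lit 0x1d))) (.node 1 (.leaf (nat_lit 0x1e)) (.leaf (nat_lit 0x29))))))) (.node 16 (.node 8 (.node 4 (.node 2 (.node 1 (.leaf (nat_lit 0x17)) (.leaf (nat_lit 0x2c))) (.node 1 (.leaf (nat_lit 0x22)) (.leaf (nat_lit 0x19)))) (.node 2 (.node 1 (.leaf (nat_lit 0x30)) (.leaf (nat_lit 0x1b))) (.node 1 (.leaf (nat_lit 0x26)) (.leaf (nat_lit 0x27))))) (.node 4 (.node 2 (.node 1 (.leaf (nat_lit 0x35)) (.leaf (nat_lit 0x1f))) (.node 1 (.leaf (nat_lit 0x37)) (.leaf (nat_lit 0x2b)))) (.node 2 (.node 1 (.leaf (nat_lit 0x21)) (.leaf (nat_lit 0x3c))) (.node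 1 (.leaf (nat_lit 0x2e)) (.leaf (nat_lit 0x2f)))))) (.node 8 (.node 4 (.node 2 (.node 1 (.leaf (nat_lit 0x24)) (.leaf (nat_lit 0x41))) (.node 1 (.leaf (nat_lit 0x32)) (.leaf (nat_lit 0x33)))) (.node 2 (.node 1 (.leaf (nat_lit 0x45)) (.leaf (nat_lit 0x28))) (.node 1 (.leaf (nat_lit 0x36)) (.leaf (nat_lit 0x2a))))) (.node 4 (.node 2 (.node 1 (.leaf (nat_lit 0x4a)) (.leaf (nat_lit 0x39))) (.node 1 (.leaf (nat_lit 0x3a)) (.leaf (nat_lit 0x3b)))) (.node 2 (.node 1 (.leaf (nat_lit 0x2d)) (.leaf (nat_lit 0x52))) (.node 1 (.leaf (nat_lit 0x3e)) (.leaf (nat_lit 0x3f)))))))) (.node 32 (.node 16 (.node 8 (.node 4 (.node 2 (.node 1 (.leaf (nat_lit 0x56)) (.leaf (nat_lit 0x31))) (.node 1 (.leaf (nat_lit 0x42)) (.leaf (nat_lit 0x5a)))) (.node 2 (.node 1 (.leaf (nat_lit 0x5b)) (.leaf (nat_lit 0x34))) (.node 1 (.leaf (nat_lit 0x57)) (.leaf (nat_lit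 0x47))))) (.node 4 (.node 2 (.node 1 (.leaf (nat_lit 0x48)) (.leaf (nat_lit 0x49))) (.node 1 (.leaf (nat_lit 0x38)) (.leaf (nat_lit 0x64)))) (.node 2 (.node 1 (.leaf (nat_lit 0x4c)) (.leaf (nat_lit 0x4d))) (.node 1 (.leaf (nat_lit 0x4e)) (.leaf (nat_lit 0x4f)))))) (.node 8 (.node 4 (.node 2 (.node 1 (.leaf (nat_lit 0x6b)) (.leaf (nat_lit 0x6c))) (.node 1 (.leaf (nat_lit 0x3d)) (.leaf (nat_lit 0x53)))) (.node 2 (.node 1 (.leaf (nat_lit 0x70)) (.leaf (nat_lit 0x72))) (.node 1 (.leaf (nat_lit 0x40)) (.leaf (nat_lit 0x46))))) (.node 4 (.node 2 (.node 1 (.leaf (nat_lit 0x58)) (.leaf (nat_lit 0x76))) (.node 1 (.leaf (nat_lit 0x43)) (.leaf (nat_lit 0x44)))) (.node 2 (.node 1 (.leaf (nat_lit 0x6d)) (.leaf (nat_lit 0x5d))) (.node 1 (.leaf (nat_lit 0x5e)) (.leaf (nat_lit 0x5f))))))) (.node 16 (.node 8 (.node 4 (.node 2 (.node 1 (.leaf (nat_lit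 0x60)) (.leaf (nat_lit 0x61))) (.node 1 (.leaf (nat_lit 0x82)) (.leaf (nat_lit 0x84)))) (.node 2 (.node 1 (.leaf (nat_lit 0x4b)) (.leaf (nat_lit 0x86))) (.node 1 (.leaf (nat_lit 0x66)) (.leaf (nat_lit 0x67))))) (.node 4 (.node 2 (.node 1 (.leaf (nat_lit 0x68)) (.leaf (nat_lit 0x8c))) (.node 1 (.leaf (nat_lit 0x8e)) (.leaf (nat_lit 0x50)))) (.node 2 (.node 1 (.leaf (nat_lit 0x51)) (.leaf (nat_lit 0x5c))) (.node 1 (.leaf (nat_lit 0x93)) (.leaf (nat_lit 0x95)))))) (.node 8 (.node 4 (.node 2 (.node 1 (.leaf (nat_lit 0x54)) (.leaf (nat_lit 0x98))) (.node 1 (.leaf (nat_lit 0x55)) (.leaf (nat_lit 0x73)))) (.node 2 (.node 1 (.leaf (nat_lit 0x74)) (.leaf (nat_lit 0x9a))) (.node 1 (.leaf (nat_lit 0x59)) (.leaf (nat_lit 0x85))))) (.node 4 (.node 2 (.node 1 (.leaf (nat_lit 0x78)) (.leaf (nat_lit 0x91))) (.node 1 (.leaf (nat_lit 0x7a)) (.leaf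 (nat_lit 0x7b)))) (.node 2 (.node 1 (.leaf (nat_lit 0xa2)) (.leaf (nat_lit 0x7d))) (.node 1 (.leaf (nat_lit 0x7e)) (.leaf (nat_lit 0x7f)))))))))

noncomputable def M1g6x1 : Tree :=
  (.node 64 (.node 32 (.node 16 (.node 8 (.node 4 (.node 2 (.node 1 (.leaf (nat_lit 0xa8)) (.leaf (nat_lit 0xaa))) (.node 1 (.leaf (nat_lit 0x62)) (.leaf (nat_lit 0xac)))) (.node 2 (.node 1 (.leaf (nat_lit 0x63)) (.leaf (nat_lit 0x77))) (.node 1 (.leaf (nat_lit 0x65)) (.leaf (nat_lit 0xb0))))) (.node 4 (.node 2 (.node 1 (.leaf (nat_lit 0x88)) (.leaf (nat_lit 0xb4))) (.node 1 (.leaf (nat_lit 0xb6)) (.leaf (nat_lit 0xb8)))) (.node 2 (.node 1 (.leaf (nat_lit 0x69)) (.leaf (nat_lit 0xbb))) (.node 1 (.leaf (nat_lit 0x6a)) (.leaf (nat_lit 0x8f)))))) (.node 8 (.node 4 (.node 2 (.node 1 (.leaf (nat_lit 0x90)) (.leaf (nat_lit 0x79))) (.node 1 (.leaf (nat_lit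 0xc1)) (.leaf (nat_lit 0x6e)))) (.node 2 (.node 1 (.leaf (nat_lit 0xc4)) (.leaf (nat_lit 0x6f))) (.node 1 (.leaf (nat_lit 0x96)) (.leaf (nat_lit 0xc7))))) (.node 4 (.node 2 (.node 1 (.leaf (nat_lit 0x71)) (.leaf (nat_lit 0x99))) (.node 1 (.leaf (nat_lit 0x75)) (.leaf (nat_lit 0x9b)))) (.node 2 (.node 1 (.leaf (nat_lit 0xae)) (.leaf (nat_lit 0xb1))) (.node 1 (.leaf (nat_lit 0x9e)) (.leaf (nat_lit 0xce))))))) (.node 16 (.node 8 (.node 4 (.node 2 (.node 1 (.leaf (nat_lit 0xa0)) (.leaf (nat_lit 0xa1))) (.node 1 (.leaf (nat_lit 0x7c)) (.leaf (nat_lit 0xd3)))) (.node 2 (.node 1 (.leaf (nat_lit 0xa4)) (.leaf (nat_lit 0xd7))) (.node 1 (.leaf (nat_lit 0xd9)) (.leaf (nat_lit 0xdb))))) (.node 4 (.node 2 (.node 1 (.leaf (nat_lit 0x80)) (.leaf (nat_lit 0xde))) (.node 1 (.leaf (nat_lit 0x81)) (.leaf (nat_lit 0xab)))) (.node 2 (.node 1 (.leaf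 (nat_lit 0x83)) (.leaf (nat_lit 0xad))) (.node 1 (.leaf (nat_lit 0x9c)) (.leaf (nat_lit 0xaf)))))) (.node 8 (.node 4 (.node 2 (.node 1 (.leaf (nat_lit 0x87)) (.leaf (nat_lit 0x9d))) (.node 1 (.leaf (nat_lit 0xe7)) (.leaf (nat_lit 0xe9)))) (.node 2 (.node 1 (.leaf (nat_lit 0x89)) (.leaf (nat_lit 0xec))) (.node 1 (.leaf (nat_lit 0x8a)) (.leaf (nat_lit 0xef))))) (.node 4 (.node 2 (.node 1 (.leaf (nat_lit 0x8b)) (.leaf (nat_lit 0xb9))) (.node 1 (.leaf (nat_lit 0xf2)) (.leaf (nat_lit 0x8d)))) (.node 2 (.node 1 (.leaf (nat_lit 0xbc)) (.leaf (nat_lit 0xbd))) (.node 1 (.leaf (nat_lit 0xe5)) (.leaf (nat_lit 0xbf)))))))) (.node 32 (.node 16 (.node 8 (.node 4 (.node 2 (.node 1 (.leaf (nat_lit 0xf8)) (.leaf (nat_lit 0x92))) (.node 1 (.leaf (nat_lit 0xc2)) (.leaf (nat_lit 0xfb)))) (.node 2 (.node 1 (.leaf (nat_lit 0x94)) (.leaf (nat_lit 0xc5)))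 (.node 1 (.leaf (nat_lit 0xc6)) (.leaf (nat_lit 0x97))))) (.node 4 (.node 2 (.node 1 (.leaf (nat_lit 0xc8)) (.leaf (nat_lit 0xc9))) (.node 1 (.leaf (nat_lit 0xe2)) (.leaf (nat_lit 0xd4)))) (.node 2 (.node 1 (.leaf (nat_lit 0xcc)) (.leaf (nat_lit 0x103))) (.node 1 (.leaf (nat_lit 0x9f)) (.leaf (nat_lit 0x106)))))) (.node 8 (.node 4 (.node 2 (.node 1 (.leaf (nat_lit 0xd0)) (.leaf (nat_lit 0x10a))) (.node 1 (.leaf (nat_lit 0xd2)) (.leaf (nat_lit 0xa3)))) (.node 2 (.node 1 (.leaf (nat_lit 0xcb)) (.leaf (nat_lit 0x10d))) (.node 1 (.leaf (nat_lit 0x10f)) (.leaf (nat_lit 0xa5))))) (.node 4 (.node 2 (.node 1 (.leaf (nat_lit 0x112)) (.leaf (nat_lit 0xa6))) (.node 1 (.leaf (nat_lit 0x115)) (.leaf (nat_lit 0xa7)))) (.node 2 (.node 1 (.leaf (nat_lit 0xdc)) (.leaf (nat_lit 0x118))) (.node 1 (.leaf (nat_lit 0xa9)) (.leaf (nat_lit 0xdf)))))))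 (.node 16 (.node 8 (.node 4 (.node 2 (.node 1 (.leaf (nat_lit 0xe0)) (.leaf (nat_lit 0xe1))) (.node 1 (.leaf (nat_lit 0xca)) (.leaf (nat_lit 0x10b)))) (.node 2 (.node 1 (.leaf (nat_lit 0xe4)) (.leaf (nat_lit 0xbe))) (.node 1 (.leaf (nat_lit 0x122)) (.leaf (nat_lit 0xb2))))) (.node 4 (.node 2 (.node 1 (.leaf (nat_lit 0x124)) (.leaf (nat_lit 0xb3))) (.node 1 (.leaf (nat_lit 0xea)) (.leaf (nat_lit 0x128)))) (.node 2 (.node 1 (.leaf (nat_lit 0xb5)) (.leaf (nat_lit 0xed))) (.node 1 (.leaf (nat_lit 0x12b)) (.leaf (nat_lit 0xb7)))))) (.node 8 (.node 4 (.node 2 (.node 1 (.leaf (nat_lit 0x125)) (.leaf (nat_lit 0xf1))) (.node 1 (.leaf (nat_lit 0xba)) (.leaf (nat_lit 0xf3)))) (.node 2 (.node 1 (.leaf (nat_lit 0xf4)) (.leaf (nat_lit 0x120))) (.node 1 (.leaf (nat_lit 0xf6)) (.leaf (nat_lit 0x134))))) (.node 4 (.node 2 (.node 1 (.leaf (nat_lit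 0xc0)) (.leaf (nat_lit 0xf9))) (.node 1 (.leaf (nat_lit 0xfa)) (.leaf (nat_lit 0xc3)))) (.node 2 (.node 1 (.leaf (nat_lit 0xfc)) (.leaf (nat_lit 0xfd))) (.node 1 (.leaf (nat_lit 0x13d)) (.leaf (nat_lit 0xff)))))))))

noncomputable def M1g6x2 : Tree :=
  (.node 64 (.node 32 (.node 16 (.node 8 (.node 4 (.node 2 (.node 1 (.leaf (nat_lit 0x100)) (.leaf (nat_lit 0x107))) (.node 1 (.leaf (nat_lit 0x102)) (.leaf (nat_lit 0xcd)))) (.node 2 (.node 1 (.leaf (nat_lit 0x142)) (.leaf (nat_lit 0x105))) (.node 1 (.leaf (nat_lit 0xcf)) (.leaf (nat_lit 0x101))))) (.node 4 (.node 2 (.node 1 (.leaf (nat_lit 0x146)) (.leaf (nat_lit 0x148))) (.node 1 (.leaf (nat_lit 0xd1)) (.leaf (nat_lit 0xe3)))) (.node 2 (.node 1 (.leaf (nat_lit 0x14c)) (.leaf (nat_lit 0xd5))) (.node 1 (.leaf (nat_lit 0x14e)) (.leaf (nat_lit 0xd6)))))) (.node 8 (.node 4 (.node 2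 (.node 1 (.leaf (nat_lit 0x110)) (.leaf (nat_lit 0x152))) (.node 1 (.leaf (nat_lit 0xd8)) (.leaf (nat_lit 0x113)))) (.node 2 (.node 1 (.leaf (nat_lit 0x155)) (.leaf (nat_lit 0xda))) (.node 1 (.leaf (nat_lit 0x14f)) (.leaf (nat_lit 0x117))))) (.node 4 (.node 2 (.node 1 (.leaf (nat_lit 0xdd)) (.leaf (nat_lit 0x119))) (.node 1 (.leaf (nat_lit 0x11a)) (.leaf (nat_lit 0x14a)))) (.node 2 (.node 1 (.leaf (nat_lit 0x11c)) (.leaf (nat_lit 0x11d))) (.node 1 (.leaf (nat_lit 0x144)) (.leaf (nat_lit 0x11f))))))) (.node 16 (.node 8 (.node 4 (.node 2 (.node 1 (.leaf (nat_lit 0xf5)) (.leaf (nat_lit 0x163))) (.node 1 (.leaf (nat_lit 0xe6)) (.leaf (nat_lit 0x165)))) (.node 2 (.node 1 (.leaf (nat_lit 0xe8)) (.leaf (nat_lit 0xf0))) (.node 1 (.leaf (nat_lit 0x126)) (.leaf (nat_lit 0x16a))))) (.node 4 (.node 2 (.node 1 (.leaf (nat_lit 0xeb)) (.leaf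 (nat_lit 0x164))) (.node 1 (.leaf (nat_lit 0x12a)) (.leaf (nat_lit 0xee)))) (.node 2 (.node 1 (.leaf (nat_lit 0x166)) (.leaf (nat_lit 0x12d))) (.node 1 (.leaf (nat_lit 0x16e)) (.leaf (nat_lit 0x169)))))) (.node 8 (.node 4 (.node 2 (.node 1 (.leaf (nat_lit 0x130)) (.leaf (nat_lit 0x131))) (.node 1 (.leaf (nat_lit 0x161)) (.leaf (nat_lit 0x133)))) (.node 2 (.node 1 (.leaf (nat_lit 0xf7)) (.leaf (nat_lit 0x135))) (.node 1 (.leaf (nat_lit 0x136)) (.leaf (nat_lit 0x17b))))) (.node 4 (.node 2 (.node 1 (.leaf (nat_lit 0x138)) (.leaf (nat_lit 0x139))) (.node 1 (.leaf (nat_lit 0x13a)) (.leaf (nat_lit 0x13b)))) (.node 2 (.node 1 (.leaf (nat_lit 0x180)) (.leaf (nat_lit 0xfe))) (.node 1 (.leaf (nat_lit 0x143)) (.leaf (nat_lit 0x13f)))))))) (.node 32 (.node 16 (.node 8 (.node 4 (.node 2 (.node 1 (.leaf (nat_lit 0x140)) (.leaf (nat_lit 0x141)))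 (.node 1 (.leaf (nat_lit 0x104)) (.leaf (nat_lit 0x13e)))) (.node 2 (.node 1 (.leaf (nat_lit 0x11e)) (.leaf (nat_lit 0x188))) (.node 1 (.leaf (nat_lit 0x108)) (.leaf (nat_lit 0x18a))))) (.node 4 (.node 2 (.node 1 (.leaf (nat_lit 0x109)) (.leaf (nat_lit 0x149))) (.node 1 (.leaf (nat_lit 0x11b)) (.leaf (nat_lit 0x18f)))) (.node 2 (.node 1 (.leaf (nat_lit 0x10c)) (.leaf (nat_lit 0x191))) (.node 1 (.leaf (nat_lit 0x10e)) (.leaf (nat_lit 0x116)))))) (.node 8 (.node 4 (.node 2 (.node 1 (.leaf (nat_lit 0x150)) (.leaf (nat_lit 0x196))) (.node 1 (.leaf (nat_lit 0x111)) (.leaf (nat_lit 0x190)))) (.node 2 (.node 1 (.leaf (nat_lit 0x154)) (.leaf (nat_lit 0x114))) (.node 1 (.leaf (nat_lit 0x192)) (.leaf (nat_lit 0x157))))) (.node 4 (.node 2 (.node 1 (.leaf (nat_lit 0x19a)) (.leaf (nat_lit 0x195))) (.node 1 (.leaf (nat_lit 0x15a)) (.leaf (nat_lit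 0x15b)))) (.node 2 (.node 1 (.leaf (nat_lit 0x15c)) (.leaf (nat_lit 0x18d))) (.node 1 (.leaf (nat_lit 0x15e)) (.leaf (nat_lit 0x186))))))) (.node 16 (.node 8 (.node 4 (.node 2 (.node 1 (.leaf (nat_lit 0x160)) (.leaf (nat_lit 0x132))) (.node 1 (.leaf (nat_lit 0x1a7)) (.leaf (nat_lit 0x121)))) (.node 2 (.node 1 (.leaf (nat_lit 0x129)) (.leaf (nat_lit 0x123))) (.node 1 (.leaf (nat_lit 0x12c)) (.leaf (nat_lit 0x167))))) (.node 4 (.node 2 (.node 1 (.leaf (nat_lit 0x1ae)) (.leaf (nat_lit 0x12f))) (.node 1 (.leaf (nat_lit 0x127)) (.leaf (nat_lit 0x1a8)))) (.node 2 (.node 1 (.leaf (nat_lit 0x16c)) (.leaf (nat_lit 0x1af))) (.node 1 (.leaf (nat_lit 0x12e)) (.leaf (nat_lit 0x1a9)))))) (.node 8 (.node 4 (.node 2 (.node 1 (.leaf (nat_lit 0x170)) (.leaf (nat_lit 0x1ab))) (.node 1 (.leaf (nat_lit 0x1b4)) (.leaf (nat_lit 0x1ad)))) (.node 2 (.node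 1 (.leaf (nat_lit 0x1a6)) (.leaf (nat_lit 0x175))) (.node 1 (.leaf (nat_lit 0x176)) (.leaf (nat_lit 0x177))))) (.node 4 (.node 2 (.node 1 (.leaf (nat_lit 0x178)) (.leaf (nat_lit 0x1bf))) (.node 1 (.leaf (nat_lit 0x17a)) (.leaf (nat_lit 0x137)))) (.node 2 (.node 1 (.leaf (nat_lit 0x1c1)) (.leaf (nat_lit 0x17d))) (.node 1 (.leaf (nat_lit 0x1c4)) (.leaf (nat_lit 0x1c5)))))))))

noncomputable def M1g6x3 : Tree :=
  (.node 64 (.node 32 (.node 16 (.node 8 (.node 4 (.node 2 (.node 1 (.leaf (nat_lit 0x13c)) (.leaf (nat_lit 0x1c6))) (.node 1 (.leaf (nat_lit 0x1c7)) (.leaf (nat_lit 0x183)))) (.node 2 (.node 1 (.leaf (nat_lit 0x184)) (.leaf (nat_lit 0x185))) (.node 1 (.leaf (nat_lit 0x15f)) (.leaf (nat_lit 0x1cc))))) (.node 4 (.node 2 (.node 1 (.leaf (nat_lit 0x145)) (.leaf (nat_lit 0x1ce))) (.node 1 (.leaf (nat_lit 0x147)) (.leaf (nat_lit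 0x18b)))) (.node 2 (.node 1 (.leaf (nat_lit 0x18c)) (.leaf (nat_lit 0x15d))) (.node 1 (.leaf (nat_lit 0x1d4)) (.leaf (nat_lit 0x14b)))))) (.node 8 (.node 4 (.node 2 (.node 1 (.leaf (nat_lit 0x153)) (.leaf (nat_lit 0x14d))) (.node 1 (.leaf (nat_lit 0x156)) (.leaf (nat_lit 0x193)))) (.node 2 (.node 1 (.leaf (nat_lit 0x1db)) (.leaf (nat_lit 0x159))) (.node 1 (.leaf (nat_lit 0x151)) (.leaf (nat_lit 0x1d5))))) (.node 4 (.node 2 (.node 1 (.leaf (nat_lit 0x198)) (.leaf (nat_lit 0x1dc))) (.node 1 (.leaf (nat_lit 0x158)) (.leaf (nat_lit 0x1d6)))) (.node 2 (.node 1 (.leaf (nat_lit 0x19c)) (.leaf (nat_lit 0x1d8))) (.node 1 (.leaf (nat_lit 0x1e1)) (.leaf (nat_lit 0x1da))))))) (.node 16 (.node 8 (.node 4 (.node 2 (.node 1 (.leaf (nat_lit 0x1a0)) (.leaf (nat_lit 0x1d3))) (.node 1 (.leaf (nat_lit 0x1a2)) (.leaf (nat_lit 0x1ca)))) (.node 2 (.node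 1 (.leaf (nat_lit 0x1a4)) (.leaf (nat_lit 0x1ea))) (.node 1 (.leaf (nat_lit 0x174)) (.leaf (nat_lit 0x162))))) (.node 4 (.node 2 (.node 1 (.leaf (nat_lit 0x16b)) (.leaf (nat_lit 0x16f))) (.node 1 (.leaf (nat_lit 0x1aa)) (.leaf (nat_lit 0x171)))) (.node 2 (.node 1 (.leaf (nat_lit 0x1f2)) (.leaf (nat_lit 0x173))) (.node 1 (.leaf (nat_lit 0x168)) (.leaf (nat_lit 0x16d)))))) (.node 8 (.node 4 (.node 2 (.node 1 (.leaf (nat_lit 0x1eb)) (.leaf (nat_lit 0x1b1))) (.node 1 (.leaf (nat_lit 0x1ec)) (.leaf (nat_lit 0x1f3)))) (.node 2 (.node 1 (.leaf (nat_lit 0x172)) (.leaf (nat_lit 0x1ed))) (.node 1 (.leaf (nat_lit 0x1f6)) (.leaf (nat_lit 0x1ef))))) (.node 4 (.node 2 (.node 1 (.leaf (nat_lit 0x1f8)) (.leaf (nat_lit 0x1f1))) (.node 1 (.leaf (nat_lit 0x1ba)) (.leaf (nat_lit 0x1ff)))) (.node 2 (.node 1 (.leaf (nat_lit 0x1bc)) (.leaf (nat_lit 0x201)))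 (.node 1 (.leaf (nat_lit 0x1be)) (.leaf (nat_lit 0x179)))))))) (.node 32 (.node 16 (.node 8 (.node 4 (.node 2 (.node 1 (.leaf (nat_lit 0x204)) (.leaf (nat_lit 0x17c))) (.node 1 (.leaf (nat_lit 0x1c2)) (.leaf (nat_lit 0x207)))) (.node 2 (.node 1 (.leaf (nat_lit 0x17e)) (.leaf (nat_lit 0x17f))) (.node 1 (.leaf (nat_lit 0x181)) (.leaf (nat_lit 0x182))))) (.node 4 (.node 2 (.node 1 (.leaf (nat_lit 0x209)) (.leaf (nat_lit 0x1c9))) (.node 1 (.leaf (nat_lit 0x1a3)) (.leaf (nat_lit 0x20c)))) (.node 2 (.node 1 (.leaf (nat_lit 0x187)) (.leaf (nat_lit 0x1cd))) (.node 1 (.leaf (nat_lit 0x189)) (.leaf (nat_lit 0x1cf)))))) (.node 8 (.node 4 (.node 2 (.node 1 (.leaf (nat_lit 0x1d0)) (.leaf (nat_lit 0x213))) (.node 1 (.leaf (nat_lit 0x1d2)) (.leaf (nat_lit 0x1a1)))) (.node 2 (.node 1 (.leaf (nat_lit 0x18e)) (.leaf (nat_lit 0x197))) (.node 1 (.leaf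 (nat_lit 0x19b)) (.leaf (nat_lit 0x1d7))))) (.node 4 (.node 2 (.node 1 (.leaf (nat_lit 0x19d)) (.leaf (nat_lit 0x21c))) (.node 1 (.leaf (nat_lit 0x19f)) (.leaf (nat_lit 0x194)))) (.node 2 (.node 1 (.leaf (nat_lit 0x199)) (.leaf (nat_lit 0x215))) (.node 1 (.leaf (nat_lit 0x1de)) (.leaf (nat_lit 0x216))))))) (.node 16 (.node 8 (.node 4 (.node 2 (.node 1 (.leaf (nat_lit 0x21d)) (.leaf (nat_lit 0x19e))) (.node 1 (.leaf (nat_lit 0x217)) (.leaf (nat_lit 0x220)))) (.node 2 (.node 1 (.leaf (nat_lit 0x219)) (.leaf (nat_lit 0x222))) (.node 1 (.leaf (nat_lit 0x21b)) (.leaf (nat_lit 0x20b))))) (.node 4 (.node 2 (.node 1 (.leaf (nat_lit 0x1e8)) (.leaf (nat_lit 0x228))) (.node 1 (.leaf (nat_lit 0x1a5)) (.leaf (nat_lit 0x1b0)))) (.node 2 (.node 1 (.leaf (nat_lit 0x1b2)) (.leaf (nat_lit 0x1b5))) (.node 1 (.leaf (nat_lit 0x22d)) (.leaf (nat_lit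 0x1b7)))))) (.node 8 (.node 4 (.node 2 (.node 1 (.leaf (nat_lit 0x22f)) (.leaf (nat_lit 0x1b9))) (.node 1 (.leaf (nat_lit 0x1ac)) (.leaf (nat_lit 0x1b3)))) (.node 2 (.node 1 (.leaf (nat_lit 0x229)) (.leaf (nat_lit 0x22e))) (.node 1 (.leaf (nat_lit 0x1b6)) (.leaf (nat_lit 0x230))))) (.node 4 (.node 2 (.node 1 (.leaf (nat_lit 0x1b8)) (.leaf (nat_lit 0x22a))) (.node 1 (.leaf (nat_lit 0x234)) (.leaf (nat_lit 0x22c)))) (.node 2 (.node 1 (.leaf (nat_lit 0x1fc)) (.leaf (nat_lit 0x23a))) (.node 1 (.leaf (nat_lit 0x1fe)) (.leaf (nat_lit 0x1bb)))))))))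

noncomputable def M1g6x4 : Tree :=
  (.node 64 (.node 32 (.node 16 (.node 8 (.node 4 (.node 2 (.node 1 (.leaf (nat_lit 0x23d)) (.leaf (nat_lit 0x1bd))) (.node 1 (.leaf (nat_lit 0x23f)) (.leaf (nat_lit 0x241)))) (.node 2 (.node 1 (.leaf (nat_lit 0x1c0)) (.leaf (nat_lit 0x205))) (.node 1 (.leaf (nat_lit 0x244)) (.leaf (nat_lit 0x1c3))))) (.node 4 (.node 2 (.node 1 (.leaf (nat_lit 0x235)) (.leaf (nat_lit 0x1c8))) (.node 1 (.leaf (nat_lit 0x20a)) (.leaf (nat_lit 0x1e7)))) (.node 2 (.node 1 (.leaf (nat_lit 0x1cb)) (.leaf (nat_lit 0x20d))) (.node 1 (.leaf (nat_lit 0x20e)) (.leaf (nat_lit 0x20f)))))) (.node 8 (.node 4 (.node 2 (.node 1 (.leaf (nat_lit 0x210)) (.leaf (nat_lit 0x24f))) (.node 1 (.leaf (nat_lit 0x212)) (.leaf (nat_lit 0x1d1)))) (.node 2 (.node 1 (.leaf (nat_lit 0x251)) (.leaf (nat_lit 0x1dd))) (.node 1 (.leaf (nat_lit 0x1df))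 (.leaf (nat_lit 0x1e2))))) (.node 4 (.node 2 (.node 1 (.leaf (nat_lit 0x256)) (.leaf (nat_lit 0x1e4))) (.node 1 (.leaf (nat_lit 0x258)) (.leaf (nat_lit 0x1e6)))) (.node 2 (.node 1 (.leaf (nat_lit 0x1d9)) (.leaf (nat_lit 0x1e0))) (.node 1 (.leaf (nat_lit 0x252)) (.leaf (nat_lit 0x257))))))) (.node 16 (.node 8 (.node 4 (.node 2 (.node 1 (.leaf (nat_lit 0x1e3)) (.leaf (nat_lit 0x259))) (.node 1 (.leaf (nat_lit 0x1e5)) (.leaf (nat_lit 0x253)))) (.node 2 (.node 1 (.leaf (nat_lit 0x25d)) (.leaf (nat_lit 0x255))) (.node 1 (.leaf (nat_lit 0x262)) (.leaf (nat_lit 0x263))))) (.node 4 (.node 2 (.node 1 (.leaf (nat_lit 0x1e9)) (.leaf (nat_lit 0x1f4))) (.node 1 (.leaf (nat_lit 0x1f9)) (.leaf (nat_lit 0x267)))) (.node 2 (.node 1 (.leaf (nat_lit 0x1fb)) (.leaf (nat_lit 0x1ee))) (.node 1 (.leaf (nat_lit 0x1f5)) (.leaf (nat_lit 0x1f0)))))) (.node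 8 (.node 4 (.node 2 (.node 1 (.leaf (nat_lit 0x1f7)) (.leaf (nat_lit 0x231))) (.node 1 (.leaf (nat_lit 0x264)) (.leaf (nat_lit 0x268)))) (.node 2 (.node 1 (.leaf (nat_lit 0x1fa)) (.leaf (nat_lit 0x208))) (.node 1 (.leaf (nat_lit 0x26d)) (.leaf (nat_lit 0x266))))) (.node 4 (.node 2 (.node 1 (.leaf (nat_lit 0x26f)) (.leaf (nat_lit 0x239))) (.node 1 (.leaf (nat_lit 0x1fd)) (.leaf (nat_lit 0x273)))) (.node 2 (.node 1 (.leaf (nat_lit 0x275)) (.leaf (nat_lit 0x200))) (.node 1 (.leaf (nat_lit 0x26b)) (.leaf (nat_lit 0x202)))))))) (.node 32 (.node 16 (.node 8 (.node 4 (.node 2 (.node 1 (.leaf (nat_lit 0x240)) (.leaf (nat_lit 0x203))) (.node 1 (.leaf (nat_lit 0x242)) (.leaf (nat_lit 0x243)))) (.node 2 (.node 1 (.leaf (nat_lit 0x206)) (.leaf (nat_lit 0x26e))) (.node 1 (.leaf (nat_lit 0x246)) (.leaf (nat_lit 0x247))))) (.node 4 (.node 2 (.node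 1 (.leaf (nat_lit 0x248)) (.leaf (nat_lit 0x249))) (.node 1 (.leaf (nat_lit 0x24a)) (.leaf (nat_lit 0x27d)))) (.node 2 (.node 1 (.leaf (nat_lit 0x24c)) (.leaf (nat_lit 0x27f))) (.node 1 (.leaf (nat_lit 0x24e)) (.leaf (nat_lit 0x211)))))) (.node 8 (.node 4 (.node 2 (.node 1 (.leaf (nat_lit 0x282)) (.leaf (nat_lit 0x214))) (.node 1 (.leaf (nat_lit 0x21e)) (.leaf (nat_lit 0x223)))) (.node 2 (.node 1 (.leaf (nat_lit 0x287)) (.leaf (nat_lit 0x225))) (.node 1 (.leaf (nat_lit 0x218)) (.leaf (nat_lit 0x21f))))) (.node 4 (.node 2 (.node 1 (.leaf (nat_lit 0x21a)) (.leaf (nat_lit 0x221))) (.node 1 (.leaf (nat_lit 0x28c)) (.leaf (nat_lit 0x284)))) (.node 2 (.node 1 (.leaf (nat_lit 0x288)) (.leaf (nat_lit 0x224))) (.node 1 (.leaf (nat_lit 0x25e)) (.leaf (nat_lit 0x28e))))))) (.node 16 (.node 8 (.node 4 (.node 2 (.node 1 (.leaf (nat_lit 0x286))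 (.leaf (nat_lit 0x291))) (.node 1 (.leaf (nat_lit 0x226)) (.leaf (nat_lit 0x227)))) (.node 2 (.node 1 (.leaf (nat_lit 0x232)) (.leaf (nat_lit 0x292))) (.node 1 (.leaf (nat_lit 0x237)) (.leaf (nat_lit 0x22b))))) (.node 4 (.node 2 (.node 1 (.leaf (nat_lit 0x233)) (.leaf (nat_lit 0x269))) (.node 1 (.leaf (nat_lit 0x26a)) (.leaf (nat_lit 0x23e)))) (.node 2 (.node 1 (.leaf (nat_lit 0x293)) (.leaf (nat_lit 0x236))) (.node 1 (.leaf (nat_lit 0x245)) (.leaf (nat_lit 0x238)))))) (.node 8 (.node 4 (.node 2 (.node 1 (.leaf (nat_lit 0x299)) (.leaf (nat_lit 0x29c))) (.node 1 (.leaf (nat_lit 0x296)) (.leaf (nat_lit 0x23b)))) (.node 2 (.node 1 (.leaf (nat_lit 0x274)) (.leaf (nat_lit 0x23c))) (.node 1 (.leaf (nat_lit 0x276)) (.leaf (nat_lit 0x297))))) (.node 4 (.node 2 (.node 1 (.leaf (nat_lit 0x278)) (.leaf (nat_lit 0x279))) (.node 1 (.leaf (nat_lit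 0x27a)) (.leaf (nat_lit 0x2a2)))) (.node 2 (.node 1 (.leaf (nat_lit 0x27c)) (.leaf (nat_lit 0x24b))) (.node 1 (.leaf (nat_lit 0x2a5)) (.leaf (nat_lit 0x24d)))))))))

noncomputable def M1g6x5 : Tree :=
  (.node 44 (.node 22 (.node 11 (.node 5 (.node 2 (.node 1 (.leaf (nat_lit 0x2a7)) (.leaf (nat_lit 0x2a9))) (.node 1 (.leaf (nat_lit 0x250)) (.node 1 (.leaf (nat_lit 0x283)) (.leaf (nat_lit 0x25b))))) (.node 3 (.node 1 (.leaf (nat_lit 0x2ac)) (.node 1 (.leaf (nat_lit 0x260)) (.leaf (nat_lit 0x254)))) (.node 1 (.leaf (nat_lit 0x25c)) (.node 1 (.leaf (nat_lit 0x2b1)) (.leaf (nat_lit 0x2a6)))))) (.node 5 (.node 2 (.node 1 (.leaf (nat_lit 0x28b)) (.leaf (nat_lit 0x25a))) (.node 1 (.leaf (nat_lit 0x2ad)) (.node 1 (.leaf (nat_lit 0x25f)) (.leaf (nat_lit 0x28f))))) (.node 3 (.node 1 (.leaf (nat_lit 0x2b3)) (.node 1 (.leaf (nat_lit 0x261))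 (.leaf (nat_lit 0x265)))) (.node 1 (.leaf (nat_lit 0x26c)) (.node 1 (.leaf (nat_lit 0x294)) (.leaf (nat_lit 0x295))))))) (.node 11 (.node 5 (.node 2 (.node 1 (.leaf (nat_lit 0x272)) (.leaf (nat_lit 0x277))) (.node 1 (.leaf (nat_lit 0x2b5)) (.node 1 (.leaf (nat_lit 0x270)) (.leaf (nat_lit 0x29a))))) (.node 3 (.node 1 (.leaf (nat_lit 0x2ba)) (.node 1 (.leaf (nat_lit 0x271)) (.leaf (nat_lit 0x2b7)))) (.node 1 (.leaf (nat_lit 0x29e)) (.node 1 (.leaf (nat_lit 0x29f)) (.leaf (nat_lit 0x2bc)))))) (.node 5 (.node 2 (.node 1 (.leaf (nat_lit 0x2a1)) (.leaf (nat_lit 0x27b))) (.node 1 (.leaf (nat_lit 0x2c0)) (.node 1 (.leaf (nat_lit 0x2c2)) (.leaf (nat_lit 0x27e))))) (.node 3 (.node 1 (.leaf (nat_lit 0x28a)) (.node 1 (.leaf (nat_lit 0x280)) (.leaf (nat_lit 0x2a8)))) (.node 1 (.leaf (nat_lit 0x281)) (.node 1 (.leaf (nat_lit 0x2aa)) (.leaf (nat_lit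 0x2ab)))))))) (.node 22 (.node 11 (.node 5 (.node 2 (.node 1 (.leaf (nat_lit 0x285)) (.leaf (nat_lit 0x28d))) (.node 1 (.leaf (nat_lit 0x2c7)) (.node 1 (.leaf (nat_lit 0x2bf)) (.leaf (nat_lit 0x2b0))))) (.node 3 (.node 1 (.leaf (nat_lit 0x289)) (.node 1 (.leaf (nat_lit 0x2b2)) (.leaf (nat_lit 0x290)))) (.node 1 (.leaf (nat_lit 0x2b4)) (.node 1 (.leaf (nat_lit 0x298)) (.leaf (nat_lit 0x2b6)))))) (.node 5 (.node 2 (.node 1 (.leaf (nat_lit 0x29d)) (.leaf (nat_lit 0x2ca))) (.node 1 (.leaf (nat_lit 0x2b9)) (.node 1 (.leaf (nat_lit 0x29b)) (.leaf (nat_lit 0x2bb))))) (.node 3 (.node 1 (.leaf (nat_lit 0x2a0)) (.node 1 (.leaf (nat_lit 0x2cd)) (.leaf (nat_lit 0x2d0)))) (.node 1 (.leaf (nat_lit 0x2af)) (.node 1 (.leaf (nat_lit 0x2a3)) (.leaf (nat_lit 0x2c1))))))) (.node 11 (.node 5 (.node 2 (.node 1 (.leaf (nat_lit 0x2a4)) (.leaf (nat_lit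 0x2c3))) (.node 1 (.leaf (nat_lit 0x2cc)) (.node 1 (.leaf (nat_lit 0x2c5)) (.leaf (nat_lit 0x2d3))))) (.node 3 (.node 1 (.leaf (nat_lit 0x2ae)) (.node 1 (.leaf (nat_lit 0x2c8)) (.leaf (nat_lit 0x2c9)))) (.node 1 (.leaf (nat_lit 0x2b8)) (.node 1 (.leaf (nat_lit 0x2cb)) (.leaf (nat_lit 0x2c4)))))) (.node 5 (.node 2 (.node 1 (.leaf (nat_lit 0x2bd)) (.leaf (nat_lit 0x2ce))) (.node 1 (.leaf (nat_lit 0x2d6)) (.node 1 (.leaf (nat_lit 0x2be)) (.leaf (nat_lit 0x2d4))))) (.node 3 (.node 1 (.leaf (nat_lit 0x2d2)) (.node 1 (.leaf (nat_lit 0x2c6)) (.leaf (nat_lit 0x2d1)))) (.node 1 (.leaf (nat_lit 0x2d5)) (.node 1 (.leaf (nat_lit 0x2cf)) (.leaf (nat_lit 0x2d7)))))))))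

noncomputable def M1g6x : Tree :=
  (.node 384 (.node 128 M1g6x0 (.node 128 M1g6x1 M1g6x2)) (.node 128 M1g6x3 (.node 128 M1g6x4 M1g6x5)))

noncomputable def M1g7x0 : Tree :=
  (.node 64 (.node 32 (.node 16 (.node 8 (.node 4 (.node 2 (.node 1 (.leaf (nat_lit 0)) (.leaf (nat_lit 1))) (.node 1 (.leaf (nat_lit 2)) (.leaf (nat_lit 3)))) (.node 2 (.node 1 (.leaf (nat_lit 4)) (.leaf (nat_lit 7))) (.node 1 (.leaf (nat_lit 6)) (.leaf (nat_lit 5))))) (.node 4 (.node 2 (.node 1 (.leaf (nat_lit 0xa)) (.leaf (nat_lit 9))) (.node 1 (.leaf (nat_lit 8)) (.leaf (nat_lit 0xd)))) (.node 2 (.node 1 (.leaf (nat_lit 0xe)) (.leaf (nat_lit 0xb))) (.node 1 (.leaf (nat_lit 0xc)) (.leaf (nat_lit 0x11)))))) (.node 8 (.node 4 (.node 2 (.node 1 (.leaf (nat_lit 0x13)) (.leaf (nat_lit 0xf))) (.node 1 (.leaf (nat_lit 0x12)) (.leaf (nat_lit 0x10)))) (.node 2 (.node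 1 (.leaf (nat_lit 0x17)) (.leaf (nat_lit 0x19))) (.node 1 (.leaf (nat_lit 0x1b)) (.leaf (nat_lit 0x14))))) (.node 4 (.node 2 (.node 1 (.leaf (nat_lit 0x18)) (.leaf (nat_lit 0x15))) (.node 1 (.leaf (nat_lit 0x1a)) (.leaf (nat_lit 0x16)))) (.node 2 (.node 1 (.leaf (nat_lit 0x1f)) (.leaf (nat_lit 0x21))) (.node 1 (.leaf (nat_lit 0x24)) (.leaf (nat_lit 0x1c))))))) (.node 16 (.node 8 (.node 4 (.node 2 (.node 1 (.leaf (nat_lit 0x20)) (.leaf (nat_lit 0x1d))) (.node 1 (.leaf (nat_lit 0x22)) (.leaf (nat_lit 0x23)))) (.node 2 (.node 1 (.leaf (nat_lit 0x1e)) (.leaf (nat_lit 0x25))) (.node 1 (.leaf (nat_lit 0x2a)) (.leaf (nat_lit 0x2d))))) (.node 4 (.node 2 (.node 1 (.leaf (nat_lit 0x31)) (.leaf (nat_lit 0x29))) (.node 1 (.leaf (nat_lit 0x26)) (.leaf (nat_lit 0x2b)))) (.node 2 (.node 1 (.leaf (nat_lit 0x2c)) (.leaf (nat_lit 0x27))) (.node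 1 (.leaf (nat_lit 0x2e)) (.leaf (nat_lit 0x2f)))))) (.node 8 (.node 4 (.node 2 (.node 1 (.leaf (nat_lit 0x30)) (.leaf (nat_lit 0x28))) (.node 1 (.leaf (nat_lit 0x32)) (.leaf (nat_lit 0x38)))) (.node 2 (.node 1 (.leaf (nat_lit 0x3d)) (.leaf (nat_lit 0x46))) (.node 1 (.leaf (nat_lit 0x36)) (.leaf (nat_lit 0x37))))) (.node 4 (.node 2 (.node 1 (.leaf (nat_lit 0x33)) (.leaf (nat_lit 0x39))) (.node 1 (.leaf (nat_lit 0x3a)) (.leaf (nat_lit 0x3b)))) (.node 2 (.node 1 (.leaf (nat_lit 0x3c)) (.leaf (nat_lit 0x34))) (.node 1 (.leaf (nat_lit 0x3e)) (.leaf (nat_lit 0x3f)))))))) (.node 32 (.node 16 (.node 8 (.node 4 (.node 2 (.node 1 (.leaf (nat_lit 0x40)) (.leaf (nat_lit 0x57))) (.node 1 (.leaf (nat_lit 0x42)) (.leaf (nat_lit 0x4b)))) (.node 2 (.node 1 (.leaf (nat_lit 0x51)) (.leaf (nat_lit 0x5c))) (.node 1 (.leaf (nat_lit 0x35)) (.leaf (nat_lit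 0x47))))) (.node 4 (.node 2 (.node 1 (.leaf (nat_lit 0x48)) (.leaf (nat_lit 0x49))) (.node 1 (.leaf (nat_lit 0x4a)) (.leaf (nat_lit 0x43)))) (.node 2 (.node 1 (.leaf (nat_lit 0x4c)) (.leaf (nat_lit 0x4d))) (.node 1 (.leaf (nat_lit 0x4e)) (.leaf (nat_lit 0x4f)))))) (.node 8 (.node 4 (.node 2 (.node 1 (.leaf (nat_lit 0x50)) (.leaf (nat_lit 0x44))) (.node 1 (.leaf (nat_lit 0x6d)) (.leaf (nat_lit 0x53)))) (.node 2 (.node 1 (.leaf (nat_lit 0x54)) (.leaf (nat_lit 0x55))) (.node 1 (.leaf (nat_lit 0x73)) (.leaf (nat_lit 0x41))))) (.node 4 (.node 2 (.node 1 (.leaf (nat_lit 0x58)) (.leaf (nat_lit 0x63))) (.node 1 (.leaf (nat_lit 0x77)) (.leaf (nat_lit 0x79)))) (.node 2 (.node 1 (.leaf (nat_lit 0x45)) (.leaf (nat_lit 0x5d))) (.node 1 (.leaf (nat_lit 0x5e)) (.leaf (nat_lit 0x5f))))))) (.node 16 (.node 8 (.node 4 (.node 2 (.node 1 (.leaf (nat_lit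 0x60)) (.leaf (nat_lit 0x61))) (.node 1 (.leaf (nat_lit 0x62)) (.leaf (nat_lit 0x59)))) (.node 2 (.node 1 (.leaf (nat_lit 0x85)) (.leaf (nat_lit 0x65))) (.node 1 (.leaf (nat_lit 0x66)) (.leaf (nat_lit 0x67))))) (.node 4 (.node 2 (.node 1 (.leaf (nat_lit 0x68)) (.leaf (nat_lit 0x69))) (.node 1 (.leaf (nat_lit 0x6a)) (.leaf (nat_lit 0x8f)))) (.node 2 (.node 1 (.leaf (nat_lit 0x91)) (.leaf (nat_lit 0x52))) (.node 1 (.leaf (nat_lit 0x6e)) (.leaf (nat_lit 0x6f)))))) (.node 8 (.node 4 (.node 2 (.node 1 (.leaf (nat_lit 0x96)) (.leaf (nat_lit 0x71))) (.node 1 (.leaf (nat_lit 0x99)) (.leaf (nat_lit 0x56)))) (.node 2 (.node 1 (.leaf (nat_lit 0x74)) (.leaf (nat_lit 0x83))) (.node 1 (.leaf (nat_lit 0x9c)) (.leaf (nat_lit 0x5a))))) (.node 4 (.node 2 (.node 1 (.leaf (nat_lit 0x9d)) (.leaf (nat_lit 0x5b))) (.node 1 (.leaf (nat_lit 0x7a)) (.leaf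 (nat_lit 0x7b)))) (.node 2 (.node 1 (.leaf (nat_lit 0x7c)) (.leaf (nat_lit 0x7d))) (.node 1 (.leaf (nat_lit 0x7e)) (.leaf (nat_lit 0x7f)))))))))

noncomputable def M1g7x1 : Tree :=
  (.node 64 (.node 32 (.node 16 (.node 8 (.node 4 (.node 2 (.node 1 (.leaf (nat_lit 0x80)) (.leaf (nat_lit 0x81))) (.node 1 (.leaf (nat_lit 0xab)) (.leaf (nat_lit 0x75)))) (.node 2 (.node 1 (.leaf (nat_lit 0xae)) (.leaf (nat_lit 0x64))) (.node 1 (.leaf (nat_lit 0xaf)) (.leaf (nat_lit 0x87))))) (.node 4 (.node 2 (.node 1 (.leaf (nat_lit 0x88)) (.leaf (nat_lit 0x89))) (.node 1 (.leaf (nat_lit 0x8a)) (.leaf (nat_lit 0x8b)))) (.node 2 (.node 1 (.leaf (nat_lit 0xb9)) (.leaf (nat_lit 0x8d))) (.node 1 (.leaf (nat_lit 0xbd)) (.leaf (nat_lit 0x6b)))))) (.node 8 (.node 4 (.node 2 (.node 1 (.leaf (nat_lit 0xbe)) (.leaf (nat_lit 0x6c))) (.node 1 (.leaf (nat_lit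 0x92)) (.leaf (nat_lit 0xc2)))) (.node 2 (.node 1 (.leaf (nat_lit 0x94)) (.leaf (nat_lit 0xc6))) (.node 1 (.leaf (nat_lit 0x70)) (.leaf (nat_lit 0x97))))) (.node 4 (.node 2 (.node 1 (.leaf (nat_lit 0xc8)) (.leaf (nat_lit 0x72))) (.node 1 (.leaf (nat_lit 0xca)) (.leaf (nat_lit 0xcb)))) (.node 2 (.node 1 (.leaf (nat_lit 0x76)) (.leaf (nat_lit 0x78))) (.node 1 (.leaf (nat_lit 0xb0)) (.leaf (nat_lit 0x9f))))))) (.node 16 (.node 8 (.node 4 (.node 2 (.node 1 (.leaf (nat_lit 0xa0)) (.leaf (nat_lit 0xa1))) (.node 1 (.leaf (nat_lit 0xd2)) (.leaf (nat_lit 0xa3)))) (.node 2 (.node 1 (.leaf (nat_lit 0xa4)) (.leaf (nat_lit 0xa5))) (.node 1 (.leaf (nat_lit 0xa6)) (.leaf (nat_lit 0xa7))))) (.node 4 (.node 2 (.node 1 (.leaf (nat_lit 0xdc)) (.leaf (nat_lit 0xa9))) (.node 1 (.leaf (nat_lit 0xe0)) (.leaf (nat_lit 0x82)))) (.node 2 (.node 1 (.leaf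 (nat_lit 0xe2)) (.leaf (nat_lit 0xe3))) (.node 1 (.leaf (nat_lit 0x84)) (.leaf (nat_lit 0x86)))))) (.node 8 (.node 4 (.node 2 (.node 1 (.leaf (nat_lit 0x9e)) (.leaf (nat_lit 0xb1))) (.node 1 (.leaf (nat_lit 0xb2)) (.leaf (nat_lit 0xb3)))) (.node 2 (.node 1 (.leaf (nat_lit 0xea)) (.leaf (nat_lit 0xb5))) (.node 1 (.leaf (nat_lit 0xed)) (.leaf (nat_lit 0xb7))))) (.node 4 (.node 2 (.node 1 (.leaf (nat_lit 0xf1)) (.leaf (nat_lit 0x8c))) (.node 1 (.leaf (nat_lit 0xba)) (.leaf (nat_lit 0xf4)))) (.node 2 (.node 1 (.leaf (nat_lit 0xf5)) (.leaf (nat_lit 0x8e))) (.node 1 (.leaf (nat_lit 0x90)) (.leaf (nat_lit 0xe7)))))))) (.node 32 (.node 16 (.node 8 (.node 4 (.node 2 (.node 1 (.leaf (nat_lit 0xc0)) (.leaf (nat_lit 0xfa))) (.node 1 (.leaf (nat_lit 0x93)) (.leaf (nat_lit 0xc3)))) (.node 2 (.node 1 (.leaf (nat_lit 0xfd)) (.leaf (nat_lit 0xfe)))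 (.node 1 (.leaf (nat_lit 0x95)) (.leaf (nat_lit 0xff))))) (.node 4 (.node 2 (.node 1 (.leaf (nat_lit 0x98)) (.leaf (nat_lit 0x101))) (.node 1 (.leaf (nat_lit 0x9a)) (.leaf (nat_lit 0x9b)))) (.node 2 (.node 1 (.leaf (nat_lit 0xd3)) (.leaf (nat_lit 0xcd))) (.node 1 (.leaf (nat_lit 0x105)) (.leaf (nat_lit 0xcf)))))) (.node 8 (.node 4 (.node 2 (.node 1 (.leaf (nat_lit 0xd0)) (.leaf (nat_lit 0xd1))) (.node 1 (.leaf (nat_lit 0xa2)) (.leaf (nat_lit 0xcc)))) (.node 2 (.node 1 (.leaf (nat_lit 0xd4)) (.leaf (nat_lit 0xd5))) (.node 1 (.leaf (nat_lit 0xd6)) (.leaf (nat_lit 0x110))))) (.node 4 (.node 2 (.node 1 (.leaf (nat_lit 0xd8)) (.leaf (nat_lit 0x113))) (.node 1 (.leaf (nat_lit 0xda)) (.leaf (nat_lit 0x117)))) (.node 2 (.node 1 (.leaf (nat_lit 0xa8)) (.leaf (nat_lit 0xdd))) (.node 1 (.leaf (nat_lit 0x11a)) (.leaf (nat_lit 0x11b)))))))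 (.node 16 (.node 8 (.node 4 (.node 2 (.node 1 (.leaf (nat_lit 0xaa)) (.leaf (nat_lit 0x11e))) (.node 1 (.leaf (nat_lit 0xac)) (.leaf (nat_lit 0xad)))) (.node 2 (.node 1 (.leaf (nat_lit 0x10d)) (.leaf (nat_lit 0xe5))) (.node 1 (.leaf (nat_lit 0xe6)) (.leaf (nat_lit 0xbf))))) (.node 4 (.node 2 (.node 1 (.leaf (nat_lit 0xe8)) (.leaf (nat_lit 0x126))) (.node 1 (.leaf (nat_lit 0xb4)) (.leaf (nat_lit 0xeb)))) (.node 2 (.node 1 (.leaf (nat_lit 0x12a)) (.leaf (nat_lit 0xb6))) (.node 1 (.leaf (nat_lit 0xee)) (.leaf (nat_lit 0x12d)))))) (.node 8 (.node 4 (.node 2 (.node 1 (.leaf (nat_lit 0x12e)) (.leaf (nat_lit 0xb8))) (.node 1 (.leaf (nat_lit 0x131)) (.leaf (nat_lit 0x132)))) (.node 2 (.node 1 (.leaf (nat_lit 0xbb)) (.leaf (nat_lit 0xbc))) (.node 1 (.leaf (nat_lit 0x122)) (.leaf (nat_lit 0xf7))))) (.node 4 (.node 2 (.node 1 (.leaf (nat_lit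 0x136)) (.leaf (nat_lit 0x137))) (.node 1 (.leaf (nat_lit 0xc1)) (.leaf (nat_lit 0x13a)))) (.node 2 (.node 1 (.leaf (nat_lit 0x13c)) (.leaf (nat_lit 0xc4))) (.node 1 (.leaf (nat_lit 0xc5)) (.leaf (nat_lit 0xc7)))))))))

noncomputable def M1g7x2 : Tree :=
  (.node 64 (.node 32 (.node 16 (.node 8 (.node 4 (.node 2 (.node 1 (.leaf (nat_lit 0x13e)) (.leaf (nat_lit 0xc9))) (.node 1 (.leaf (nat_lit 0x106)) (.leaf (nat_lit 0x141)))) (.node 2 (.node 1 (.leaf (nat_lit 0x104)) (.leaf (nat_lit 0xce))) (.node 1 (.leaf (nat_lit 0x102)) (.leaf (nat_lit 0x107))))) (.node 4 (.node 2 (.node 1 (.leaf (nat_lit 0x108)) (.leaf (nat_lit 0x109))) (.node 1 (.leaf (nat_lit 0x149)) (.leaf (nat_lit 0x10b)))) (.node 2 (.node 1 (.leaf (nat_lit 0x10c)) (.leaf (nat_lit 0xe4))) (.node 1 (.leaf (nat_lit 0x10e)) (.leaf (nat_lit 0x150)))))) (.node 8 (.node 4 (.node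 2 (.node 1 (.leaf (nat_lit 0xd7)) (.leaf (nat_lit 0x111))) (.node 1 (.leaf (nat_lit 0x154)) (.leaf (nat_lit 0xd9)))) (.node 2 (.node 1 (.leaf (nat_lit 0x114)) (.leaf (nat_lit 0x157))) (.node 1 (.leaf (nat_lit 0x158)) (.leaf (nat_lit 0xdb))))) (.node 4 (.node 2 (.node 1 (.leaf (nat_lit 0x15b)) (.leaf (nat_lit 0x15d))) (.node 1 (.leaf (nat_lit 0xde)) (.leaf (nat_lit 0xdf)))) (.node 2 (.node 1 (.leaf (nat_lit 0x14c)) (.leaf (nat_lit 0x15f))) (.node 1 (.leaf (nat_lit 0xe1)) (.leaf (nat_lit 0x146))))))) (.node 16 (.node 8 (.node 4 (.node 2 (.node 1 (.leaf (nat_lit 0x120)) (.leaf (nat_lit 0x121))) (.node 1 (.leaf (nat_lit 0xf6)) (.leaf (nat_lit 0x123)))) (.node 2 (.node 1 (.leaf (nat_lit 0x167)) (.leaf (nat_lit 0x168))) (.node 1 (.leaf (nat_lit 0xe9)) (.leaf (nat_lit 0x127))))) (.node 4 (.node 2 (.node 1 (.leaf (nat_lit 0x16c)) (.leaf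 (nat_lit 0x16d))) (.node 1 (.leaf (nat_lit 0xec)) (.leaf (nat_lit 0x170)))) (.node 2 (.node 1 (.leaf (nat_lit 0x172)) (.leaf (nat_lit 0xef))) (.node 1 (.leaf (nat_lit 0xf0)) (.leaf (nat_lit 0x164)))))) (.node 8 (.node 4 (.node 2 (.node 1 (.leaf (nat_lit 0x174)) (.leaf (nat_lit 0xf2))) (.node 1 (.leaf (nat_lit 0xf3)) (.leaf (nat_lit 0x163)))) (.node 2 (.node 1 (.leaf (nat_lit 0x177)) (.leaf (nat_lit 0x179))) (.node 1 (.leaf (nat_lit 0xf8)) (.leaf (nat_lit 0xf9))))) (.node 4 (.node 2 (.node 1 (.leaf (nat_lit 0x17c)) (.leaf (nat_lit 0x17e))) (.node 1 (.leaf (nat_lit 0xfb)) (.leaf (nat_lit 0x17f)))) (.node 2 (.node 1 (.leaf (nat_lit 0xfc)) (.leaf (nat_lit 0x13d))) (.node 1 (.leaf (nat_lit 0x100)) (.leaf (nat_lit 0x142)))))))) (.node 32 (.node 16 (.node 8 (.node 4 (.node 2 (.node 1 (.leaf (nat_lit 0x182)) (.leaf (nat_lit 0x103))) (.node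 1 (.leaf (nat_lit 0x13f)) (.leaf (nat_lit 0x143)))) (.node 2 (.node 1 (.leaf (nat_lit 0x144)) (.leaf (nat_lit 0x145))) (.node 1 (.leaf (nat_lit 0x11f)) (.leaf (nat_lit 0x147))))) (.node 4 (.node 2 (.node 1 (.leaf (nat_lit 0x18c)) (.leaf (nat_lit 0x10a))) (.node 1 (.leaf (nat_lit 0x14a)) (.leaf (nat_lit 0x14b)))) (.node 2 (.node 1 (.leaf (nat_lit 0x11c)) (.leaf (nat_lit 0x14d))) (.node 1 (.leaf (nat_lit 0x193)) (.leaf (nat_lit 0x194)))))) (.node 8 (.node 4 (.node 2 (.node 1 (.leaf (nat_lit 0x10f)) (.leaf (nat_lit 0x151))) (.node 1 (.leaf (nat_lit 0x198)) (.leaf (nat_lit 0x199)))) (.node 2 (.node 1 (.leaf (nat_lit 0x112)) (.leaf (nat_lit 0x19c))) (.node 1 (.leaf (nat_lit 0x19e)) (.leaf (nat_lit 0x115))))) (.node 4 (.node 2 (.node 1 (.leaf (nat_lit 0x116)) (.leaf (nat_lit 0x190))) (.node 1 (.leaf (nat_lit 0x1a1)) (.leaf (nat_lit 0x118))))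 (.node 2 (.node 1 (.leaf (nat_lit 0x1a3)) (.leaf (nat_lit 0x119))) (.node 1 (.leaf (nat_lit 0x18f)) (.leaf (nat_lit 0x11d))))))) (.node 16 (.node 8 (.node 4 (.node 2 (.node 1 (.leaf (nat_lit 0x188)) (.leaf (nat_lit 0x161))) (.node 1 (.leaf (nat_lit 0x162)) (.leaf (nat_lit 0x133)))) (.node 2 (.node 1 (.leaf (nat_lit 0x12f)) (.leaf (nat_lit 0x1aa))) (.node 1 (.leaf (nat_lit 0x1ac)) (.leaf (nat_lit 0x124))))) (.node 4 (.node 2 (.node 1 (.leaf (nat_lit 0x125)) (.leaf (nat_lit 0x1af))) (.node 1 (.leaf (nat_lit 0x1b1)) (.leaf (nat_lit 0x1b3)))) (.node 2 (.node 1 (.leaf (nat_lit 0x128)) (.leaf (nat_lit 0x129))) (.node 1 (.leaf (nat_lit 0x1ae)) (.leaf (nat_lit 0x1b6)))))) (.node 8 (.node 4 (.node 2 (.node 1 (.leaf (nat_lit 0x12b)) (.leaf (nat_lit 0x1b8))) (.node 1 (.leaf (nat_lit 0x12c)) (.leaf (nat_lit 0x1a8)))) (.node 2 (.node 1 (.leaf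 (nat_lit 0x130)) (.leaf (nat_lit 0x1a7))) (.node 1 (.leaf (nat_lit 0x1bb)) (.leaf (nat_lit 0x134))))) (.node 4 (.node 2 (.node 1 (.leaf (nat_lit 0x1bd)) (.leaf (nat_lit 0x135))) (.node 1 (.leaf (nat_lit 0x1c0)) (.leaf (nat_lit 0x17b)))) (.node 2 (.node 1 (.leaf (nat_lit 0x138)) (.leaf (nat_lit 0x1c3))) (.node 1 (.leaf (nat_lit 0x139)) (.leaf (nat_lit 0x13b)))))))))

noncomputable def M1g7x3 : Tree :=
  (.node 64 (.node 32 (.node 16 (.node 8 (.node 4 (.node 2 (.node 1 (.leaf (nat_lit 0x180)) (.leaf (nat_lit 0x184))) (.node 1 (.leaf (nat_lit 0x140)) (.leaf (nat_lit 0x1c8)))) (.node 2 (.node 1 (.leaf (nat_lit 0x181)) (.leaf (nat_lit 0x185))) (.node 1 (.leaf (nat_lit 0x186)) (.leaf (nat_lit 0x187))))) (.node 4 (.node 2 (.node 1 (.leaf (nat_lit 0x160)) (.leaf (nat_lit 0x189))) (.node 1 (.leaf (nat_lit 0x1d0)) (.leaf (nat_lit 0x1d1))))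 (.node 2 (.node 1 (.leaf (nat_lit 0x148)) (.leaf (nat_lit 0x18d))) (.node 1 (.leaf (nat_lit 0x18e)) (.leaf (nat_lit 0x15e)))))) (.node 8 (.node 4 (.node 2 (.node 1 (.leaf (nat_lit 0x159)) (.leaf (nat_lit 0x1d7))) (.node 1 (.leaf (nat_lit 0x1d9)) (.leaf (nat_lit 0x14e)))) (.node 2 (.node 1 (.leaf (nat_lit 0x14f)) (.leaf (nat_lit 0x1dc))) (.node 1 (.leaf (nat_lit 0x1de)) (.leaf (nat_lit 0x1e0))))) (.node 4 (.node 2 (.node 1 (.leaf (nat_lit 0x152)) (.leaf (nat_lit 0x153))) (.node 1 (.leaf (nat_lit 0x1db)) (.leaf (nat_lit 0x1e3)))) (.node 2 (.node 1 (.leaf (nat_lit 0x155)) (.leaf (nat_lit 0x1e5))) (.node 1 (.leaf (nat_lit 0x156)) (.leaf (nat_lit 0x1d5))))))) (.node 16 (.node 8 (.node 4 (.node 2 (.node 1 (.leaf (nat_lit 0x1e7)) (.leaf (nat_lit 0x15a))) (.node 1 (.leaf (nat_lit 0x1d4)) (.leaf (nat_lit 0x15c)))) (.node 2 (.node 1 (.leaf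 (nat_lit 0x1cc)) (.leaf (nat_lit 0x1cd))) (.node 1 (.leaf (nat_lit 0x1a6)) (.leaf (nat_lit 0x175))))) (.node 4 (.node 2 (.node 1 (.leaf (nat_lit 0x173)) (.leaf (nat_lit 0x1ee))) (.node 1 (.leaf (nat_lit 0x165)) (.leaf (nat_lit 0x1f0)))) (.node 2 (.node 1 (.leaf (nat_lit 0x166)) (.leaf (nat_lit 0x1f3))) (.node 1 (.leaf (nat_lit 0x16e)) (.leaf (nat_lit 0x169)))))) (.node 8 (.node 4 (.node 2 (.node 1 (.leaf (nat_lit 0x1f5)) (.leaf (nat_lit 0x16a))) (.node 1 (.leaf (nat_lit 0x1f7)) (.leaf (nat_lit 0x16b)))) (.node 2 (.node 1 (.leaf (nat_lit 0x1f2)) (.leaf (nat_lit 0x1fa))) (.node 1 (.leaf (nat_lit 0x16f)) (.leaf (nat_lit 0x1eb))))) (.node 4 (.node 2 (.node 1 (.leaf (nat_lit 0x171)) (.leaf (nat_lit 0x1ec))) (.node 1 (.leaf (nat_lit 0x1fd)) (.leaf (nat_lit 0x176)))) (.node 2 (.node 1 (.leaf (nat_lit 0x200)) (.leaf (nat_lit 0x178))) (.node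 1 (.leaf (nat_lit 0x202)) (.leaf (nat_lit 0x1bf)))))))) (.node 32 (.node 16 (.node 8 (.node 4 (.node 2 (.node 1 (.leaf (nat_lit 0x17a)) (.leaf (nat_lit 0x1c1))) (.node 1 (.leaf (nat_lit 0x206)) (.leaf (nat_lit 0x17d)))) (.node 2 (.node 1 (.leaf (nat_lit 0x1c4)) (.leaf (nat_lit 0x1c5))) (.node 1 (.leaf (nat_lit 0x1c6)) (.leaf (nat_lit 0x1c7))))) (.node 4 (.node 2 (.node 1 (.leaf (nat_lit 0x183)) (.leaf (nat_lit 0x1c9))) (.node 1 (.leaf (nat_lit 0x1ca)) (.leaf (nat_lit 0x1cb)))) (.node 2 (.node 1 (.leaf (nat_lit 0x1a4)) (.leaf (nat_lit 0x1a5))) (.node 1 (.leaf (nat_lit 0x20f)) (.leaf (nat_lit 0x211)))))) (.node 8 (.node 4 (.node 2 (.node 1 (.leaf (nat_lit 0x18a)) (.leaf (nat_lit 0x18b))) (.node 1 (.leaf (nat_lit 0x214)) (.leaf (nat_lit 0x1d3)))) (.node 2 (.node 1 (.leaf (nat_lit 0x1a2)) (.leaf (nat_lit 0x19f))) (.node 1 (.leaf (nat_lit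 0x218)) (.leaf (nat_lit 0x191))))) (.node 4 (.node 2 (.node 1 (.leaf (nat_lit 0x21a)) (.leaf (nat_lit 0x192))) (.node 1 (.leaf (nat_lit 0x21d)) (.leaf (nat_lit 0x19a)))) (.node 2 (.node 1 (.leaf (nat_lit 0x195)) (.leaf (nat_lit 0x21f))) (.node 1 (.leaf (nat_lit 0x196)) (.leaf (nat_lit 0x221))))))) (.node 16 (.node 8 (.node 4 (.node 2 (.node 1 (.leaf (nat_lit 0x197)) (.leaf (nat_lit 0x21c))) (.node 1 (.leaf (nat_lit 0x224)) (.leaf (nat_lit 0x19b)))) (.node 2 (.node 1 (.leaf (nat_lit 0x215)) (.leaf (nat_lit 0x19d))) (.node 1 (.leaf (nat_lit 0x216)) (.leaf (nat_lit 0x1a0))))) (.node 4 (.node 2 (.node 1 (.leaf (nat_lit 0x20c)) (.leaf (nat_lit 0x20d))) (.node 1 (.leaf (nat_lit 0x1ea)) (.leaf (nat_lit 0x1b7)))) (.node 2 (.node 1 (.leaf (nat_lit 0x1b9)) (.leaf (nat_lit 0x22b))) (.node 1 (.leaf (nat_lit 0x1a9)) (.leaf (nat_lit 0x22e))))))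 (.node 8 (.node 4 (.node 2 (.node 1 (.leaf (nat_lit 0x1ab)) (.leaf (nat_lit 0x230))) (.node 1 (.leaf (nat_lit 0x1b4)) (.leaf (nat_lit 0x1ad)))) (.node 2 (.node 1 (.leaf (nat_lit 0x233)) (.leaf (nat_lit 0x1b0))) (.node 1 (.leaf (nat_lit 0x22d)) (.leaf (nat_lit 0x1b2))))) (.node 4 (.node 2 (.node 1 (.leaf (nat_lit 0x22f)) (.leaf (nat_lit 0x236))) (.node 1 (.leaf (nat_lit 0x1b5)) (.leaf (nat_lit 0x229)))) (.node 2 (.node 1 (.leaf (nat_lit 0x238)) (.leaf (nat_lit 0x1ba))) (.node 1 (.leaf (nat_lit 0x23b)) (.leaf (nat_lit 0x1ff)))))))))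

noncomputable def M1g7x4 : Tree :=
  (.node 64 (.node 32 (.node 16 (.node 8 (.node 4 (.node 2 (.node 1 (.leaf (nat_lit 0x1bc)) (.leaf (nat_lit 0x201))) (.node 1 (.leaf (nat_lit 0x1be)) (.leaf (nat_lit 0x240)))) (.node 2 (.node 1 (.leaf (nat_lit 0x204)) (.leaf (nat_lit 0x205))) (.node 1 (.leaf (nat_lit 0x1c2)) (.leaf (nat_lit 0x207))))) (.node 4 (.node 2 (.node 1 (.leaf (nat_lit 0x208)) (.leaf (nat_lit 0x209))) (.node 1 (.leaf (nat_lit 0x20a)) (.leaf (nat_lit 0x20b)))) (.node 2 (.node 1 (.leaf (nat_lit 0x1e8)) (.leaf (nat_lit 0x1e9))) (.node 1 (.leaf (nat_lit 0x24b)) (.leaf (nat_lit 0x1ce)))))) (.node 8 (.node 4 (.node 2 (.node 1 (.leaf (nat_lit 0x24d)) (.leaf (nat_lit 0x1cf))) (.node 1 (.leaf (nat_lit 0x250)) (.leaf (nat_lit 0x213)))) (.node 2 (.node 1 (.leaf (nat_lit 0x1d2)) (.leaf (nat_lit 0x1e4))) (.node 1 (.leaf (nat_lit 0x1e6))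 (.leaf (nat_lit 0x254))))) (.node 4 (.node 2 (.node 1 (.leaf (nat_lit 0x1d6)) (.leaf (nat_lit 0x257))) (.node 1 (.leaf (nat_lit 0x1d8)) (.leaf (nat_lit 0x259)))) (.node 2 (.node 1 (.leaf (nat_lit 0x1e1)) (.leaf (nat_lit 0x1da))) (.node 1 (.leaf (nat_lit 0x25c)) (.leaf (nat_lit 0x1dd))))))) (.node 16 (.node 8 (.node 4 (.node 2 (.node 1 (.leaf (nat_lit 0x256)) (.leaf (nat_lit 0x1df))) (.node 1 (.leaf (nat_lit 0x258)) (.leaf (nat_lit 0x25f)))) (.node 2 (.node 1 (.leaf (nat_lit 0x1e2)) (.leaf (nat_lit 0x252))) (.node 1 (.leaf (nat_lit 0x249)) (.leaf (nat_lit 0x248))))) (.node 4 (.node 2 (.node 1 (.leaf (nat_lit 0x228)) (.leaf (nat_lit 0x1fb))) (.node 1 (.leaf (nat_lit 0x265)) (.leaf (nat_lit 0x1ed)))) (.node 2 (.node 1 (.leaf (nat_lit 0x268)) (.leaf (nat_lit 0x1f6))) (.node 1 (.leaf (nat_lit 0x1ef)) (.leaf (nat_lit 0x1f8)))))) (.node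 8 (.node 4 (.node 2 (.node 1 (.leaf (nat_lit 0x1f1)) (.leaf (nat_lit 0x26b))) (.node 1 (.leaf (nat_lit 0x26c)) (.leaf (nat_lit 0x1f4)))) (.node 2 (.node 1 (.leaf (nat_lit 0x267)) (.leaf (nat_lit 0x26a))) (.node 1 (.leaf (nat_lit 0x1f9)) (.leaf (nat_lit 0x264))))) (.node 4 (.node 2 (.node 1 (.leaf (nat_lit 0x1fc)) (.leaf (nat_lit 0x270))) (.node 1 (.leaf (nat_lit 0x23a)) (.leaf (nat_lit 0x1fe)))) (.node 2 (.node 1 (.leaf (nat_lit 0x274)) (.leaf (nat_lit 0x23d))) (.node 1 (.leaf (nat_lit 0x23e)) (.leaf (nat_lit 0x23f)))))))) (.node 32 (.node 16 (.node 8 (.node 4 (.node 2 (.node 1 (.leaf (nat_lit 0x203)) (.leaf (nat_lit 0x241))) (.node 1 (.leaf (nat_lit 0x242)) (.leaf (nat_lit 0x243)))) (.node 2 (.node 1 (.leaf (nat_lit 0x244)) (.leaf (nat_lit 0x245))) (.node 1 (.leaf (nat_lit 0x246)) (.leaf (nat_lit 0x247))))) (.node 4 (.node 2 (.node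 1 (.leaf (nat_lit 0x227)) (.leaf (nat_lit 0x226))) (.node 1 (.leaf (nat_lit 0x27b)) (.leaf (nat_lit 0x20e)))) (.node 2 (.node 1 (.leaf (nat_lit 0x27e)) (.leaf (nat_lit 0x210))) (.node 1 (.leaf (nat_lit 0x280)) (.leaf (nat_lit 0x24f)))))) (.node 8 (.node 4 (.node 2 (.node 1 (.leaf (nat_lit 0x212)) (.leaf (nat_lit 0x251))) (.node 1 (.leaf (nat_lit 0x225)) (.leaf (nat_lit 0x285)))) (.node 2 (.node 1 (.leaf (nat_lit 0x217)) (.leaf (nat_lit 0x288))) (.node 1 (.leaf (nat_lit 0x220)) (.leaf (nat_lit 0x219))))) (.node 4 (.node 2 (.node 1 (.leaf (nat_lit 0x222)) (.leaf (nat_lit 0x21b))) (.node 1 (.leaf (nat_lit 0x28b)) (.leaf (nat_lit 0x28d)))) (.node 2 (.node 1 (.leaf (nat_lit 0x21e)) (.leaf (nat_lit 0x287))) (.node 1 (.leaf (nat_lit 0x28a)) (.leaf (nat_lit 0x223))))))) (.node 16 (.node 8 (.node 4 (.node 2 (.node 1 (.leaf (nat_lit 0x284))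 (.leaf (nat_lit 0x279))) (.node 1 (.leaf (nat_lit 0x262)) (.leaf (nat_lit 0x263)))) (.node 2 (.node 1 (.leaf (nat_lit 0x237)) (.leaf (nat_lit 0x22a))) (.node 1 (.leaf (nat_lit 0x293)) (.leaf (nat_lit 0x234))))) (.node 4 (.node 2 (.node 1 (.leaf (nat_lit 0x22c)) (.leaf (nat_lit 0x296))) (.node 1 (.leaf (nat_lit 0x235)) (.leaf (nat_lit 0x231)))) (.node 2 (.node 1 (.leaf (nat_lit 0x232)) (.leaf (nat_lit 0x292))) (.node 1 (.leaf (nat_lit 0x295)) (.leaf (nat_lit 0x26f)))))) (.node 8 (.node 4 (.node 2 (.node 1 (.leaf (nat_lit 0x239)) (.leaf (nat_lit 0x29a))) (.node 1 (.leaf (nat_lit 0x272)) (.leaf (nat_lit 0x273)))) (.node 2 (.node 1 (.leaf (nat_lit 0x23c)) (.leaf (nat_lit 0x275))) (.node 1 (.leaf (nat_lit 0x276)) (.leaf (nat_lit 0x277))))) (.node 4 (.node 2 (.node 1 (.leaf (nat_lit 0x278)) (.leaf (nat_lit 0x261))) (.node 1 (.leaf (nat_lit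 0x2a0)) (.leaf (nat_lit 0x24a)))) (.node 2 (.node 1 (.leaf (nat_lit 0x2a3)) (.leaf (nat_lit 0x27d))) (.node 1 (.leaf (nat_lit 0x24c)) (.leaf (nat_lit 0x27f)))))))))

noncomputable def M1g7x5 : Tree :=
  (.node 44 (.node 22 (.node 11 (.node 5 (.node 2 (.node 1 (.leaf (nat_lit 0x24e)) (.leaf (nat_lit 0x2a8))) (.node 1 (.leaf (nat_lit 0x282)) (.node 1 (.leaf (nat_lit 0x283)) (.leaf (nat_lit 0x260))))) (.node 3 (.node 1 (.leaf (nat_lit 0x253)) (.node 1 (.leaf (nat_lit 0x2ad)) (.leaf (nat_lit 0x25d)))) (.node 1 (.leaf (nat_lit 0x255)) (.node 1 (.leaf (nat_lit 0x2b0)) (.leaf (nat_lit 0x25e)))))) (.node 5 (.node 2 (.node 1 (.leaf (nat_lit 0x25a)) (.leaf (nat_lit 0x28c))) (.node 1 (.leaf (nat_lit 0x25b)) (.node 1 (.leaf (nat_lit 0x2ac)) (.leaf (nat_lit 0x2af))))) (.node 3 (.node 1 (.leaf (nat_lit 0x29f)) (.node 1 (.leaf (nat_lit 0x291))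 (.leaf (nat_lit 0x26d)))) (.node 1 (.leaf (nat_lit 0x266)) (.node 1 (.leaf (nat_lit 0x2b5)) (.leaf (nat_lit 0x26e))))))) (.node 11 (.node 5 (.node 2 (.node 1 (.leaf (nat_lit 0x269)) (.leaf (nat_lit 0x2b4))) (.node 1 (.leaf (nat_lit 0x298)) (.node 1 (.leaf (nat_lit 0x299)) (.leaf (nat_lit 0x271))))) (.node 3 (.node 1 (.leaf (nat_lit 0x2b9)) (.node 1 (.leaf (nat_lit 0x29c)) (.leaf (nat_lit 0x29d)))) (.node 1 (.leaf (nat_lit 0x29e)) (.node 1 (.leaf (nat_lit 0x290)) (.leaf (nat_lit 0x27a)))))) (.node 5 (.node 2 (.node 1 (.leaf (nat_lit 0x2bd)) (.leaf (nat_lit 0x2a2))) (.node 1 (.leaf (nat_lit 0x27c)) (.node 1 (.leaf (nat_lit 0x2c1)) (.leaf (nat_lit 0x2a5))))) (.node 3 (.node 1 (.leaf (nat_lit 0x2a6)) (.node 1 (.leaf (nat_lit 0x2a7)) (.leaf (nat_lit 0x281)))) (.node 1 (.leaf (nat_lit 0x2a9)) (.node 1 (.leaf (nat_lit 0x2aa)) (.leaf (nat_lit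 0x2ab)))))))) (.node 22 (.node 11 (.node 5 (.node 2 (.node 1 (.leaf (nat_lit 0x28e)) (.leaf (nat_lit 0x286))) (.node 1 (.leaf (nat_lit 0x2c5)) (.node 1 (.leaf (nat_lit 0x28f)) (.leaf (nat_lit 0x289))))) (.node 3 (.node 1 (.leaf (nat_lit 0x2b1)) (.node 1 (.leaf (nat_lit 0x2c4)) (.leaf (nat_lit 0x2b3)))) (.node 1 (.leaf (nat_lit 0x297)) (.node 1 (.leaf (nat_lit 0x294)) (.leaf (nat_lit 0x2ca)))))) (.node 5 (.node 2 (.node 1 (.leaf (nat_lit 0x2c9)) (.leaf (nat_lit 0x2b8))) (.node 1 (.leaf (nat_lit 0x29b)) (.node 1 (.leaf (nat_lit 0x2ba)) (.leaf (nat_lit 0x2bb))))) (.node 3 (.node 1 (.leaf (nat_lit 0x2bc)) (.node 1 (.leaf (nat_lit 0x2a1)) (.leaf (nat_lit 0x2ce)))) (.node 1 (.leaf (nat_lit 0x2bf)) (.node 1 (.leaf (nat_lit 0x2c0)) (.leaf (nat_lit 0x2a4))))))) (.node 11 (.node 5 (.node 2 (.node 1 (.leaf (nat_lit 0x2c2)) (.leaf (nat_lit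 0x2c3))) (.node 1 (.leaf (nat_lit 0x2b2)) (.node 1 (.leaf (nat_lit 0x2ae)) (.leaf (nat_lit 0x2d2))))) (.node 3 (.node 1 (.leaf (nat_lit 0x2c7)) (.node 1 (.leaf (nat_lit 0x2d1)) (.leaf (nat_lit 0x2b7)))) (.node 1 (.leaf (nat_lit 0x2b6)) (.node 1 (.leaf (nat_lit 0x2cb)) (.leaf (nat_lit 0x2cc)))))) (.node 5 (.node 2 (.node 1 (.leaf (nat_lit 0x2cd)) (.leaf (nat_lit 0x2be))) (.node 1 (.leaf (nat_lit 0x2d5)) (.node 1 (.leaf (nat_lit 0x2d0)) (.leaf (nat_lit 0x2c8))))) (.node 3 (.node 1 (.leaf (nat_lit 0x2c6)) (.node 1 (.leaf (nat_lit 0x2d3)) (.leaf (nat_lit 0x2d4)))) (.node 1 (.leaf (nat_lit 0x2cf)) (.node 1 (.leaf (nat_lit 0x2d6)) (.leaf (nat_lit 0x2d7)))))))))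

noncomputable def M1g7x : Tree :=
  (.node 384 (.node 128 M1g7x0 (.node 128 M1g7x1 M1g7x2)) (.node 128 M1g7x3 (.node 128 M1g7x4 M1g7x5)))

noncomputable def M1g11x0 : Tree :=
  (.node 64 (.node 32 (.node 16 (.node 8 (.node 4 (.node 2 (.node 1 (.leaf (nat_lit 0)) (.leaf (nat_lit 1))) (.node 1 (.leaf (nat_lit 2)) (.leaf (nat_lit 3)))) (.node 2 (.node 1 (.leaf (nat_lit 6)) (.leaf (nat_lit 8))) (.node 1 (.leaf (nat_lit 4)) (.leaf (nat_lit 0xa))))) (.node 4 (.node 2 (.node 1 (.leaf (nat_lit 5)) (.leaf (nat_lit 9))) (.node 1 (.leaf (nat_lit 7)) (.leaf (nat_lit 0xb)))) (.node 2 (.node 1 (.leaf (nat_lit 0xc)) (.leaf (nat_lit 0xd))) (.node 1 (.leaf (nat_lit 0xe)) (.leaf (nat_lit 0xf)))))) (.node 8 (.node 4 (.node 2 (.node 1 (.leaf (nat_lit 0x16)) (.leaf (nat_lit 0x11))) (.node 1 (.leaf (nat_lit 0x12)) (.leaf (nat_lit 0x1b)))) (.node 2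 (.node 1 (.leaf (nat_lit 0x14)) (.leaf (nat_lit 0x1e))) (.node 1 (.leaf (nat_lit 0x10)) (.leaf (nat_lit 0x17))))) (.node 4 (.node 2 (.node 1 (.leaf (nat_lit 0x18)) (.leaf (nat_lit 0x24))) (.node 1 (.leaf (nat_lit 0x25)) (.leaf (nat_lit 0x13)))) (.node 2 (.node 1 (.leaf (nat_lit 0x1c)) (.leaf (nat_lit 0x27))) (.node 1 (.leaf (nat_lit 0x15)) (.leaf (nat_lit 0x1f))))))) (.node 16 (.node 8 (.node 4 (.node 2 (.node 1 (.leaf (nat_lit 0x20)) (.leaf (nat_lit 0x2d))) (.node 1 (.leaf (nat_lit 0x2e)) (.leaf (nat_lit 0x30)))) (.node 2 (.node 1 (.leaf (nat_lit 0x19)) (.leaf (nat_lit 0x1a))) (.node 1 (.leaf (nat_lit 0x33)) (.leaf (nat_lit 0x1d))))) (.node 4 (.node 2 (.node 1 (.leaf (nat_lit 0x28)) (.leaf (nat_lit 0x29))) (.node 1 (.leaf (nat_lit 0x38)) (.leaf (nat_lit 0x3a)))) (.node 2 (.node 1 (.leaf (nat_lit 0x3c)) (.leaf (nat_lit 0x21)))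 (.node 1 (.leaf (nat_lit 0x22)) (.leaf (nat_lit 0x3f)))))) (.node 8 (.node 4 (.node 2 (.node 1 (.leaf (nat_lit 0x23)) (.leaf (nat_lit 0x31))) (.node 1 (.leaf (nat_lit 0x32)) (.leaf (nat_lit 0x26)))) (.node 2 (.node 1 (.leaf (nat_lit 0x34)) (.leaf (nat_lit 0x35))) (.node 1 (.leaf (nat_lit 0x48)) (.leaf (nat_lit 0x4a))))) (.node 4 (.node 2 (.node 1 (.leaf (nat_lit 0x2a)) (.leaf (nat_lit 0x4c))) (.node 1 (.leaf (nat_lit 0x2b)) (.leaf (nat_lit 0x4f)))) (.node 2 (.node 1 (.leaf (nat_lit 0x2c)) (.leaf (nat_lit 0x3d))) (.node 1 (.leaf (nat_lit 0x53)) (.leaf (nat_lit 0x2f)))))))) (.node 32 (.node 16 (.node 8 (.node 4 (.node 2 (.node 1 (.leaf (nat_lit 0x54)) (.leaf (nat_lit 0x41))) (.node 1 (.leaf (nat_lit 0x42)) (.leaf (nat_lit 0x43)))) (.node 2 (.node 1 (.leaf (nat_lit 0x44)) (.leaf (nat_lit 0x45))) (.node 1 (.leaf (nat_lit 0x46)) (.leaf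 (nat_lit 0x5e))))) (.node 4 (.node 2 (.node 1 (.leaf (nat_lit 0x36)) (.leaf (nat_lit 0x61))) (.node 1 (.leaf (nat_lit 0x37)) (.leaf (nat_lit 0x4b)))) (.node 2 (.node 1 (.leaf (nat_lit 0x39)) (.leaf (nat_lit 0x67))) (.node 1 (.leaf (nat_lit 0x68)) (.leaf (nat_lit 0x3b)))))) (.node 8 (.node 4 (.node 2 (.node 1 (.leaf (nat_lit 0x69)) (.leaf (nat_lit 0x51))) (.node 1 (.leaf (nat_lit 0x52)) (.leaf (nat_lit 0x3e)))) (.node 2 (.node 1 (.leaf (nat_lit 0x40)) (.leaf (nat_lit 0x6f))) (.node 1 (.leaf (nat_lit 0x70)) (.leaf (nat_lit 0x57))))) (.node 4 (.node 2 (.node 1 (.leaf (nat_lit 0x58)) (.leaf (nat_lit 0x59))) (.node 1 (.leaf (nat_lit 0x5a)) (.leaf (nat_lit 0x5b)))) (.node 2 (.node 1 (.leaf (nat_lit 0x5c)) (.leaf (nat_lit 0x7a))) (.node 1 (.leaf (nat_lit 0x47)) (.leaf (nat_lit 0x7e))))))) (.node 16 (.node 8 (.node 4 (.node 2 (.node 1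 (.leaf (nat_lit 0x7f)) (.leaf (nat_lit 0x49))) (.node 1 (.leaf (nat_lit 0x80)) (.leaf (nat_lit 0x63)))) (.node 2 (.node 1 (.leaf (nat_lit 0x64)) (.leaf (nat_lit 0x65))) (.node 1 (.leaf (nat_lit 0x88)) (.leaf (nat_lit 0x4d))))) (.node 4 (.node 2 (.node 1 (.leaf (nat_lit 0x4e)) (.leaf (nat_lit 0x50))) (.node 1 (.leaf (nat_lit 0x8b)) (.leaf (nat_lit 0x8c)))) (.node 2 (.node 1 (.leaf (nat_lit 0x6c)) (.leaf (nat_lit 0x6d))) (.node 1 (.leaf (nat_lit 0x6e)) (.leaf (nat_lit 0x55)))))) (.node 8 (.node 4 (.node 2 (.node 1 (.leaf (nat_lit 0x56)) (.leaf (nat_lit 0x94))) (.node 1 (.leaf (nat_lit 0x95)) (.leaf (nat_lit 0x96)))) (.node 2 (.node 1 (.leaf (nat_lit 0x74)) (.leaf (nat_lit 0x75))) (.node 1 (.leaf (nat_lit 0x76)) (.leaf (nat_lit 0x77))))) (.node 4 (.node 2 (.node 1 (.leaf (nat_lit 0x9e)) (.leaf (nat_lit 0x79))) (.node 1 (.leaf (nat_lit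 0x5d)) (.leaf (nat_lit 0xa1)))) (.node 2 (.node 1 (.leaf (nat_lit 0x7c)) (.leaf (nat_lit 0xa4))) (.node 1 (.leaf (nat_lit 0x5f)) (.leaf (nat_lit 0x60)))))))))

noncomputable def M1g11x1 : Tree :=
  (.node 64 (.node 32 (.node 16 (.node 8 (.node 4 (.node 2 (.node 1 (.leaf (nat_lit 0x62)) (.leaf (nat_lit 0xa7))) (.node 1 (.leaf (nat_lit 0xa8)) (.leaf (nat_lit 0x83)))) (.node 2 (.node 1 (.leaf (nat_lit 0x84)) (.leaf (nat_lit 0x85))) (.node 1 (.leaf (nat_lit 0x86)) (.leaf (nat_lit 0xb1))))) (.node 4 (.node 2 (.node 1 (.leaf (nat_lit 0x66)) (.leaf (nat_lit 0x89))) (.node 1 (.leaf (nat_lit 0x8a)) (.leaf (nat_lit 0x6a)))) (.node 2 (.node 1 (.leaf (nat_lit 0x6b)) (.leaf (nat_lit 0xb7))) (.node 1 (.leaf (nat_lit 0xb8)) (.leaf (nat_lit 0xb9)))))) (.node 8 (.node 4 (.node 2 (.node 1 (.leaf (nat_lit 0xbf)) (.leaf (nat_lit 0x91))) (.node 1 (.leaf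 (nat_lit 0x92)) (.leaf (nat_lit 0x93)))) (.node 2 (.node 1 (.leaf (nat_lit 0x71)) (.leaf (nat_lit 0x72))) (.node 1 (.leaf (nat_lit 0x73)) (.leaf (nat_lit 0xc3))))) (.node 4 (.node 2 (.node 1 (.leaf (nat_lit 0xc4)) (.leaf (nat_lit 0xc6))) (.node 1 (.leaf (nat_lit 0x9a)) (.leaf (nat_lit 0xcc)))) (.node 2 (.node 1 (.leaf (nat_lit 0x9c)) (.leaf (nat_lit 0xb0))) (.node 1 (.leaf (nat_lit 0x78)) (.leaf (nat_lit 0x9f))))))) (.node 16 (.node 8 (.node 4 (.node 2 (.node 1 (.leaf (nat_lit 0xd0)) (.leaf (nat_lit 0x7b))) (.node 1 (.leaf (nat_lit 0xa2)) (.leaf (nat_lit 0xd4)))) (.node 2 (.node 1 (.leaf (nat_lit 0x7d)) (.leaf (nat_lit 0xa5))) (.node 1 (.leaf (nat_lit 0xa6)) (.leaf (nat_lit 0x81))))) (.node 4 (.node 2 (.node 1 (.leaf (nat_lit 0x82)) (.leaf (nat_lit 0xda))) (.node 1 (.leaf (nat_lit 0xdb)) (.leaf (nat_lit 0xdc)))) (.node 2 (.node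 1 (.leaf (nat_lit 0xac)) (.leaf (nat_lit 0xe4))) (.node 1 (.leaf (nat_lit 0xae)) (.leaf (nat_lit 0xaf)))))) (.node 8 (.node 4 (.node 2 (.node 1 (.leaf (nat_lit 0x9d)) (.leaf (nat_lit 0x87))) (.node 1 (.leaf (nat_lit 0xe5)) (.leaf (nat_lit 0xb3)))) (.node 2 (.node 1 (.leaf (nat_lit 0xb4)) (.leaf (nat_lit 0xb5))) (.node 1 (.leaf (nat_lit 0xb6)) (.leaf (nat_lit 0x8d))))) (.node 4 (.node 2 (.node 1 (.leaf (nat_lit 0x8e)) (.leaf (nat_lit 0x8f))) (.node 1 (.leaf (nat_lit 0xee)) (.leaf (nat_lit 0xef)))) (.node 2 (.node 1 (.leaf (nat_lit 0xf6)) (.leaf (nat_lit 0xf1))) (.node 1 (.leaf (nat_lit 0xe7)) (.leaf (nat_lit 0x90)))))))) (.node 32 (.node 16 (.node 8 (.node 4 (.node 2 (.node 1 (.leaf (nat_lit 0xc0)) (.leaf (nat_lit 0xc1))) (.node 1 (.leaf (nat_lit 0xc2)) (.leaf (nat_lit 0x97)))) (.node 2 (.node 1 (.leaf (nat_lit 0x98)) (.leaf (nat_lit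 0xc5))) (.node 1 (.leaf (nat_lit 0x99)) (.leaf (nat_lit 0xfb))))) (.node 4 (.node 2 (.node 1 (.leaf (nat_lit 0xfd)) (.leaf (nat_lit 0x102))) (.node 1 (.leaf (nat_lit 0xca)) (.leaf (nat_lit 0xd3)))) (.node 2 (.node 1 (.leaf (nat_lit 0x9b)) (.leaf (nat_lit 0xcd))) (.node 1 (.leaf (nat_lit 0xce)) (.leaf (nat_lit 0x107)))))) (.node 8 (.node 4 (.node 2 (.node 1 (.leaf (nat_lit 0xa0)) (.leaf (nat_lit 0xd1))) (.node 1 (.leaf (nat_lit 0xd2)) (.leaf (nat_lit 0xcb)))) (.node 2 (.node 1 (.leaf (nat_lit 0xa3)) (.leaf (nat_lit 0x10b))) (.node 1 (.leaf (nat_lit 0xd6)) (.leaf (nat_lit 0xd7))))) (.node 4 (.node 2 (.node 1 (.leaf (nat_lit 0xd8)) (.leaf (nat_lit 0xd9))) (.node 1 (.leaf (nat_lit 0xa9)) (.leaf (nat_lit 0xaa)))) (.node 2 (.node 1 (.leaf (nat_lit 0xab)) (.leaf (nat_lit 0x114))) (.node 1 (.leaf (nat_lit 0x115)) (.leaf (nat_lit 0x11c)))))))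 (.node 16 (.node 8 (.node 4 (.node 2 (.node 1 (.leaf (nat_lit 0x117)) (.leaf (nat_lit 0x11f))) (.node 1 (.leaf (nat_lit 0xe2)) (.leaf (nat_lit 0x10d)))) (.node 2 (.node 1 (.leaf (nat_lit 0xad)) (.leaf (nat_lit 0xb2))) (.node 1 (.leaf (nat_lit 0x120)) (.leaf (nat_lit 0xbe))))) (.node 4 (.node 2 (.node 1 (.leaf (nat_lit 0xe8)) (.leaf (nat_lit 0xe9))) (.node 1 (.leaf (nat_lit 0xea)) (.leaf (nat_lit 0xeb)))) (.node 2 (.node 1 (.leaf (nat_lit 0xec)) (.leaf (nat_lit 0xed))) (.node 1 (.leaf (nat_lit 0xba)) (.leaf (nat_lit 0xbb)))))) (.node 8 (.node 4 (.node 2 (.node 1 (.leaf (nat_lit 0x12f)) (.leaf (nat_lit 0xbd))) (.node 1 (.leaf (nat_lit 0x12b)) (.leaf (nat_lit 0x133)))) (.node 2 (.node 1 (.leaf (nat_lit 0x12d)) (.leaf (nat_lit 0x122))) (.node 1 (.leaf (nat_lit 0xbc)) (.leaf (nat_lit 0xf7))))) (.node 4 (.node 2 (.node 1 (.leaf (nat_lit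 0xf8)) (.leaf (nat_lit 0x138))) (.node 1 (.leaf (nat_lit 0xfa)) (.leaf (nat_lit 0xc7)))) (.node 2 (.node 1 (.leaf (nat_lit 0xfc)) (.leaf (nat_lit 0xc8))) (.node 1 (.leaf (nat_lit 0xfe)) (.leaf (nat_lit 0x13a)))))))))

noncomputable def M1g11x2 : Tree :=
  (.node 64 (.node 32 (.node 16 (.node 8 (.node 4 (.node 2 (.node 1 (.leaf (nat_lit 0x13f)) (.leaf (nat_lit 0x106))) (.node 1 (.leaf (nat_lit 0xc9)) (.leaf (nat_lit 0x103)))) (.node 2 (.node 1 (.leaf (nat_lit 0x143)) (.leaf (nat_lit 0x105))) (.node 1 (.leaf (nat_lit 0x101)) (.leaf (nat_lit 0xcf))))) (.node 4 (.node 2 (.node 1 (.leaf (nat_lit 0x144)) (.leaf (nat_lit 0x109))) (.node 1 (.leaf (nat_lit 0x10a)) (.leaf (nat_lit 0xd5)))) (.node 2 (.node 1 (.leaf (nat_lit 0x14a)) (.leaf (nat_lit 0xe3))) (.node 1 (.leaf (nat_lit 0x10e)) (.leaf (nat_lit 0x10f)))))) (.node 8 (.node 4 (.node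 2 (.node 1 (.leaf (nat_lit 0x110)) (.leaf (nat_lit 0x111))) (.node 1 (.leaf (nat_lit 0x112)) (.leaf (nat_lit 0x113)))) (.node 2 (.node 1 (.leaf (nat_lit 0xdd)) (.leaf (nat_lit 0xde))) (.node 1 (.leaf (nat_lit 0x159)) (.leaf (nat_lit 0xe0))))) (.node 4 (.node 2 (.node 1 (.leaf (nat_lit 0x155)) (.leaf (nat_lit 0x15e))) (.node 1 (.leaf (nat_lit 0x157)) (.leaf (nat_lit 0x14c)))) (.node 2 (.node 1 (.leaf (nat_lit 0xdf)) (.leaf (nat_lit 0x160))) (.node 1 (.leaf (nat_lit 0x146)) (.leaf (nat_lit 0xe1))))))) (.node 16 (.node 8 (.node 4 (.node 2 (.node 1 (.leaf (nat_lit 0xe6)) (.leaf (nat_lit 0x161))) (.node 1 (.leaf (nat_lit 0xf5)) (.leaf (nat_lit 0x123)))) (.node 2 (.node 1 (.leaf (nat_lit 0x124)) (.leaf (nat_lit 0x169))) (.node 1 (.leaf (nat_lit 0x126)) (.leaf (nat_lit 0x127))))) (.node 4 (.node 2 (.node 1 (.leaf (nat_lit 0x128)) (.leaf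 (nat_lit 0x16e))) (.node 1 (.leaf (nat_lit 0x12a)) (.leaf (nat_lit 0xf2)))) (.node 2 (.node 1 (.leaf (nat_lit 0x173)) (.leaf (nat_lit 0xf4))) (.node 1 (.leaf (nat_lit 0x164)) (.leaf (nat_lit 0xf0)))))) (.node 8 (.node 4 (.node 2 (.node 1 (.leaf (nat_lit 0x175)) (.leaf (nat_lit 0x170))) (.node 1 (.leaf (nat_lit 0x163)) (.leaf (nat_lit 0xf3)))) (.node 2 (.node 1 (.leaf (nat_lit 0x134)) (.leaf (nat_lit 0x17a))) (.node 1 (.leaf (nat_lit 0x136)) (.leaf (nat_lit 0x17c))))) (.node 4 (.node 2 (.node 1 (.leaf (nat_lit 0xf9)) (.leaf (nat_lit 0x139))) (.node 1 (.leaf (nat_lit 0xff)) (.leaf (nat_lit 0x13b)))) (.node 2 (.node 1 (.leaf (nat_lit 0x13c)) (.leaf (nat_lit 0x13d))) (.node 1 (.leaf (nat_lit 0x142)) (.leaf (nat_lit 0x100)))))))) (.node 32 (.node 16 (.node 8 (.node 4 (.node 2 (.node 1 (.leaf (nat_lit 0x183)) (.leaf (nat_lit 0x141)))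 (.node 1 (.leaf (nat_lit 0x13e)) (.leaf (nat_lit 0x104)))) (.node 2 (.node 1 (.leaf (nat_lit 0x108)) (.leaf (nat_lit 0x186))) (.node 1 (.leaf (nat_lit 0x11e)) (.leaf (nat_lit 0x147))))) (.node 4 (.node 2 (.node 1 (.leaf (nat_lit 0x148)) (.leaf (nat_lit 0x149))) (.node 1 (.leaf (nat_lit 0x10c)) (.leaf (nat_lit 0x18d)))) (.node 2 (.node 1 (.leaf (nat_lit 0x11b)) (.leaf (nat_lit 0x14d))) (.node 1 (.leaf (nat_lit 0x14e)) (.leaf (nat_lit 0x195)))))) (.node 8 (.node 4 (.node 2 (.node 1 (.leaf (nat_lit 0x150)) (.leaf (nat_lit 0x151))) (.node 1 (.leaf (nat_lit 0x152)) (.leaf (nat_lit 0x19a)))) (.node 2 (.node 1 (.leaf (nat_lit 0x154)) (.leaf (nat_lit 0x118))) (.node 1 (.leaf (nat_lit 0x19f)) (.leaf (nat_lit 0x11a))))) (.node 4 (.node 2 (.node 1 (.leaf (nat_lit 0x190)) (.leaf (nat_lit 0x116))) (.node 1 (.leaf (nat_lit 0x1a2)) (.leaf (nat_lit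 0x19c)))) (.node 2 (.node 1 (.leaf (nat_lit 0x1a4)) (.leaf (nat_lit 0x18f))) (.node 1 (.leaf (nat_lit 0x119)) (.leaf (nat_lit 0x188))))))) (.node 16 (.node 8 (.node 4 (.node 2 (.node 1 (.leaf (nat_lit 0x11d)) (.leaf (nat_lit 0x121))) (.node 1 (.leaf (nat_lit 0x1a6)) (.leaf (nat_lit 0x132)))) (.node 2 (.node 1 (.leaf (nat_lit 0x12e)) (.leaf (nat_lit 0x165))) (.node 1 (.leaf (nat_lit 0x1ad)) (.leaf (nat_lit 0x167))))) (.node 4 (.node 2 (.node 1 (.leaf (nat_lit 0x1af)) (.leaf (nat_lit 0x125))) (.node 1 (.leaf (nat_lit 0x16a)) (.leaf (nat_lit 0x1b4)))) (.node 2 (.node 1 (.leaf (nat_lit 0x16c)) (.leaf (nat_lit 0x1ae))) (.node 1 (.leaf (nat_lit 0x129)) (.leaf (nat_lit 0x1b7)))))) (.node 8 (.node 4 (.node 2 (.node 1 (.leaf (nat_lit 0x131)) (.leaf (nat_lit 0x1b9))) (.node 1 (.leaf (nat_lit 0x1a8)) (.leaf (nat_lit 0x12c)))) (.node 2 (.node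 1 (.leaf (nat_lit 0x1a7)) (.leaf (nat_lit 0x130))) (.node 1 (.leaf (nat_lit 0x1bc)) (.leaf (nat_lit 0x177))))) (.node 4 (.node 2 (.node 1 (.leaf (nat_lit 0x1be)) (.leaf (nat_lit 0x1c0))) (.node 1 (.leaf (nat_lit 0x135)) (.leaf (nat_lit 0x1c1)))) (.node 2 (.node 1 (.leaf (nat_lit 0x137)) (.leaf (nat_lit 0x17d))) (.node 1 (.leaf (nat_lit 0x17e)) (.leaf (nat_lit 0x17f)))))))))

noncomputable def M1g11x3 : Tree :=
  (.node 64 (.node 32 (.node 16 (.node 8 (.node 4 (.node 2 (.node 1 (.leaf (nat_lit 0x180)) (.leaf (nat_lit 0x181))) (.node 1 (.leaf (nat_lit 0x1c8)) (.leaf (nat_lit 0x140)))) (.node 2 (.node 1 (.leaf (nat_lit 0x184)) (.leaf (nat_lit 0x185))) (.node 1 (.leaf (nat_lit 0x145)) (.leaf (nat_lit 0x1ca))))) (.node 4 (.node 2 (.node 1 (.leaf (nat_lit 0x15f)) (.leaf (nat_lit 0x189))) (.node 1 (.leaf (nat_lit 0x18a)) (.leaf (nat_lit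 0x1d2)))) (.node 2 (.node 1 (.leaf (nat_lit 0x18c)) (.leaf (nat_lit 0x14b))) (.node 1 (.leaf (nat_lit 0x1d3)) (.leaf (nat_lit 0x15d)))))) (.node 8 (.node 4 (.node 2 (.node 1 (.leaf (nat_lit 0x158)) (.leaf (nat_lit 0x191))) (.node 1 (.leaf (nat_lit 0x1da)) (.leaf (nat_lit 0x193)))) (.node 2 (.node 1 (.leaf (nat_lit 0x1dc)) (.leaf (nat_lit 0x14f))) (.node 1 (.leaf (nat_lit 0x196)) (.leaf (nat_lit 0x1e1))))) (.node 4 (.node 2 (.node 1 (.leaf (nat_lit 0x198)) (.leaf (nat_lit 0x1db))) (.node 1 (.leaf (nat_lit 0x153)) (.leaf (nat_lit 0x1e4)))) (.node 2 (.node 1 (.leaf (nat_lit 0x15b)) (.leaf (nat_lit 0x1e6))) (.node 1 (.leaf (nat_lit 0x1d5)) (.leaf (nat_lit 0x156))))))) (.node 16 (.node 8 (.node 4 (.node 2 (.node 1 (.leaf (nat_lit 0x1e8)) (.leaf (nat_lit 0x1d4))) (.node 1 (.leaf (nat_lit 0x15a)) (.leaf (nat_lit 0x1cc)))) (.node 2 (.node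 1 (.leaf (nat_lit 0x15c)) (.leaf (nat_lit 0x1a5))) (.node 1 (.leaf (nat_lit 0x162)) (.leaf (nat_lit 0x174))))) (.node 4 (.node 2 (.node 1 (.leaf (nat_lit 0x172)) (.leaf (nat_lit 0x1ef))) (.node 1 (.leaf (nat_lit 0x1aa)) (.leaf (nat_lit 0x1f1)))) (.node 2 (.node 1 (.leaf (nat_lit 0x1f3)) (.leaf (nat_lit 0x166))) (.node 1 (.leaf (nat_lit 0x16d)) (.leaf (nat_lit 0x168)))))) (.node 8 (.node 4 (.node 2 (.node 1 (.leaf (nat_lit 0x1f6)) (.leaf (nat_lit 0x1b1))) (.node 1 (.leaf (nat_lit 0x1f8)) (.leaf (nat_lit 0x1f2)))) (.node 2 (.node 1 (.leaf (nat_lit 0x16b)) (.leaf (nat_lit 0x1fb))) (.node 1 (.leaf (nat_lit 0x1eb)) (.leaf (nat_lit 0x16f))))) (.node 4 (.node 2 (.node 1 (.leaf (nat_lit 0x1ec)) (.leaf (nat_lit 0x171))) (.node 1 (.leaf (nat_lit 0x1fe)) (.leaf (nat_lit 0x200)))) (.node 2 (.node 1 (.leaf (nat_lit 0x176)) (.leaf (nat_lit 0x202)))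 (.node 1 (.leaf (nat_lit 0x178)) (.leaf (nat_lit 0x204)))))))) (.node 32 (.node 16 (.node 8 (.node 4 (.node 2 (.node 1 (.leaf (nat_lit 0x179)) (.leaf (nat_lit 0x17b))) (.node 1 (.leaf (nat_lit 0x1c2)) (.leaf (nat_lit 0x1c3)))) (.node 2 (.node 1 (.leaf (nat_lit 0x1c4)) (.leaf (nat_lit 0x1c5))) (.node 1 (.leaf (nat_lit 0x1c6)) (.leaf (nat_lit 0x209))))) (.node 4 (.node 2 (.node 1 (.leaf (nat_lit 0x182)) (.leaf (nat_lit 0x1c9))) (.node 1 (.leaf (nat_lit 0x187)) (.leaf (nat_lit 0x20b)))) (.node 2 (.node 1 (.leaf (nat_lit 0x1a3)) (.leaf (nat_lit 0x1cd))) (.node 1 (.leaf (nat_lit 0x1ce)) (.leaf (nat_lit 0x212)))))) (.node 8 (.node 4 (.node 2 (.node 1 (.leaf (nat_lit 0x1d0)) (.leaf (nat_lit 0x214))) (.node 1 (.leaf (nat_lit 0x18b)) (.leaf (nat_lit 0x18e)))) (.node 2 (.node 1 (.leaf (nat_lit 0x1a1)) (.leaf (nat_lit 0x19e))) (.node 1 (.leaf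 (nat_lit 0x219)) (.leaf (nat_lit 0x1d7))))) (.node 4 (.node 2 (.node 1 (.leaf (nat_lit 0x21b)) (.leaf (nat_lit 0x21d))) (.node 1 (.leaf (nat_lit 0x192)) (.leaf (nat_lit 0x199)))) (.node 2 (.node 1 (.leaf (nat_lit 0x194)) (.leaf (nat_lit 0x220))) (.node 1 (.leaf (nat_lit 0x1de)) (.leaf (nat_lit 0x222))))))) (.node 16 (.node 8 (.node 4 (.node 2 (.node 1 (.leaf (nat_lit 0x21c)) (.leaf (nat_lit 0x197))) (.node 1 (.leaf (nat_lit 0x225)) (.leaf (nat_lit 0x215)))) (.node 2 (.node 1 (.leaf (nat_lit 0x19b)) (.leaf (nat_lit 0x216))) (.node 1 (.leaf (nat_lit 0x19d)) (.leaf (nat_lit 0x20c))))) (.node 4 (.node 2 (.node 1 (.leaf (nat_lit 0x1a0)) (.leaf (nat_lit 0x1e9))) (.node 1 (.leaf (nat_lit 0x1ea)) (.leaf (nat_lit 0x1b6)))) (.node 2 (.node 1 (.leaf (nat_lit 0x1b8)) (.leaf (nat_lit 0x22c))) (.node 1 (.leaf (nat_lit 0x22e)) (.leaf (nat_lit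 0x1a9)))))) (.node 8 (.node 4 (.node 2 (.node 1 (.leaf (nat_lit 0x230)) (.leaf (nat_lit 0x1ab))) (.node 1 (.leaf (nat_lit 0x1b3)) (.leaf (nat_lit 0x1ac)))) (.node 2 (.node 1 (.leaf (nat_lit 0x234)) (.leaf (nat_lit 0x22d))) (.node 1 (.leaf (nat_lit 0x1b0)) (.leaf (nat_lit 0x22f))))) (.node 4 (.node 2 (.node 1 (.leaf (nat_lit 0x1b2)) (.leaf (nat_lit 0x237))) (.node 1 (.leaf (nat_lit 0x229)) (.leaf (nat_lit 0x1b5)))) (.node 2 (.node 1 (.leaf (nat_lit 0x239)) (.leaf (nat_lit 0x23b))) (.node 1 (.leaf (nat_lit 0x1ba)) (.leaf (nat_lit 0x23d)))))))))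

noncomputable def M1g11x4 : Tree :=
  (.node 64 (.node 32 (.node 16 (.node 8 (.node 4 (.node 2 (.node 1 (.leaf (nat_lit 0x1bb)) (.leaf (nat_lit 0x23f))) (.node 1 (.leaf (nat_lit 0x1bd)) (.leaf (nat_lit 0x235)))) (.node 2 (.node 1 (.leaf (nat_lit 0x1bf)) (.leaf (nat_lit 0x205))) (.node 1 (.leaf (nat_lit 0x206)) (.leaf (nat_lit 0x207))))) (.node 4 (.node 2 (.node 1 (.leaf (nat_lit 0x241)) (.leaf (nat_lit 0x1c7))) (.node 1 (.leaf (nat_lit 0x20a)) (.leaf (nat_lit 0x1cb)))) (.node 2 (.node 1 (.leaf (nat_lit 0x1e7)) (.leaf (nat_lit 0x20d))) (.node 1 (.leaf (nat_lit 0x24c)) (.leaf (nat_lit 0x20f)))))) (.node 8 (.node 4 (.node 2 (.node 1 (.leaf (nat_lit 0x24e)) (.leaf (nat_lit 0x250))) (.node 1 (.leaf (nat_lit 0x1cf)) (.leaf (nat_lit 0x251)))) (.node 2 (.node 1 (.leaf (nat_lit 0x1d1)) (.leaf (nat_lit 0x1e3))) (.node 1 (.leaf (nat_lit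 0x1e5)) (.leaf (nat_lit 0x255))))) (.node 4 (.node 2 (.node 1 (.leaf (nat_lit 0x257)) (.leaf (nat_lit 0x1d6))) (.node 1 (.leaf (nat_lit 0x259)) (.leaf (nat_lit 0x1d8)))) (.node 2 (.node 1 (.leaf (nat_lit 0x1e0)) (.leaf (nat_lit 0x1d9))) (.node 1 (.leaf (nat_lit 0x25d)) (.leaf (nat_lit 0x256))))))) (.node 16 (.node 8 (.node 4 (.node 2 (.node 1 (.leaf (nat_lit 0x1dd)) (.leaf (nat_lit 0x258))) (.node 1 (.leaf (nat_lit 0x1df)) (.leaf (nat_lit 0x260)))) (.node 2 (.node 1 (.leaf (nat_lit 0x252)) (.leaf (nat_lit 0x1e2))) (.node 1 (.leaf (nat_lit 0x226)) (.leaf (nat_lit 0x227))))) (.node 4 (.node 2 (.node 1 (.leaf (nat_lit 0x228)) (.leaf (nat_lit 0x1fa))) (.node 1 (.leaf (nat_lit 0x266)) (.leaf (nat_lit 0x268)))) (.node 2 (.node 1 (.leaf (nat_lit 0x1ed)) (.leaf (nat_lit 0x1f5))) (.node 1 (.leaf (nat_lit 0x1ee)) (.leaf (nat_lit 0x1f7))))))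 (.node 8 (.node 4 (.node 2 (.node 1 (.leaf (nat_lit 0x1f0)) (.leaf (nat_lit 0x231))) (.node 1 (.leaf (nat_lit 0x26d)) (.leaf (nat_lit 0x267)))) (.node 2 (.node 1 (.leaf (nat_lit 0x1f4)) (.leaf (nat_lit 0x203))) (.node 1 (.leaf (nat_lit 0x264)) (.leaf (nat_lit 0x1f9))))) (.node 4 (.node 2 (.node 1 (.leaf (nat_lit 0x270)) (.leaf (nat_lit 0x1fc))) (.node 1 (.leaf (nat_lit 0x273)) (.leaf (nat_lit 0x1fd)))) (.node 2 (.node 1 (.leaf (nat_lit 0x26e)) (.leaf (nat_lit 0x1ff))) (.node 1 (.leaf (nat_lit 0x23e)) (.leaf (nat_lit 0x201)))))))) (.node 32 (.node 16 (.node 8 (.node 4 (.node 2 (.node 1 (.leaf (nat_lit 0x26a)) (.leaf (nat_lit 0x208))) (.node 1 (.leaf (nat_lit 0x242)) (.leaf (nat_lit 0x243)))) (.node 2 (.node 1 (.leaf (nat_lit 0x244)) (.leaf (nat_lit 0x275))) (.node 1 (.leaf (nat_lit 0x246)) (.leaf (nat_lit 0x247))))) (.node 4 (.node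 2 (.node 1 (.leaf (nat_lit 0x248)) (.leaf (nat_lit 0x249))) (.node 1 (.leaf (nat_lit 0x27c)) (.leaf (nat_lit 0x27e)))) (.node 2 (.node 1 (.leaf (nat_lit 0x20e)) (.leaf (nat_lit 0x280))) (.node 1 (.leaf (nat_lit 0x210)) (.leaf (nat_lit 0x282)))))) (.node 8 (.node 4 (.node 2 (.node 1 (.leaf (nat_lit 0x211)) (.leaf (nat_lit 0x213))) (.node 1 (.leaf (nat_lit 0x224)) (.leaf (nat_lit 0x286)))) (.node 2 (.node 1 (.leaf (nat_lit 0x288)) (.leaf (nat_lit 0x217))) (.node 1 (.leaf (nat_lit 0x21f)) (.leaf (nat_lit 0x218))))) (.node 4 (.node 2 (.node 1 (.leaf (nat_lit 0x221)) (.leaf (nat_lit 0x21a))) (.node 1 (.leaf (nat_lit 0x281)) (.leaf (nat_lit 0x28e)))) (.node 2 (.node 1 (.leaf (nat_lit 0x287)) (.leaf (nat_lit 0x21e))) (.node 1 (.leaf (nat_lit 0x25e)) (.leaf (nat_lit 0x284))))))) (.node 16 (.node 8 (.node 4 (.node 2 (.node 1 (.leaf (nat_lit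 0x223)) (.leaf (nat_lit 0x261))) (.node 1 (.leaf (nat_lit 0x262)) (.leaf (nat_lit 0x263)))) (.node 2 (.node 1 (.leaf (nat_lit 0x236)) (.leaf (nat_lit 0x293))) (.node 1 (.leaf (nat_lit 0x22a)) (.leaf (nat_lit 0x233))))) (.node 4 (.node 2 (.node 1 (.leaf (nat_lit 0x22b)) (.leaf (nat_lit 0x269))) (.node 1 (.leaf (nat_lit 0x240)) (.leaf (nat_lit 0x26b)))) (.node 2 (.node 1 (.leaf (nat_lit 0x292)) (.leaf (nat_lit 0x232))) (.node 1 (.leaf (nat_lit 0x23c)) (.leaf (nat_lit 0x299)))))) (.node 8 (.node 4 (.node 2 (.node 1 (.leaf (nat_lit 0x238)) (.leaf (nat_lit 0x297))) (.node 1 (.leaf (nat_lit 0x272)) (.leaf (nat_lit 0x23a)))) (.node 2 (.node 1 (.leaf (nat_lit 0x295)) (.leaf (nat_lit 0x245))) (.node 1 (.leaf (nat_lit 0x276)) (.leaf (nat_lit 0x29c))))) (.node 4 (.node 2 (.node 1 (.leaf (nat_lit 0x278)) (.leaf (nat_lit 0x279))) (.node 1 (.leaf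 (nat_lit 0x2a1)) (.leaf (nat_lit 0x2a3)))) (.node 2 (.node 1 (.leaf (nat_lit 0x24a)) (.leaf (nat_lit 0x2a5))) (.node 1 (.leaf (nat_lit 0x24b)) (.leaf (nat_lit 0x2a7)))))))))

noncomputable def M1g11x5 : Tree :=
  (.node 44 (.node 22 (.node 11 (.node 5 (.node 2 (.node 1 (.leaf (nat_lit 0x24d)) (.leaf (nat_lit 0x25a))) (.node 1 (.leaf (nat_lit 0x24f)) (.node 1 (.leaf (nat_lit 0x283)) (.leaf (nat_lit 0x25f))))) (.node 3 (.node 1 (.leaf (nat_lit 0x2ad)) (.node 1 (.leaf (nat_lit 0x253)) (.leaf (nat_lit 0x25c)))) (.node 1 (.leaf (nat_lit 0x254)) (.node 1 (.leaf (nat_lit 0x2a4)) (.leaf (nat_lit 0x28a)))))) (.node 5 (.node 2 (.node 1 (.leaf (nat_lit 0x2a8)) (.leaf (nat_lit 0x2a9))) (.node 1 (.leaf (nat_lit 0x2ac)) (.node 1 (.leaf (nat_lit 0x25b)) (.leaf (nat_lit 0x28f))))) (.node 3 (.node 1 (.leaf (nat_lit 0x290)) (.node 1 (.leaf (nat_lit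 0x291)) (.leaf (nat_lit 0x26c)))) (.node 1 (.leaf (nat_lit 0x265)) (.node 1 (.leaf (nat_lit 0x294)) (.leaf (nat_lit 0x274))))))) (.node 11 (.node 5 (.node 2 (.node 1 (.leaf (nat_lit 0x296)) (.leaf (nat_lit 0x271))) (.node 1 (.leaf (nat_lit 0x298)) (.node 1 (.leaf (nat_lit 0x26f)) (.leaf (nat_lit 0x2b4))))) (.node 3 (.node 1 (.leaf (nat_lit 0x2b7)) (.node 1 (.leaf (nat_lit 0x277)) (.leaf (nat_lit 0x2ba)))) (.node 1 (.leaf (nat_lit 0x29e)) (.node 1 (.leaf (nat_lit 0x29f)) (.leaf (nat_lit 0x2bd)))))) (.node 5 (.node 2 (.node 1 (.leaf (nat_lit 0x27a)) (.leaf (nat_lit 0x2c0))) (.node 1 (.leaf (nat_lit 0x27b)) (.node 1 (.leaf (nat_lit 0x289)) (.leaf (nat_lit 0x27d))))) (.node 3 (.node 1 (.leaf (nat_lit 0x2a6)) (.node 1 (.leaf (nat_lit 0x27f)) (.leaf (nat_lit 0x28b)))) (.node 1 (.leaf (nat_lit 0x28c)) (.node 1 (.leaf (nat_lit 0x2aa))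 (.leaf (nat_lit 0x2ab)))))))) (.node 22 (.node 11 (.node 5 (.node 2 (.node 1 (.leaf (nat_lit 0x28d)) (.leaf (nat_lit 0x285))) (.node 1 (.leaf (nat_lit 0x2be)) (.node 1 (.leaf (nat_lit 0x2af)) (.leaf (nat_lit 0x2c1))))) (.node 3 (.node 1 (.leaf (nat_lit 0x2c2)) (.node 1 (.leaf (nat_lit 0x2b2)) (.leaf (nat_lit 0x2b3)))) (.node 1 (.leaf (nat_lit 0x29a)) (.node 1 (.leaf (nat_lit 0x2b5)) (.leaf (nat_lit 0x2b6)))))) (.node 5 (.node 2 (.node 1 (.leaf (nat_lit 0x29b)) (.leaf (nat_lit 0x2b8))) (.node 1 (.leaf (nat_lit 0x2c9)) (.node 1 (.leaf (nat_lit 0x29d)) (.leaf (nat_lit 0x2bb))))) (.node 3 (.node 1 (.leaf (nat_lit 0x2cd)) (.node 1 (.leaf (nat_lit 0x2a0)) (.leaf (nat_lit 0x2ae)))) (.node 1 (.leaf (nat_lit 0x2bf)) (.node 1 (.leaf (nat_lit 0x2a2)) (.leaf (nat_lit 0x2b0))))))) (.node 11 (.node 5 (.node 2 (.node 1 (.leaf (nat_lit 0x2b1))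 (.leaf (nat_lit 0x2c3))) (.node 1 (.leaf (nat_lit 0x2c4)) (.node 1 (.leaf (nat_lit 0x2ce)) (.leaf (nat_lit 0x2cf))))) (.node 3 (.node 1 (.leaf (nat_lit 0x2d0)) (.node 1 (.leaf (nat_lit 0x2c8)) (.leaf (nat_lit 0x2b9)))) (.node 1 (.leaf (nat_lit 0x2ca)) (.node 1 (.leaf (nat_lit 0x2cb)) (.leaf (nat_lit 0x2cc)))))) (.node 5 (.node 2 (.node 1 (.leaf (nat_lit 0x2bc)) (.leaf (nat_lit 0x2c5))) (.node 1 (.leaf (nat_lit 0x2c6)) (.node 1 (.leaf (nat_lit 0x2c7)) (.leaf (nat_lit 0x2d1))))) (.node 3 (.node 1 (.leaf (nat_lit 0x2d5)) (.node 1 (.leaf (nat_lit 0x2d6)) (.leaf (nat_lit 0x2d4)))) (.node 1 (.leaf (nat_lit 0x2d2)) (.node 1 (.leaf (nat_lit 0x2d3)) (.leaf (nat_lit 0x2d7)))))))))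

noncomputable def M1g11x : Tree :=
  (.node 384 (.node 128 M1g11x0 (.node 128 M1g11x1 M1g11x2)) (.node 128 M1g11x3 (.node 128 M1g11x4 M1g11x5)))

noncomputable def M1g12x0 : Tree :=
  (.node 64 (.node 32 (.node 16 (.node 8 (.node 4 (.node 2 (.node 1 (.leaf (nat_lit 0)) (.leaf (nat_lit 1))) (.node 1 (.leaf (nat_lit 2)) (.leaf (nat_lit 3)))) (.node 2 (.node 1 (.leaf (nat_lit 4)) (.leaf (nat_lit 5))) (.node 1 (.leaf (nat_lit 9)) (.leaf (nat_lit 7))))) (.node 4 (.node 2 (.node 1 (.leaf (nat_lit 0xc)) (.leaf (nat_lit 6))) (.node 1 (.leaf (nat_lit 0xe)) (.leaf (nat_lit 0x10)))) (.node 2 (.node 1 (.leaf (nat_lit 8)) (.leaf (nat_lit 0x13))) (.node 1 (.leaf (nat_lit 0xa)) (.leaf (nat_lit 0x15)))))) (.node 8 (.node 4 (.node 2 (.node 1 (.leaf (nat_lit 0xb)) (.leaf (nat_lit 0x19))) (.node 1 (.leaf (nat_lit 0x1a)) (.leaf (nat_lit 0xd)))) (.node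 2 (.node 1 (.leaf (nat_lit 0x1d)) (.leaf (nat_lit 0xf))) (.node 1 (.leaf (nat_lit 0x16)) (.leaf (nat_lit 0x21))))) (.node 4 (.node 2 (.node 1 (.leaf (nat_lit 0x23)) (.leaf (nat_lit 0x11))) (.node 1 (.leaf (nat_lit 0x12)) (.leaf (nat_lit 0x1b)))) (.node 2 (.node 1 (.leaf (nat_lit 0x26)) (.leaf (nat_lit 0x14))) (.node 1 (.leaf (nat_lit 0x1e)) (.leaf (nat_lit 0x2a))))))) (.node 16 (.node 8 (.node 4 (.node 2 (.node 1 (.leaf (nat_lit 0x2c)) (.leaf (nat_lit 0x17))) (.node 1 (.leaf (nat_lit 0x2f)) (.leaf (nat_lit 0x18)))) (.node 2 (.node 1 (.leaf (nat_lit 0x24)) (.leaf (nat_lit 0x25))) (.node 1 (.leaf (nat_lit 0x1c)) (.leaf (nat_lit 0x27))))) (.node 4 (.node 2 (.node 1 (.leaf (nat_lit 0x28)) (.leaf (nat_lit 0x37))) (.node 1 (.leaf (nat_lit 0x1f)) (.leaf (nat_lit 0x3b)))) (.node 2 (.node 1 (.leaf (nat_lit 0x20)) (.leaf (nat_lit 0x2d)))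 (.node 1 (.leaf (nat_lit 0x3e)) (.leaf (nat_lit 0x22)))))) (.node 8 (.node 4 (.node 2 (.node 1 (.leaf (nat_lit 0x30)) (.leaf (nat_lit 0x31))) (.node 1 (.leaf (nat_lit 0x32)) (.leaf (nat_lit 0x33)))) (.node 2 (.node 1 (.leaf (nat_lit 0x34)) (.leaf (nat_lit 0x35))) (.node 1 (.leaf (nat_lit 0x49)) (.leaf (nat_lit 0x29))))) (.node 4 (.node 2 (.node 1 (.leaf (nat_lit 0x38)) (.leaf (nat_lit 0x4d))) (.node 1 (.leaf (nat_lit 0x4e)) (.leaf (nat_lit 0x2b)))) (.node 2 (.node 1 (.leaf (nat_lit 0x3c)) (.leaf (nat_lit 0x3d))) (.node 1 (.leaf (nat_lit 0x2e)) (.leaf (nat_lit 0x53)))))))) (.node 32 (.node 16 (.node 8 (.node 4 (.node 2 (.node 1 (.leaf (nat_lit 0x40)) (.leaf (nat_lit 0x41))) (.node 1 (.leaf (nat_lit 0x42)) (.leaf (nat_lit 0x43)))) (.node 2 (.node 1 (.leaf (nat_lit 0x44)) (.leaf (nat_lit 0x45))) (.node 1 (.leaf (nat_lit 0x46)) (.leaf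 (nat_lit 0x5f))))) (.node 4 (.node 2 (.node 1 (.leaf (nat_lit 0x60)) (.leaf (nat_lit 0x36))) (.node 1 (.leaf (nat_lit 0x4a)) (.leaf (nat_lit 0x4b)))) (.node 2 (.node 1 (.leaf (nat_lit 0x66)) (.leaf (nat_lit 0x39))) (.node 1 (.leaf (nat_lit 0x3a)) (.leaf (nat_lit 0x68)))))) (.node 8 (.node 4 (.node 2 (.node 1 (.leaf (nat_lit 0x50)) (.leaf (nat_lit 0x51))) (.node 1 (.leaf (nat_lit 0x52)) (.leaf (nat_lit 0x3f)))) (.node 2 (.node 1 (.leaf (nat_lit 0x6e)) (.leaf (nat_lit 0x55))) (.node 1 (.leaf (nat_lit 0x56)) (.leaf (nat_lit 0x57))))) (.node 4 (.node 2 (.node 1 (.leaf (nat_lit 0x58)) (.leaf (nat_lit 0x59))) (.node 1 (.leaf (nat_lit 0x5a)) (.leaf (nat_lit 0x5b)))) (.node 2 (.node 1 (.leaf (nat_lit 0x5c)) (.leaf (nat_lit 0x7b))) (.node 1 (.leaf (nat_lit 0x7d)) (.leaf (nat_lit 0x47))))))) (.node 16 (.node 8 (.node 4 (.node 2 (.node 1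 (.leaf (nat_lit 0x48)) (.leaf (nat_lit 0x7f))) (.node 1 (.leaf (nat_lit 0x62)) (.leaf (nat_lit 0x63)))) (.node 2 (.node 1 (.leaf (nat_lit 0x64)) (.leaf (nat_lit 0x87))) (.node 1 (.leaf (nat_lit 0x4c)) (.leaf (nat_lit 0x88))))) (.node 4 (.node 2 (.node 1 (.leaf (nat_lit 0x4f)) (.leaf (nat_lit 0x8a))) (.node 1 (.leaf (nat_lit 0x6a)) (.leaf (nat_lit 0x6b)))) (.node 2 (.node 1 (.leaf (nat_lit 0x6c)) (.leaf (nat_lit 0x6d))) (.node 1 (.leaf (nat_lit 0x54)) (.leaf (nat_lit 0x92)))))) (.node 8 (.node 4 (.node 2 (.node 1 (.leaf (nat_lit 0x93)) (.leaf (nat_lit 0x71))) (.node 1 (.leaf (nat_lit 0x72)) (.leaf (nat_lit 0x73)))) (.node 2 (.node 1 (.leaf (nat_lit 0x74)) (.leaf (nat_lit 0x75))) (.node 1 (.leaf (nat_lit 0x76)) (.leaf (nat_lit 0x77))))) (.node 4 (.node 2 (.node 1 (.leaf (nat_lit 0x78)) (.leaf (nat_lit 0x79))) (.node 1 (.leaf (nat_lit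 0xa0)) (.leaf (nat_lit 0x5d)))) (.node 2 (.node 1 (.leaf (nat_lit 0xa3)) (.leaf (nat_lit 0x5e))) (.node 1 (.leaf (nat_lit 0xa4)) (.leaf (nat_lit 0x61)))))))))

noncomputable def M1g12x1 : Tree :=
  (.node 64 (.node 32 (.node 16 (.node 8 (.node 4 (.node 2 (.node 1 (.leaf (nat_lit 0xa6)) (.leaf (nat_lit 0x81))) (.node 1 (.leaf (nat_lit 0x82)) (.leaf (nat_lit 0x83)))) (.node 2 (.node 1 (.leaf (nat_lit 0x84)) (.leaf (nat_lit 0x85))) (.node 1 (.leaf (nat_lit 0xb0)) (.leaf (nat_lit 0x65))))) (.node 4 (.node 2 (.node 1 (.leaf (nat_lit 0x67)) (.leaf (nat_lit 0xb2))) (.node 1 (.leaf (nat_lit 0x69)) (.leaf (nat_lit 0xb5)))) (.node 2 (.node 1 (.leaf (nat_lit 0xb6)) (.leaf (nat_lit 0x8d))) (.node 1 (.leaf (nat_lit 0x8e)) (.leaf (nat_lit 0x8f)))))) (.node 8 (.node 4 (.node 2 (.node 1 (.leaf (nat_lit 0x90)) (.leaf (nat_lit 0x91))) (.node 1 (.leaf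 (nat_lit 0x6f)) (.leaf (nat_lit 0x70)))) (.node 2 (.node 1 (.leaf (nat_lit 0xc0)) (.leaf (nat_lit 0xc1))) (.node 1 (.leaf (nat_lit 0xc2)) (.leaf (nat_lit 0x97))))) (.node 4 (.node 2 (.node 1 (.leaf (nat_lit 0x98)) (.leaf (nat_lit 0x99))) (.node 1 (.leaf (nat_lit 0x9a)) (.leaf (nat_lit 0x9b)))) (.node 2 (.node 1 (.leaf (nat_lit 0x9c)) (.leaf (nat_lit 0x9d))) (.node 1 (.leaf (nat_lit 0xaf)) (.leaf (nat_lit 0xcf))))))) (.node 16 (.node 8 (.node 4 (.node 2 (.node 1 (.leaf (nat_lit 0x7a)) (.leaf (nat_lit 0xd0))) (.node 1 (.leaf (nat_lit 0xd3)) (.leaf (nat_lit 0x7c)))) (.node 2 (.node 1 (.leaf (nat_lit 0x7e)) (.leaf (nat_lit 0xd5))) (.node 1 (.leaf (nat_lit 0x80)) (.leaf (nat_lit 0xd8))))) (.node 4 (.node 2 (.node 1 (.leaf (nat_lit 0xd9)) (.leaf (nat_lit 0xa9))) (.node 1 (.leaf (nat_lit 0xaa)) (.leaf (nat_lit 0xab)))) (.node 2 (.node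 1 (.leaf (nat_lit 0xac)) (.leaf (nat_lit 0xad))) (.node 1 (.leaf (nat_lit 0xae)) (.leaf (nat_lit 0x9e)))))) (.node 8 (.node 4 (.node 2 (.node 1 (.leaf (nat_lit 0x86)) (.leaf (nat_lit 0xb1))) (.node 1 (.leaf (nat_lit 0x89)) (.leaf (nat_lit 0xe6)))) (.node 2 (.node 1 (.leaf (nat_lit 0xe7)) (.leaf (nat_lit 0x8b))) (.node 1 (.leaf (nat_lit 0x8c)) (.leaf (nat_lit 0xeb))))) (.node 4 (.node 2 (.node 1 (.leaf (nat_lit 0xec)) (.leaf (nat_lit 0xed))) (.node 1 (.leaf (nat_lit 0xba)) (.leaf (nat_lit 0xbb)))) (.node 2 (.node 1 (.leaf (nat_lit 0xbc)) (.leaf (nat_lit 0xbd))) (.node 1 (.leaf (nat_lit 0xbe)) (.leaf (nat_lit 0xea)))))))) (.node 32 (.node 16 (.node 8 (.node 4 (.node 2 (.node 1 (.leaf (nat_lit 0x94)) (.leaf (nat_lit 0x95))) (.node 1 (.leaf (nat_lit 0x96)) (.leaf (nat_lit 0xf7)))) (.node 2 (.node 1 (.leaf (nat_lit 0xf8)) (.leaf (nat_lit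 0xf9))) (.node 1 (.leaf (nat_lit 0xfa)) (.leaf (nat_lit 0xc7))))) (.node 4 (.node 2 (.node 1 (.leaf (nat_lit 0xc8)) (.leaf (nat_lit 0xc9))) (.node 1 (.leaf (nat_lit 0xca)) (.leaf (nat_lit 0xcb)))) (.node 2 (.node 1 (.leaf (nat_lit 0xd2)) (.leaf (nat_lit 0x104))) (.node 1 (.leaf (nat_lit 0x106)) (.leaf (nat_lit 0x9f)))))) (.node 8 (.node 4 (.node 2 (.node 1 (.leaf (nat_lit 0xa1)) (.leaf (nat_lit 0x108))) (.node 1 (.leaf (nat_lit 0xcc)) (.leaf (nat_lit 0xa2)))) (.node 2 (.node 1 (.leaf (nat_lit 0xd4)) (.leaf (nat_lit 0xa5))) (.node 1 (.leaf (nat_lit 0x10c)) (.leaf (nat_lit 0x10d))))) (.node 4 (.node 2 (.node 1 (.leaf (nat_lit 0xa7)) (.leaf (nat_lit 0xa8))) (.node 1 (.leaf (nat_lit 0x111)) (.leaf (nat_lit 0x112)))) (.node 2 (.node 1 (.leaf (nat_lit 0x113)) (.leaf (nat_lit 0xdd))) (.node 1 (.leaf (nat_lit 0xde)) (.leaf (nat_lit 0xdf)))))))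 (.node 16 (.node 8 (.node 4 (.node 2 (.node 1 (.leaf (nat_lit 0xe0)) (.leaf (nat_lit 0xe1))) (.node 1 (.leaf (nat_lit 0xe2)) (.leaf (nat_lit 0xe3)))) (.node 2 (.node 1 (.leaf (nat_lit 0x110)) (.leaf (nat_lit 0xe5))) (.node 1 (.leaf (nat_lit 0xb3)) (.leaf (nat_lit 0xb4))))) (.node 4 (.node 2 (.node 1 (.leaf (nat_lit 0x121)) (.leaf (nat_lit 0x122))) (.node 1 (.leaf (nat_lit 0xbf)) (.leaf (nat_lit 0xb7)))) (.node 2 (.node 1 (.leaf (nat_lit 0xb8)) (.leaf (nat_lit 0xb9))) (.node 1 (.leaf (nat_lit 0x127)) (.leaf (nat_lit 0x128)))))) (.node 8 (.node 4 (.node 2 (.node 1 (.leaf (nat_lit 0x129)) (.leaf (nat_lit 0x12a))) (.node 1 (.leaf (nat_lit 0xf2)) (.leaf (nat_lit 0xf3)))) (.node 2 (.node 1 (.leaf (nat_lit 0xf4)) (.leaf (nat_lit 0xf5))) (.node 1 (.leaf (nat_lit 0x126)) (.leaf (nat_lit 0xc3))))) (.node 4 (.node 2 (.node 1 (.leaf (nat_lit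 0xc4)) (.leaf (nat_lit 0xc5))) (.node 1 (.leaf (nat_lit 0xc6)) (.leaf (nat_lit 0x134)))) (.node 2 (.node 1 (.leaf (nat_lit 0x135)) (.leaf (nat_lit 0x136))) (.node 1 (.leaf (nat_lit 0x137)) (.leaf (nat_lit 0xff)))))))))

noncomputable def M1g12x2 : Tree :=
  (.node 64 (.node 32 (.node 16 (.node 8 (.node 4 (.node 2 (.node 1 (.leaf (nat_lit 0x100)) (.leaf (nat_lit 0x101))) (.node 1 (.leaf (nat_lit 0x105)) (.leaf (nat_lit 0x142)))) (.node 2 (.node 1 (.leaf (nat_lit 0xcd)) (.leaf (nat_lit 0x102))) (.node 1 (.leaf (nat_lit 0xce)) (.leaf (nat_lit 0x107))))) (.node 4 (.node 2 (.node 1 (.leaf (nat_lit 0xd1)) (.leaf (nat_lit 0x145))) (.node 1 (.leaf (nat_lit 0x146)) (.leaf (nat_lit 0x10b)))) (.node 2 (.node 1 (.leaf (nat_lit 0xd6)) (.leaf (nat_lit 0xd7))) (.node 1 (.leaf (nat_lit 0x14b)) (.leaf (nat_lit 0x14c)))))) (.node 8 (.node 4 (.node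 2 (.node 1 (.leaf (nat_lit 0xe4)) (.leaf (nat_lit 0xda))) (.node 1 (.leaf (nat_lit 0xdb)) (.leaf (nat_lit 0xdc)))) (.node 2 (.node 1 (.leaf (nat_lit 0x151)) (.leaf (nat_lit 0x152))) (.node 1 (.leaf (nat_lit 0x153)) (.leaf (nat_lit 0x154))))) (.node 4 (.node 2 (.node 1 (.leaf (nat_lit 0x118)) (.leaf (nat_lit 0x119))) (.node 1 (.leaf (nat_lit 0x11a)) (.leaf (nat_lit 0x11b)))) (.node 2 (.node 1 (.leaf (nat_lit 0x150)) (.leaf (nat_lit 0x11d))) (.node 1 (.leaf (nat_lit 0x11e)) (.leaf (nat_lit 0x149))))))) (.node 16 (.node 8 (.node 4 (.node 2 (.node 1 (.leaf (nat_lit 0x120)) (.leaf (nat_lit 0xe8))) (.node 1 (.leaf (nat_lit 0xe9)) (.leaf (nat_lit 0x162)))) (.node 2 (.node 1 (.leaf (nat_lit 0x163)) (.leaf (nat_lit 0x164))) (.node 1 (.leaf (nat_lit 0xf6)) (.leaf (nat_lit 0xee))))) (.node 4 (.node 2 (.node 1 (.leaf (nat_lit 0xef)) (.leaf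 (nat_lit 0xf0))) (.node 1 (.leaf (nat_lit 0xf1)) (.leaf (nat_lit 0x16a)))) (.node 2 (.node 1 (.leaf (nat_lit 0x16b)) (.leaf (nat_lit 0x16c))) (.node 1 (.leaf (nat_lit 0x16d)) (.leaf (nat_lit 0x168)))))) (.node 8 (.node 4 (.node 2 (.node 1 (.leaf (nat_lit 0x130)) (.leaf (nat_lit 0x131))) (.node 1 (.leaf (nat_lit 0x132)) (.leaf (nat_lit 0x167)))) (.node 2 (.node 1 (.leaf (nat_lit 0xfb)) (.leaf (nat_lit 0xfc))) (.node 1 (.leaf (nat_lit 0xfd)) (.leaf (nat_lit 0xfe))))) (.node 4 (.node 2 (.node 1 (.leaf (nat_lit 0x138)) (.leaf (nat_lit 0x176))) (.node 1 (.leaf (nat_lit 0x177)) (.leaf (nat_lit 0x178)))) (.node 2 (.node 1 (.leaf (nat_lit 0x179)) (.leaf (nat_lit 0x17b))) (.node 1 (.leaf (nat_lit 0x13e)) (.leaf (nat_lit 0x141)))))))) (.node 32 (.node 16 (.node 8 (.node 4 (.node 2 (.node 1 (.leaf (nat_lit 0x184)) (.leaf (nat_lit 0x13f)))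 (.node 1 (.leaf (nat_lit 0x103)) (.leaf (nat_lit 0x143)))) (.node 2 (.node 1 (.leaf (nat_lit 0x144)) (.leaf (nat_lit 0x109))) (.node 1 (.leaf (nat_lit 0x10a)) (.leaf (nat_lit 0x187))))) (.node 4 (.node 2 (.node 1 (.leaf (nat_lit 0x188)) (.leaf (nat_lit 0x11f))) (.node 1 (.leaf (nat_lit 0x14a)) (.leaf (nat_lit 0x10e)))) (.node 2 (.node 1 (.leaf (nat_lit 0x10f)) (.leaf (nat_lit 0x18e))) (.node 1 (.leaf (nat_lit 0x18f)) (.leaf (nat_lit 0x190)))))) (.node 8 (.node 4 (.node 2 (.node 1 (.leaf (nat_lit 0x11c)) (.leaf (nat_lit 0x114))) (.node 1 (.leaf (nat_lit 0x115)) (.leaf (nat_lit 0x116)))) (.node 2 (.node 1 (.leaf (nat_lit 0x117)) (.leaf (nat_lit 0x196))) (.node 1 (.leaf (nat_lit 0x197)) (.leaf (nat_lit 0x198))))) (.node 4 (.node 2 (.node 1 (.leaf (nat_lit 0x199)) (.leaf (nat_lit 0x194))) (.node 1 (.leaf (nat_lit 0x15a)) (.leaf (nat_lit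 0x15b)))) (.node 2 (.node 1 (.leaf (nat_lit 0x15c)) (.leaf (nat_lit 0x15d))) (.node 1 (.leaf (nat_lit 0x193)) (.leaf (nat_lit 0x15f))))))) (.node 16 (.node 8 (.node 4 (.node 2 (.node 1 (.leaf (nat_lit 0x18c)) (.leaf (nat_lit 0x161))) (.node 1 (.leaf (nat_lit 0x123)) (.leaf (nat_lit 0x124)))) (.node 2 (.node 1 (.leaf (nat_lit 0x125)) (.leaf (nat_lit 0x1a7))) (.node 1 (.leaf (nat_lit 0x1a8)) (.leaf (nat_lit 0x133))))) (.node 4 (.node 2 (.node 1 (.leaf (nat_lit 0x12f)) (.leaf (nat_lit 0x1ae))) (.node 1 (.leaf (nat_lit 0x12b)) (.leaf (nat_lit 0x12c)))) (.node 2 (.node 1 (.leaf (nat_lit 0x12d)) (.leaf (nat_lit 0x12e))) (.node 1 (.leaf (nat_lit 0x1af)) (.leaf (nat_lit 0x1b0)))))) (.node 8 (.node 4 (.node 2 (.node 1 (.leaf (nat_lit 0x1b1)) (.leaf (nat_lit 0x1b2))) (.node 1 (.leaf (nat_lit 0x1b3)) (.leaf (nat_lit 0x1ac)))) (.node 2 (.node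 1 (.leaf (nat_lit 0x174)) (.leaf (nat_lit 0x1aa))) (.node 1 (.leaf (nat_lit 0x139)) (.leaf (nat_lit 0x13a))))) (.node 4 (.node 2 (.node 1 (.leaf (nat_lit 0x13b)) (.leaf (nat_lit 0x13c))) (.node 1 (.leaf (nat_lit 0x17a)) (.leaf (nat_lit 0x13d)))) (.node 2 (.node 1 (.leaf (nat_lit 0x17c)) (.leaf (nat_lit 0x1ba))) (.node 1 (.leaf (nat_lit 0x1bb)) (.leaf (nat_lit 0x1bd)))))))))

noncomputable def M1g12x3 : Tree :=
  (.node 64 (.node 32 (.node 16 (.node 8 (.node 4 (.node 2 (.node 1 (.leaf (nat_lit 0x1bf)) (.leaf (nat_lit 0x182))) (.node 1 (.leaf (nat_lit 0x181)) (.leaf (nat_lit 0x183)))) (.node 2 (.node 1 (.leaf (nat_lit 0x140)) (.leaf (nat_lit 0x185))) (.node 1 (.leaf (nat_lit 0x186)) (.leaf (nat_lit 0x147))))) (.node 4 (.node 2 (.node 1 (.leaf (nat_lit 0x148)) (.leaf (nat_lit 0x1cb))) (.node 1 (.leaf (nat_lit 0x1cc)) (.leaf (nat_lit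 0x1cd)))) (.node 2 (.node 1 (.leaf (nat_lit 0x160)) (.leaf (nat_lit 0x18d))) (.node 1 (.leaf (nat_lit 0x14d)) (.leaf (nat_lit 0x14e)))))) (.node 8 (.node 4 (.node 2 (.node 1 (.leaf (nat_lit 0x14f)) (.leaf (nat_lit 0x1d4))) (.node 1 (.leaf (nat_lit 0x1d5)) (.leaf (nat_lit 0x15e)))) (.node 2 (.node 1 (.leaf (nat_lit 0x159)) (.leaf (nat_lit 0x1db))) (.node 1 (.leaf (nat_lit 0x155)) (.leaf (nat_lit 0x156))))) (.node 4 (.node 2 (.node 1 (.leaf (nat_lit 0x157)) (.leaf (nat_lit 0x158))) (.node 1 (.leaf (nat_lit 0x1dc)) (.leaf (nat_lit 0x1dd)))) (.node 2 (.node 1 (.leaf (nat_lit 0x1de)) (.leaf (nat_lit 0x1df))) (.node 1 (.leaf (nat_lit 0x1e0)) (.leaf (nat_lit 0x1d9))))))) (.node 16 (.node 8 (.node 4 (.node 2 (.node 1 (.leaf (nat_lit 0x1a0)) (.leaf (nat_lit 0x1a1))) (.node 1 (.leaf (nat_lit 0x1d7)) (.leaf (nat_lit 0x1a3)))) (.node 2 (.node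 1 (.leaf (nat_lit 0x1d0)) (.leaf (nat_lit 0x1d1))) (.node 1 (.leaf (nat_lit 0x1a6)) (.leaf (nat_lit 0x165))))) (.node 4 (.node 2 (.node 1 (.leaf (nat_lit 0x166)) (.leaf (nat_lit 0x1eb))) (.node 1 (.leaf (nat_lit 0x175)) (.leaf (nat_lit 0x1ec)))) (.node 2 (.node 1 (.leaf (nat_lit 0x173)) (.leaf (nat_lit 0x1f2))) (.node 1 (.leaf (nat_lit 0x169)) (.leaf (nat_lit 0x16e)))))) (.node 8 (.node 4 (.node 2 (.node 1 (.leaf (nat_lit 0x16f)) (.leaf (nat_lit 0x170))) (.node 1 (.leaf (nat_lit 0x171)) (.leaf (nat_lit 0x172)))) (.node 2 (.node 1 (.leaf (nat_lit 0x1f3)) (.leaf (nat_lit 0x1f4))) (.node 1 (.leaf (nat_lit 0x1f5)) (.leaf (nat_lit 0x1ee))))) (.node 4 (.node 2 (.node 1 (.leaf (nat_lit 0x1f7)) (.leaf (nat_lit 0x1f0))) (.node 1 (.leaf (nat_lit 0x17d)) (.leaf (nat_lit 0x17e)))) (.node 2 (.node 1 (.leaf (nat_lit 0x1bc)) (.leaf (nat_lit 0x17f)))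 (.node 1 (.leaf (nat_lit 0x1be)) (.leaf (nat_lit 0x180)))))))) (.node 32 (.node 16 (.node 8 (.node 4 (.node 2 (.node 1 (.leaf (nat_lit 0x1c0)) (.leaf (nat_lit 0x1c1))) (.node 1 (.leaf (nat_lit 0x1fc)) (.leaf (nat_lit 0x1fd)))) (.node 2 (.node 1 (.leaf (nat_lit 0x1ff)) (.leaf (nat_lit 0x201))) (.node 1 (.leaf (nat_lit 0x1c7)) (.leaf (nat_lit 0x1c6))))) (.node 4 (.node 2 (.node 1 (.leaf (nat_lit 0x1c8)) (.leaf (nat_lit 0x1c9))) (.node 1 (.leaf (nat_lit 0x1ca)) (.leaf (nat_lit 0x189)))) (.node 2 (.node 1 (.leaf (nat_lit 0x18a)) (.leaf (nat_lit 0x18b))) (.node 1 (.leaf (nat_lit 0x20c)) (.leaf (nat_lit 0x20d)))))) (.node 8 (.node 4 (.node 2 (.node 1 (.leaf (nat_lit 0x1a4)) (.leaf (nat_lit 0x1a5))) (.node 1 (.leaf (nat_lit 0x1d2)) (.leaf (nat_lit 0x1d3)))) (.node 2 (.node 1 (.leaf (nat_lit 0x191)) (.leaf (nat_lit 0x192))) (.node 1 (.leaf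 (nat_lit 0x215)) (.leaf (nat_lit 0x1a2))))) (.node 4 (.node 2 (.node 1 (.leaf (nat_lit 0x216)) (.leaf (nat_lit 0x19f))) (.node 1 (.leaf (nat_lit 0x21c)) (.leaf (nat_lit 0x195)))) (.node 2 (.node 1 (.leaf (nat_lit 0x19a)) (.leaf (nat_lit 0x19b))) (.node 1 (.leaf (nat_lit 0x19c)) (.leaf (nat_lit 0x19d))))))) (.node 16 (.node 8 (.node 4 (.node 2 (.node 1 (.leaf (nat_lit 0x19e)) (.leaf (nat_lit 0x21d))) (.node 1 (.leaf (nat_lit 0x21e)) (.leaf (nat_lit 0x21f)))) (.node 2 (.node 1 (.leaf (nat_lit 0x218)) (.leaf (nat_lit 0x221))) (.node 1 (.leaf (nat_lit 0x21a)) (.leaf (nat_lit 0x1e7))))) (.node 4 (.node 2 (.node 1 (.leaf (nat_lit 0x20f)) (.leaf (nat_lit 0x211))) (.node 1 (.leaf (nat_lit 0x213)) (.leaf (nat_lit 0x1a9)))) (.node 2 (.node 1 (.leaf (nat_lit 0x1ab)) (.leaf (nat_lit 0x229))) (.node 1 (.leaf (nat_lit 0x1b7)) (.leaf (nat_lit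 0x22d)))))) (.node 8 (.node 4 (.node 2 (.node 1 (.leaf (nat_lit 0x1b9)) (.leaf (nat_lit 0x22f))) (.node 1 (.leaf (nat_lit 0x1ad)) (.leaf (nat_lit 0x1b4)))) (.node 2 (.node 1 (.leaf (nat_lit 0x1b5)) (.leaf (nat_lit 0x1b6))) (.node 1 (.leaf (nat_lit 0x22e)) (.leaf (nat_lit 0x1b8))))) (.node 4 (.node 2 (.node 1 (.leaf (nat_lit 0x230)) (.leaf (nat_lit 0x232))) (.node 1 (.leaf (nat_lit 0x233)) (.leaf (nat_lit 0x22b)))) (.node 2 (.node 1 (.leaf (nat_lit 0x1c2)) (.leaf (nat_lit 0x1c3))) (.node 1 (.leaf (nat_lit 0x1fe)) (.leaf (nat_lit 0x1c4)))))))))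

noncomputable def M1g12x4 : Tree :=
  (.node 64 (.node 32 (.node 16 (.node 8 (.node 4 (.node 2 (.node 1 (.leaf (nat_lit 0x200)) (.leaf (nat_lit 0x1c5))) (.node 1 (.leaf (nat_lit 0x202)) (.leaf (nat_lit 0x203)))) (.node 2 (.node 1 (.leaf (nat_lit 0x204)) (.leaf (nat_lit 0x205))) (.node 1 (.leaf (nat_lit 0x238)) (.leaf (nat_lit 0x23a))))) (.node 4 (.node 2 (.node 1 (.leaf (nat_lit 0x23e)) (.leaf (nat_lit 0x209))) (.node 1 (.leaf (nat_lit 0x20a)) (.leaf (nat_lit 0x20b)))) (.node 2 (.node 1 (.leaf (nat_lit 0x1ce)) (.leaf (nat_lit 0x1cf))) (.node 1 (.leaf (nat_lit 0x248)) (.leaf (nat_lit 0x1e8)))))) (.node 8 (.node 4 (.node 2 (.node 1 (.leaf (nat_lit 0x249)) (.leaf (nat_lit 0x1e9))) (.node 1 (.leaf (nat_lit 0x212)) (.leaf (nat_lit 0x1ea)))) (.node 2 (.node 1 (.leaf (nat_lit 0x214)) (.leaf (nat_lit 0x1d6))) (.node 1 (.leaf (nat_lit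 0x1d8)) (.leaf (nat_lit 0x252))))) (.node 4 (.node 2 (.node 1 (.leaf (nat_lit 0x1e4)) (.leaf (nat_lit 0x256))) (.node 1 (.leaf (nat_lit 0x1e6)) (.leaf (nat_lit 0x258)))) (.node 2 (.node 1 (.leaf (nat_lit 0x1da)) (.leaf (nat_lit 0x1e1))) (.node 1 (.leaf (nat_lit 0x1e2)) (.leaf (nat_lit 0x1e3))))))) (.node 16 (.node 8 (.node 4 (.node 2 (.node 1 (.leaf (nat_lit 0x257)) (.leaf (nat_lit 0x1e5))) (.node 1 (.leaf (nat_lit 0x259)) (.leaf (nat_lit 0x25b)))) (.node 2 (.node 1 (.leaf (nat_lit 0x25c)) (.leaf (nat_lit 0x254))) (.node 1 (.leaf (nat_lit 0x24d)) (.leaf (nat_lit 0x24b))))) (.node 4 (.node 2 (.node 1 (.leaf (nat_lit 0x24f)) (.leaf (nat_lit 0x1ed))) (.node 1 (.leaf (nat_lit 0x264)) (.leaf (nat_lit 0x1fb)))) (.node 2 (.node 1 (.leaf (nat_lit 0x267)) (.leaf (nat_lit 0x1ef))) (.node 1 (.leaf (nat_lit 0x1f6)) (.leaf (nat_lit 0x1f1))))))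 (.node 8 (.node 4 (.node 2 (.node 1 (.leaf (nat_lit 0x1f8)) (.leaf (nat_lit 0x26a))) (.node 1 (.leaf (nat_lit 0x1f9)) (.leaf (nat_lit 0x1fa)))) (.node 2 (.node 1 (.leaf (nat_lit 0x268)) (.leaf (nat_lit 0x26b))) (.node 1 (.leaf (nat_lit 0x26c)) (.leaf (nat_lit 0x265))))) (.node 4 (.node 2 (.node 1 (.leaf (nat_lit 0x206)) (.leaf (nat_lit 0x239))) (.node 1 (.leaf (nat_lit 0x207)) (.leaf (nat_lit 0x23b)))) (.node 2 (.node 1 (.leaf (nat_lit 0x23c)) (.leaf (nat_lit 0x23d))) (.node 1 (.leaf (nat_lit 0x208)) (.leaf (nat_lit 0x23f)))))))) (.node 32 (.node 16 (.node 8 (.node 4 (.node 2 (.node 1 (.leaf (nat_lit 0x240)) (.leaf (nat_lit 0x241))) (.node 1 (.leaf (nat_lit 0x242)) (.leaf (nat_lit 0x243)))) (.node 2 (.node 1 (.leaf (nat_lit 0x26f)) (.leaf (nat_lit 0x272))) (.node 1 (.leaf (nat_lit 0x246)) (.leaf (nat_lit 0x247))))) (.node 4 (.node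 2 (.node 1 (.leaf (nat_lit 0x20e)) (.leaf (nat_lit 0x210))) (.node 1 (.leaf (nat_lit 0x279)) (.leaf (nat_lit 0x227)))) (.node 2 (.node 1 (.leaf (nat_lit 0x24c)) (.leaf (nat_lit 0x226))) (.node 1 (.leaf (nat_lit 0x24e)) (.leaf (nat_lit 0x228)))))) (.node 8 (.node 4 (.node 2 (.node 1 (.leaf (nat_lit 0x250)) (.leaf (nat_lit 0x251))) (.node 1 (.leaf (nat_lit 0x217)) (.leaf (nat_lit 0x284)))) (.node 2 (.node 1 (.leaf (nat_lit 0x225)) (.leaf (nat_lit 0x287))) (.node 1 (.leaf (nat_lit 0x219)) (.leaf (nat_lit 0x220))))) (.node 4 (.node 2 (.node 1 (.leaf (nat_lit 0x21b)) (.leaf (nat_lit 0x222))) (.node 1 (.leaf (nat_lit 0x28a)) (.leaf (nat_lit 0x223)))) (.node 2 (.node 1 (.leaf (nat_lit 0x224)) (.leaf (nat_lit 0x288))) (.node 1 (.leaf (nat_lit 0x28b)) (.leaf (nat_lit 0x28d))))))) (.node 16 (.node 8 (.node 4 (.node 2 (.node 1 (.leaf (nat_lit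 0x285)) (.leaf (nat_lit 0x27b))) (.node 1 (.leaf (nat_lit 0x27f)) (.leaf (nat_lit 0x27d)))) (.node 2 (.node 1 (.leaf (nat_lit 0x22a)) (.leaf (nat_lit 0x237))) (.node 1 (.leaf (nat_lit 0x292)) (.leaf (nat_lit 0x22c))))) (.node 4 (.node 2 (.node 1 (.leaf (nat_lit 0x234)) (.leaf (nat_lit 0x295))) (.node 1 (.leaf (nat_lit 0x231)) (.leaf (nat_lit 0x235)))) (.node 2 (.node 1 (.leaf (nat_lit 0x236)) (.leaf (nat_lit 0x293))) (.node 1 (.leaf (nat_lit 0x296)) (.leaf (nat_lit 0x244)))))) (.node 8 (.node 4 (.node 2 (.node 1 (.leaf (nat_lit 0x270)) (.leaf (nat_lit 0x271))) (.node 1 (.leaf (nat_lit 0x245)) (.leaf (nat_lit 0x273)))) (.node 2 (.node 1 (.leaf (nat_lit 0x274)) (.leaf (nat_lit 0x275))) (.node 1 (.leaf (nat_lit 0x276)) (.leaf (nat_lit 0x298))))) (.node 4 (.node 2 (.node 1 (.leaf (nat_lit 0x278)) (.leaf (nat_lit 0x24a))) (.node 1 (.leaf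 (nat_lit 0x29f)) (.leaf (nat_lit 0x261)))) (.node 2 (.node 1 (.leaf (nat_lit 0x27c)) (.leaf (nat_lit 0x263))) (.node 1 (.leaf (nat_lit 0x27e)) (.leaf (nat_lit 0x262)))))))))

noncomputable def M1g12x5 : Tree :=
  (.node 44 (.node 22 (.node 11 (.node 5 (.node 2 (.node 1 (.leaf (nat_lit 0x280)) (.leaf (nat_lit 0x281))) (.node 1 (.leaf (nat_lit 0x282)) (.node 1 (.leaf (nat_lit 0x283)) (.leaf (nat_lit 0x253))))) (.node 3 (.node 1 (.leaf (nat_lit 0x260)) (.node 1 (.leaf (nat_lit 0x2ac)) (.leaf (nat_lit 0x255)))) (.node 1 (.leaf (nat_lit 0x25d)) (.node 1 (.leaf (nat_lit 0x2af)) (.leaf (nat_lit 0x25a)))))) (.node 5 (.node 2 (.node 1 (.leaf (nat_lit 0x25e)) (.leaf (nat_lit 0x2a6))) (.node 1 (.leaf (nat_lit 0x25f)) (.node 1 (.leaf (nat_lit 0x2ad)) (.leaf (nat_lit 0x2b0))))) (.node 3 (.node 1 (.leaf (nat_lit 0x2a0)) (.node 1 (.leaf (nat_lit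 0x2a2)) (.leaf (nat_lit 0x266)))) (.node 1 (.leaf (nat_lit 0x26d)) (.node 1 (.leaf (nat_lit 0x2b4)) (.leaf (nat_lit 0x269))))))) (.node 11 (.node 5 (.node 2 (.node 1 (.leaf (nat_lit 0x26e)) (.leaf (nat_lit 0x2b5))) (.node 1 (.leaf (nat_lit 0x277)) (.node 1 (.leaf (nat_lit 0x299)) (.leaf (nat_lit 0x29a))))) (.node 3 (.node 1 (.leaf (nat_lit 0x29b)) (.node 1 (.leaf (nat_lit 0x29c)) (.leaf (nat_lit 0x2b8)))) (.node 1 (.leaf (nat_lit 0x29e)) (.node 1 (.leaf (nat_lit 0x27a)) (.leaf (nat_lit 0x290)))))) (.node 5 (.node 2 (.node 1 (.leaf (nat_lit 0x2a1)) (.leaf (nat_lit 0x291))) (.node 1 (.leaf (nat_lit 0x2a3)) (.node 1 (.leaf (nat_lit 0x2a4)) (.leaf (nat_lit 0x2a5))))) (.node 3 (.node 1 (.leaf (nat_lit 0x28c)) (.node 1 (.leaf (nat_lit 0x2a7)) (.leaf (nat_lit 0x2a8)))) (.node 1 (.leaf (nat_lit 0x2a9)) (.node 1 (.leaf (nat_lit 0x2aa))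 (.leaf (nat_lit 0x2ab)))))))) (.node 22 (.node 11 (.node 5 (.node 2 (.node 1 (.leaf (nat_lit 0x286)) (.leaf (nat_lit 0x28e))) (.node 1 (.leaf (nat_lit 0x2c4)) (.node 1 (.leaf (nat_lit 0x289)) (.leaf (nat_lit 0x28f))))) (.node 3 (.node 1 (.leaf (nat_lit 0x2bf)) (.node 1 (.leaf (nat_lit 0x2c5)) (.leaf (nat_lit 0x2bc)))) (.node 1 (.leaf (nat_lit 0x294)) (.node 1 (.leaf (nat_lit 0x297)) (.leaf (nat_lit 0x2c9)))))) (.node 5 (.node 2 (.node 1 (.leaf (nat_lit 0x2ca)) (.leaf (nat_lit 0x29d))) (.node 1 (.leaf (nat_lit 0x2b9)) (.node 1 (.leaf (nat_lit 0x2ba)) (.leaf (nat_lit 0x2bb))))) (.node 3 (.node 1 (.leaf (nat_lit 0x2b3)) (.node 1 (.leaf (nat_lit 0x2bd)) (.leaf (nat_lit 0x2be)))) (.node 1 (.leaf (nat_lit 0x2b1)) (.node 1 (.leaf (nat_lit 0x2c0)) (.leaf (nat_lit 0x2c1))))))) (.node 11 (.node 5 (.node 2 (.node 1 (.leaf (nat_lit 0x2c2))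 (.leaf (nat_lit 0x2c3))) (.node 1 (.leaf (nat_lit 0x2ae)) (.node 1 (.leaf (nat_lit 0x2b2)) (.leaf (nat_lit 0x2d1))))) (.node 3 (.node 1 (.leaf (nat_lit 0x2cc)) (.node 1 (.leaf (nat_lit 0x2d2)) (.leaf (nat_lit 0x2b6)))) (.node 1 (.leaf (nat_lit 0x2b7)) (.node 1 (.leaf (nat_lit 0x2cb)) (.leaf (nat_lit 0x2c7)))))) (.node 5 (.node 2 (.node 1 (.leaf (nat_lit 0x2cd)) (.leaf (nat_lit 0x2ce))) (.node 1 (.leaf (nat_lit 0x2cf)) (.node 1 (.leaf (nat_lit 0x2d0)) (.leaf (nat_lit 0x2c6))))) (.node 3 (.node 1 (.leaf (nat_lit 0x2c8)) (.node 1 (.leaf (nat_lit 0x2d4)) (.leaf (nat_lit 0x2d3)))) (.node 1 (.leaf (nat_lit 0x2d5)) (.node 1 (.leaf (nat_lit 0x2d6)) (.leaf (nat_lit 0x2d7)))))))))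

noncomputable def M1g12x : Tree :=
  (.node 384 (.node 128 M1g12x0 (.node 128 M1g12x1 M1g12x2)) (.node 128 M1g12x3 (.node 128 M1g12x4 M1g12x5)))

def m1 : Model := ⟨728, [M1g0x, M1g1x, M1g2x, M1g3x, M1id, M1id, M1g6x, M1g7x, M1id, M1id, M1id, M1g11x, M1g12x, M1id, M1id, M1id]⟩

theorem m1_ok : modelOK m1 m1.n = true := by decide +kernel

noncomputable def M2id0 : Tree :=
  (.node 64 (.node 32 (.node 16 (.node 8 (.node 4 (.node 2 (.node 1 (.leaf (nat_lit 0)) (.leaf (nat_lit 1))) (.node 1 (.leaf (nat_lit 2)) (.leaf (nat_lit 3)))) (.node 2 (.node 1 (.leaf (nat_lit 4)) (.leaf (nat_lit 5))) (.node 1 (.leaf (nat_lit 6)) (.leaf (nat_lit 7))))) (.node 4 (.node 2 (.node 1 (.leaf (nat_lit 8)) (.leaf (nat_lit 9))) (.node 1 (.leaf (nat_lit 0xa)) (.leaf (nat_lit 0xb)))) (.node 2 (.node 1 (.leaf (nat_lit 0xc)) (.leaf (nat_lit 0xd))) (.node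 1 (.leaf (nat_lit 0xe)) (.leaf (nat_lit 0xf)))))) (.node 8 (.node 4 (.node 2 (.node 1 (.leaf (nat_lit 0x10)) (.leaf (nat_lit 0x11))) (.node 1 (.leaf (nat_lit 0x12)) (.leaf (nat_lit 0x13)))) (.node 2 (.node 1 (.leaf (nat_lit 0x14)) (.leaf (nat_lit 0x15))) (.node 1 (.leaf (nat_lit 0x16)) (.leaf (nat_lit 0x17))))) (.node 4 (.node 2 (.node 1 (.leaf (nat_lit 0x18)) (.leaf (nat_lit 0x19))) (.node 1 (.leaf (nat_lit 0x1a)) (.leaf (nat_lit 0x1b)))) (.node 2 (.node 1 (.leaf (nat_lit 0x1c)) (.leaf (nat_lit 0x1d))) (.node 1 (.leaf (nat_lit 0x1e)) (.leaf (nat_lit 0x1f))))))) (.node 16 (.node 8 (.node 4 (.node 2 (.node 1 (.leaf (nat_lit 0x20)) (.leaf (nat_lit 0x21))) (.node 1 (.leaf (nat_lit 0x22)) (.leaf (nat_lit 0x23)))) (.node 2 (.node 1 (.leaf (nat_lit 0x24)) (.leaf (nat_lit 0x25))) (.node 1 (.leaf (nat_lit 0x26)) (.leaf (nat_lit 0x27)))))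 (.node 4 (.node 2 (.node 1 (.leaf (nat_lit 0x28)) (.leaf (nat_lit 0x29))) (.node 1 (.leaf (nat_lit 0x2a)) (.leaf (nat_lit 0x2b)))) (.node 2 (.node 1 (.leaf (nat_lit 0x2c)) (.leaf (nat_lit 0x2d))) (.node 1 (.leaf (nat_lit 0x2e)) (.leaf (nat_lit 0x2f)))))) (.node 8 (.node 4 (.node 2 (.node 1 (.leaf (nat_lit 0x30)) (.leaf (nat_lit 0x31))) (.node 1 (.leaf (nat_lit 0x32)) (.leaf (nat_lit 0x33)))) (.node 2 (.node 1 (.leaf (nat_lit 0x34)) (.leaf (nat_lit 0x35))) (.node 1 (.leaf (nat_lit 0x36)) (.leaf (nat_lit 0x37))))) (.node 4 (.node 2 (.node 1 (.leaf (nat_lit 0x38)) (.leaf (nat_lit 0x39))) (.node 1 (.leaf (nat_lit 0x3a)) (.leaf (nat_lit 0x3b)))) (.node 2 (.node 1 (.leaf (nat_lit 0x3c)) (.leaf (nat_lit 0x3d))) (.node 1 (.leaf (nat_lit 0x3e)) (.leaf (nat_lit 0x3f)))))))) (.node 32 (.node 16 (.node 8 (.node 4 (.node 2 (.node 1 (.leaf (nat_lit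 0x40)) (.leaf (nat_lit 0x41))) (.node 1 (.leaf (nat_lit 0x42)) (.leaf (nat_lit 0x43)))) (.node 2 (.node 1 (.leaf (nat_lit 0x44)) (.leaf (nat_lit 0x45))) (.node 1 (.leaf (nat_lit 0x46)) (.leaf (nat_lit 0x47))))) (.node 4 (.node 2 (.node 1 (.leaf (nat_lit 0x48)) (.leaf (nat_lit 0x49))) (.node 1 (.leaf (nat_lit 0x4a)) (.leaf (nat_lit 0x4b)))) (.node 2 (.node 1 (.leaf (nat_lit 0x4c)) (.leaf (nat_lit 0x4d))) (.node 1 (.leaf (nat_lit 0x4e)) (.leaf (nat_lit 0x4f)))))) (.node 8 (.node 4 (.node 2 (.node 1 (.leaf (nat_lit 0x50)) (.leaf (nat_lit 0x51))) (.node 1 (.leaf (nat_lit 0x52)) (.leaf (nat_lit 0x53)))) (.node 2 (.node 1 (.leaf (nat_lit 0x54)) (.leaf (nat_lit 0x55))) (.node 1 (.leaf (nat_lit 0x56)) (.leaf (nat_lit 0x57))))) (.node 4 (.node 2 (.node 1 (.leaf (nat_lit 0x58)) (.leaf (nat_lit 0x59))) (.node 1 (.leaf (nat_lit 0x5a)) (.leaf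 (nat_lit 0x5b)))) (.node 2 (.node 1 (.leaf (nat_lit 0x5c)) (.leaf (nat_lit 0x5d))) (.node 1 (.leaf (nat_lit 0x5e)) (.leaf (nat_lit 0x5f))))))) (.node 16 (.node 8 (.node 4 (.node 2 (.node 1 (.leaf (nat_lit 0x60)) (.leaf (nat_lit 0x61))) (.node 1 (.leaf (nat_lit 0x62)) (.leaf (nat_lit 0x63)))) (.node 2 (.node 1 (.leaf (nat_lit 0x64)) (.leaf (nat_lit 0x65))) (.node 1 (.leaf (nat_lit 0x66)) (.leaf (nat_lit 0x67))))) (.node 4 (.node 2 (.node 1 (.leaf (nat_lit 0x68)) (.leaf (nat_lit 0x69))) (.node 1 (.leaf (nat_lit 0x6a)) (.leaf (nat_lit 0x6b)))) (.node 2 (.node 1 (.leaf (nat_lit 0x6c)) (.leaf (nat_lit 0x6d))) (.node 1 (.leaf (nat_lit 0x6e)) (.leaf (nat_lit 0x6f)))))) (.node 8 (.node 4 (.node 2 (.node 1 (.leaf (nat_lit 0x70)) (.leaf (nat_lit 0x71))) (.node 1 (.leaf (nat_lit 0x72)) (.leaf (nat_lit 0x73)))) (.node 2 (.node 1 (.leaf (nat_lit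 0x74)) (.leaf (nat_lit 0x75))) (.node 1 (.leaf (nat_lit 0x76)) (.leaf (nat_lit 0x77))))) (.node 4 (.node 2 (.node 1 (.leaf (nat_lit 0x78)) (.leaf (nat_lit 0x79))) (.node 1 (.leaf (nat_lit 0x7a)) (.leaf (nat_lit 0x7b)))) (.node 2 (.node 1 (.leaf (nat_lit 0x7c)) (.leaf (nat_lit 0x7d))) (.node 1 (.leaf (nat_lit 0x7e)) (.leaf (nat_lit 0x7f)))))))))

noncomputable def M2id1 : Tree :=
  (.node 63 (.node 31 (.node 15 (.node 7 (.node 3 (.node 1 (.leaf (nat_lit 0x80)) (.node 1 (.leaf (nat_lit 0x81)) (.leaf (nat_lit 0x82)))) (.node 2 (.node 1 (.leaf (nat_lit 0x83)) (.leaf (nat_lit 0x84))) (.node 1 (.leaf (nat_lit 0x85)) (.leaf (nat_lit 0x86))))) (.node 4 (.node 2 (.node 1 (.leaf (nat_lit 0x87)) (.leaf (nat_lit 0x88))) (.node 1 (.leaf (nat_lit 0x89)) (.leaf (nat_lit 0x8a)))) (.node 2 (.node 1 (.leaf (nat_lit 0x8b)) (.leaf (nat_lit 0x8c)))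 (.node 1 (.leaf (nat_lit 0x8d)) (.leaf (nat_lit 0x8e)))))) (.node 8 (.node 4 (.node 2 (.node 1 (.leaf (nat_lit 0x8f)) (.leaf (nat_lit 0x90))) (.node 1 (.leaf (nat_lit 0x91)) (.leaf (nat_lit 0x92)))) (.node 2 (.node 1 (.leaf (nat_lit 0x93)) (.leaf (nat_lit 0x94))) (.node 1 (.leaf (nat_lit 0x95)) (.leaf (nat_lit 0x96))))) (.node 4 (.node 2 (.node 1 (.leaf (nat_lit 0x97)) (.leaf (nat_lit 0x98))) (.node 1 (.leaf (nat_lit 0x99)) (.leaf (nat_lit 0x9a)))) (.node 2 (.node 1 (.leaf (nat_lit 0x9b)) (.leaf (nat_lit 0x9c))) (.node 1 (.leaf (nat_lit 0x9d)) (.leaf (nat_lit 0x9e))))))) (.node 16 (.node 8 (.node 4 (.node 2 (.node 1 (.leaf (nat_lit 0x9f)) (.leaf (nat_lit 0xa0))) (.node 1 (.leaf (nat_lit 0xa1)) (.leaf (nat_lit 0xa2)))) (.node 2 (.node 1 (.leaf (nat_lit 0xa3)) (.leaf (nat_lit 0xa4))) (.node 1 (.leaf (nat_lit 0xa5)) (.leaf (nat_lit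 0xa6))))) (.node 4 (.node 2 (.node 1 (.leaf (nat_lit 0xa7)) (.leaf (nat_lit 0xa8))) (.node 1 (.leaf (nat_lit 0xa9)) (.leaf (nat_lit 0xaa)))) (.node 2 (.node 1 (.leaf (nat_lit 0xab)) (.leaf (nat_lit 0xac))) (.node 1 (.leaf (nat_lit 0xad)) (.leaf (nat_lit 0xae)))))) (.node 8 (.node 4 (.node 2 (.node 1 (.leaf (nat_lit 0xaf)) (.leaf (nat_lit 0xb0))) (.node 1 (.leaf (nat_lit 0xb1)) (.leaf (nat_lit 0xb2)))) (.node 2 (.node 1 (.leaf (nat_lit 0xb3)) (.leaf (nat_lit 0xb4))) (.node 1 (.leaf (nat_lit 0xb5)) (.leaf (nat_lit 0xb6))))) (.node 4 (.node 2 (.node 1 (.leaf (nat_lit 0xb7)) (.leaf (nat_lit 0xb8))) (.node 1 (.leaf (nat_lit 0xb9)) (.leaf (nat_lit 0xba)))) (.node 2 (.node 1 (.leaf (nat_lit 0xbb)) (.leaf (nat_lit 0xbc))) (.node 1 (.leaf (nat_lit 0xbd)) (.leaf (nat_lit 0xbe)))))))) (.node 32 (.node 16 (.node 8 (.node 4 (.node 2 (.node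 1 (.leaf (nat_lit 0xbf)) (.leaf (nat_lit 0xc0))) (.node 1 (.leaf (nat_lit 0xc1)) (.leaf (nat_lit 0xc2)))) (.node 2 (.node 1 (.leaf (nat_lit 0xc3)) (.leaf (nat_lit 0xc4))) (.node 1 (.leaf (nat_lit 0xc5)) (.leaf (nat_lit 0xc6))))) (.node 4 (.node 2 (.node 1 (.leaf (nat_lit 0xc7)) (.leaf (nat_lit 0xc8))) (.node 1 (.leaf (nat_lit 0xc9)) (.leaf (nat_lit 0xca)))) (.node 2 (.node 1 (.leaf (nat_lit 0xcb)) (.leaf (nat_lit 0xcc))) (.node 1 (.leaf (nat_lit 0xcd)) (.leaf (nat_lit 0xce)))))) (.node 8 (.node 4 (.node 2 (.node 1 (.leaf (nat_lit 0xcf)) (.leaf (nat_lit 0xd0))) (.node 1 (.leaf (nat_lit 0xd1)) (.leaf (nat_lit 0xd2)))) (.node 2 (.node 1 (.leaf (nat_lit 0xd3)) (.leaf (nat_lit 0xd4))) (.node 1 (.leaf (nat_lit 0xd5)) (.leaf (nat_lit 0xd6))))) (.node 4 (.node 2 (.node 1 (.leaf (nat_lit 0xd7)) (.leaf (nat_lit 0xd8))) (.node 1 (.leaf (nat_lit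 0xd9)) (.leaf (nat_lit 0xda)))) (.node 2 (.node 1 (.leaf (nat_lit 0xdb)) (.leaf (nat_lit 0xdc))) (.node 1 (.leaf (nat_lit 0xdd)) (.leaf (nat_lit 0xde))))))) (.node 16 (.node 8 (.node 4 (.node 2 (.node 1 (.leaf (nat_lit 0xdf)) (.leaf (nat_lit 0xe0))) (.node 1 (.leaf (nat_lit 0xe1)) (.leaf (nat_lit 0xe2)))) (.node 2 (.node 1 (.leaf (nat_lit 0xe3)) (.leaf (nat_lit 0xe4))) (.node 1 (.leaf (nat_lit 0xe5)) (.leaf (nat_lit 0xe6))))) (.node 4 (.node 2 (.node 1 (.leaf (nat_lit 0xe7)) (.leaf (nat_lit 0xe8))) (.node 1 (.leaf (nat_lit 0xe9)) (.leaf (nat_lit 0xea)))) (.node 2 (.node 1 (.leaf (nat_lit 0xeb)) (.leaf (nat_lit 0xec))) (.node 1 (.leaf (nat_lit 0xed)) (.leaf (nat_lit 0xee)))))) (.node 8 (.node 4 (.node 2 (.node 1 (.leaf (nat_lit 0xef)) (.leaf (nat_lit 0xf0))) (.node 1 (.leaf (nat_lit 0xf1)) (.leaf (nat_lit 0xf2)))) (.node 2 (.node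 1 (.leaf (nat_lit 0xf3)) (.leaf (nat_lit 0xf4))) (.node 1 (.leaf (nat_lit 0xf5)) (.leaf (nat_lit 0xf6))))) (.node 4 (.node 2 (.node 1 (.leaf (nat_lit 0xf7)) (.leaf (nat_lit 0xf8))) (.node 1 (.leaf (nat_lit 0xf9)) (.leaf (nat_lit 0xfa)))) (.node 2 (.node 1 (.leaf (nat_lit 0xfb)) (.leaf (nat_lit 0xfc))) (.node 1 (.leaf (nat_lit 0xfd)) (.leaf (nat_lit 0xfe)))))))))

noncomputable def M2id : Tree :=
  (.node 128 M2id0 M2id1)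

noncomputable def M2g0x0 : Tree :=
  (.node 64 (.node 32 (.node 16 (.node 8 (.node 4 (.node 2 (.node 1 (.leaf (nat_lit 0)) (.leaf (nat_lit 1))) (.node 1 (.leaf (nat_lit 2)) (.leaf (nat_lit 3)))) (.node 2 (.node 1 (.leaf (nat_lit 6)) (.leaf (nat_lit 5))) (.node 1 (.leaf (nat_lit 4)) (.leaf (nat_lit 0xb))))) (.node 4 (.node 2 (.node 1 (.leaf (nat_lit 8)) (.leaf (nat_lit 9))) (.node 1 (.leaf (nat_lit 0xa)) (.leaf (nat_lit 7)))) (.node 2 (.node 1 (.leaf (nat_lit 0x11)) (.leaf (nat_lit 0xd))) (.node 1 (.leaf (nat_lit 0x16)) (.leaf (nat_lit 0xf)))))) (.node 8 (.node 4 (.node 2 (.node 1 (.leaf (nat_lit 0x10)) (.leaf (nat_lit 0xc))) (.node 1 (.leaf (nat_lit 0x1a)) (.leaf (nat_lit 0x1b)))) (.node 2 (.node 1 (.leaf (nat_lit 0x14)) (.leaf (nat_lit 0x15))) (.node 1 (.leaf (nat_lit 0xe)) (.leaf (nat_lit 0x21))))) (.node 4 (.node 2 (.node 1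 (.leaf (nat_lit 0x18)) (.leaf (nat_lit 0x19))) (.node 1 (.leaf (nat_lit 0x12)) (.leaf (nat_lit 0x13)))) (.node 2 (.node 1 (.leaf (nat_lit 0x28)) (.leaf (nat_lit 0x29))) (.node 1 (.leaf (nat_lit 0x1e)) (.leaf (nat_lit 0x1f))))))) (.node 16 (.node 8 (.node 4 (.node 2 (.node 1 (.leaf (nat_lit 0x20)) (.leaf (nat_lit 0x17))) (.node 1 (.leaf (nat_lit 0x30)) (.leaf (nat_lit 0x23)))) (.node 2 (.node 1 (.leaf (nat_lit 0x24)) (.leaf (nat_lit 0x25))) (.node 1 (.leaf (nat_lit 0x26)) (.leaf (nat_lit 0x27))))) (.node 4 (.node 2 (.node 1 (.leaf (nat_lit 0x1c)) (.leaf (nat_lit 0x1d))) (.node 1 (.leaf (nat_lit 0x3a)) (.leaf (nat_lit 0x3b)))) (.node 2 (.node 1 (.leaf (nat_lit 0x2c)) (.leaf (nat_lit 0x2d))) (.node 1 (.leaf (nat_lit 0x2e)) (.leaf (nat_lit 0x2f)))))) (.node 8 (.node 4 (.node 2 (.node 1 (.leaf (nat_lit 0x22)) (.leaf (nat_lit 0x43)))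 (.node 1 (.leaf (nat_lit 0x45)) (.leaf (nat_lit 0x46)))) (.node 2 (.node 1 (.leaf (nat_lit 0x34)) (.leaf (nat_lit 0x4b))) (.node 1 (.leaf (nat_lit 0x36)) (.leaf (nat_lit 0x37))))) (.node 4 (.node 2 (.node 1 (.leaf (nat_lit 0x38)) (.leaf (nat_lit 0x39))) (.node 1 (.leaf (nat_lit 0x2a)) (.leaf (nat_lit 0x2b)))) (.node 2 (.node 1 (.leaf (nat_lit 0x53)) (.leaf (nat_lit 0x54))) (.node 1 (.leaf (nat_lit 0x57)) (.leaf (nat_lit 0x3f)))))))) (.node 32 (.node 16 (.node 8 (.node 4 (.node 2 (.node 1 (.leaf (nat_lit 0x40)) (.leaf (nat_lit 0x41))) (.node 1 (.leaf (nat_lit 0x42)) (.leaf (nat_lit 0x31)))) (.node 2 (.node 1 (.leaf (nat_lit 0x44)) (.leaf (nat_lit 0x32))) (.node 1 (.leaf (nat_lit 0x33)) (.leaf (nat_lit 0x47))))) (.node 4 (.node 2 (.node 1 (.leaf (nat_lit 0x5b)) (.leaf (nat_lit 0x49))) (.node 1 (.leaf (nat_lit 0x4a)) (.leaf (nat_lit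 0x35)))) (.node 2 (.node 1 (.leaf (nat_lit 0x60)) (.leaf (nat_lit 0x61))) (.node 1 (.leaf (nat_lit 0x4e)) (.leaf (nat_lit 0x4f)))))) (.node 8 (.node 4 (.node 2 (.node 1 (.leaf (nat_lit 0x50)) (.leaf (nat_lit 0x51))) (.node 1 (.leaf (nat_lit 0x52)) (.leaf (nat_lit 0x3c)))) (.node 2 (.node 1 (.leaf (nat_lit 0x3d)) (.leaf (nat_lit 0x55))) (.node 1 (.leaf (nat_lit 0x69)) (.leaf (nat_lit 0x3e))))) (.node 4 (.node 2 (.node 1 (.leaf (nat_lit 0x6c)) (.leaf (nat_lit 0x6d))) (.node 1 (.leaf (nat_lit 0x5a)) (.leaf (nat_lit 0x48)))) (.node 2 (.node 1 (.leaf (nat_lit 0x71)) (.leaf (nat_lit 0x72))) (.node 1 (.leaf (nat_lit 0x5e)) (.leaf (nat_lit 0x5f))))))) (.node 16 (.node 8 (.node 4 (.node 2 (.node 1 (.leaf (nat_lit 0x4c)) (.leaf (nat_lit 0x4d))) (.node 1 (.leaf (nat_lit 0x77)) (.leaf (nat_lit 0x78)))) (.node 2 (.node 1 (.leaf (nat_lit 0x79))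 (.leaf (nat_lit 0x65))) (.node 1 (.leaf (nat_lit 0x66)) (.leaf (nat_lit 0x67))))) (.node 4 (.node 2 (.node 1 (.leaf (nat_lit 0x68)) (.leaf (nat_lit 0x56))) (.node 1 (.leaf (nat_lit 0x6a)) (.leaf (nat_lit 0x6b)))) (.node 2 (.node 1 (.leaf (nat_lit 0x58)) (.leaf (nat_lit 0x59))) (.node 1 (.leaf (nat_lit 0x81)) (.leaf (nat_lit 0x6f)))))) (.node 8 (.node 4 (.node 2 (.node 1 (.leaf (nat_lit 0x70)) (.leaf (nat_lit 0x5c))) (.node 1 (.leaf (nat_lit 0x5d)) (.leaf (nat_lit 0x88)))) (.node 2 (.node 1 (.leaf (nat_lit 0x89)) (.leaf (nat_lit 0x75))) (.node 1 (.leaf (nat_lit 0x76)) (.leaf (nat_lit 0x62))))) (.node 4 (.node 2 (.node 1 (.leaf (nat_lit 0x63)) (.leaf (nat_lit 0x64))) (.node 1 (.leaf (nat_lit 0x8e)) (.leaf (nat_lit 0x8f)))) (.node 2 (.node 1 (.leaf (nat_lit 0x7c)) (.leaf (nat_lit 0x7d))) (.node 1 (.leaf (nat_lit 0x7e)) (.leaf (nat_lit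 0x7f)))))))))

noncomputable def M2g0x1 : Tree :=
  (.node 63 (.node 31 (.node 15 (.node 7 (.node 3 (.node 1 (.leaf (nat_lit 0x80)) (.node 1 (.leaf (nat_lit 0x6e)) (.leaf (nat_lit 0x98)))) (.node 2 (.node 1 (.leaf (nat_lit 0x99)) (.leaf (nat_lit 0x84))) (.node 1 (.leaf (nat_lit 0x85)) (.leaf (nat_lit 0x86))))) (.node 4 (.node 2 (.node 1 (.leaf (nat_lit 0x87)) (.leaf (nat_lit 0x73))) (.node 1 (.leaf (nat_lit 0x74)) (.leaf (nat_lit 0xa0)))) (.node 2 (.node 1 (.leaf (nat_lit 0x8b)) (.leaf (nat_lit 0x8c))) (.node 1 (.leaf (nat_lit 0x8d)) (.leaf (nat_lit 0x7a)))))) (.node 8 (.node 4 (.node 2 (.node 1 (.leaf (nat_lit 0x7b)) (.leaf (nat_lit 0x90))) (.node 1 (.leaf (nat_lit 0xa5)) (.leaf (nat_lit 0x92)))) (.node 2 (.node 1 (.leaf (nat_lit 0x93)) (.leaf (nat_lit 0x94))) (.node 1 (.leaf (nat_lit 0xa9)) (.leaf (nat_lit 0x96))))) (.node 4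 (.node 2 (.node 1 (.leaf (nat_lit 0x97)) (.leaf (nat_lit 0x82))) (.node 1 (.leaf (nat_lit 0x83)) (.leaf (nat_lit 0xaf)))) (.node 2 (.node 1 (.leaf (nat_lit 0xb0)) (.leaf (nat_lit 0x9c))) (.node 1 (.leaf (nat_lit 0x9d)) (.leaf (nat_lit 0x9e))))))) (.node 16 (.node 8 (.node 4 (.node 2 (.node 1 (.leaf (nat_lit 0x9f)) (.leaf (nat_lit 0x8a))) (.node 1 (.leaf (nat_lit 0xa1)) (.leaf (nat_lit 0xa2)))) (.node 2 (.node 1 (.leaf (nat_lit 0xa3)) (.leaf (nat_lit 0xba))) (.node 1 (.leaf (nat_lit 0x91)) (.leaf (nat_lit 0xa6))))) (.node 4 (.node 2 (.node 1 (.leaf (nat_lit 0xbc)) (.leaf (nat_lit 0xa8))) (.node 1 (.leaf (nat_lit 0x95)) (.leaf (nat_lit 0xc0)))) (.node 2 (.node 1 (.leaf (nat_lit 0xab)) (.leaf (nat_lit 0xac))) (.node 1 (.leaf (nat_lit 0xad)) (.leaf (nat_lit 0xae)))))) (.node 8 (.node 4 (.node 2 (.node 1 (.leaf (nat_lit 0x9a)) (.leaf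 (nat_lit 0x9b))) (.node 1 (.leaf (nat_lit 0xc7)) (.leaf (nat_lit 0xc8)))) (.node 2 (.node 1 (.leaf (nat_lit 0xb3)) (.leaf (nat_lit 0xcc))) (.node 1 (.leaf (nat_lit 0xb5)) (.leaf (nat_lit 0xce))))) (.node 4 (.node 2 (.node 1 (.leaf (nat_lit 0xb7)) (.leaf (nat_lit 0xb8))) (.node 1 (.leaf (nat_lit 0xd0)) (.leaf (nat_lit 0xa4)))) (.node 2 (.node 1 (.leaf (nat_lit 0xbb)) (.leaf (nat_lit 0xa7))) (.node 1 (.leaf (nat_lit 0xd4)) (.leaf (nat_lit 0xbe)))))))) (.node 32 (.node 16 (.node 8 (.node 4 (.node 2 (.node 1 (.leaf (nat_lit 0xbf)) (.leaf (nat_lit 0xaa))) (.node 1 (.leaf (nat_lit 0xd9)) (.leaf (nat_lit 0xdb)))) (.node 2 (.node 1 (.leaf (nat_lit 0xdc)) (.leaf (nat_lit 0xc4))) (.node 1 (.leaf (nat_lit 0xc5)) (.leaf (nat_lit 0xc6))))) (.node 4 (.node 2 (.node 1 (.leaf (nat_lit 0xb1)) (.leaf (nat_lit 0xb2))) (.node 1 (.leaf (nat_lit 0xdf))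 (.leaf (nat_lit 0xca)))) (.node 2 (.node 1 (.leaf (nat_lit 0xe1)) (.leaf (nat_lit 0xb4))) (.node 1 (.leaf (nat_lit 0xe2)) (.leaf (nat_lit 0xb6)))))) (.node 8 (.node 4 (.node 2 (.node 1 (.leaf (nat_lit 0xe3)) (.leaf (nat_lit 0xb9))) (.node 1 (.leaf (nat_lit 0xd1)) (.leaf (nat_lit 0xd2)))) (.node 2 (.node 1 (.leaf (nat_lit 0xd3)) (.leaf (nat_lit 0xbd))) (.node 1 (.leaf (nat_lit 0xe9)) (.leaf (nat_lit 0xeb))))) (.node 4 (.node 2 (.node 1 (.leaf (nat_lit 0xd7)) (.leaf (nat_lit 0xd8))) (.node 1 (.leaf (nat_lit 0xc1)) (.leaf (nat_lit 0xda)))) (.node 2 (.node 1 (.leaf (nat_lit 0xc2)) (.leaf (nat_lit 0xc3))) (.node 1 (.leaf (nat_lit 0xdd)) (.leaf (nat_lit 0xde))))))) (.node 16 (.node 8 (.node 4 (.node 2 (.node 1 (.leaf (nat_lit 0xc9)) (.leaf (nat_lit 0xe0))) (.node 1 (.leaf (nat_lit 0xcb)) (.leaf (nat_lit 0xcd)))) (.node 2 (.node 1 (.leaf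 (nat_lit 0xcf)) (.leaf (nat_lit 0xe4))) (.node 1 (.leaf (nat_lit 0xed)) (.leaf (nat_lit 0xe6))))) (.node 4 (.node 2 (.node 1 (.leaf (nat_lit 0xe7)) (.leaf (nat_lit 0xe8))) (.node 1 (.leaf (nat_lit 0xd5)) (.leaf (nat_lit 0xea)))) (.node 2 (.node 1 (.leaf (nat_lit 0xd6)) (.leaf (nat_lit 0xec))) (.node 1 (.leaf (nat_lit 0xe5)) (.leaf (nat_lit 0xf3)))))) (.node 8 (.node 4 (.node 2 (.node 1 (.leaf (nat_lit 0xf5)) (.leaf (nat_lit 0xf0))) (.node 1 (.leaf (nat_lit 0xf1)) (.leaf (nat_lit 0xf2)))) (.node 2 (.node 1 (.leaf (nat_lit 0xee)) (.leaf (nat_lit 0xf4))) (.node 1 (.leaf (nat_lit 0xef)) (.leaf (nat_lit 0xf6))))) (.node 4 (.node 2 (.node 1 (.leaf (nat_lit 0xf7)) (.leaf (nat_lit 0xf8))) (.node 1 (.leaf (nat_lit 0xfa)) (.leaf (nat_lit 0xf9)))) (.node 2 (.node 1 (.leaf (nat_lit 0xfb)) (.leaf (nat_lit 0xfc))) (.node 1 (.leaf (nat_lit 0xfd))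 (.leaf (nat_lit 0xfe)))))))))

noncomputable def M2g0x : Tree :=
  (.node 128 M2g0x0 M2g0x1)

noncomputable def M2g1x0 : Tree :=
  (.node 64 (.node 32 (.node 16 (.node 8 (.node 4 (.node 2 (.node 1 (.leaf (nat_lit 0)) (.leaf (nat_lit 1))) (.node 1 (.leaf (nat_lit 4)) (.leaf (nat_lit 3)))) (.node 2 (.node 1 (.leaf (nat_lit 2)) (.leaf (nat_lit 7))) (.node 1 (.leaf (nat_lit 6)) (.leaf (nat_lit 5))))) (.node 4 (.node 2 (.node 1 (.leaf (nat_lit 0xc)) (.leaf (nat_lit 9))) (.node 1 (.leaf (nat_lit 0xa)) (.leaf (nat_lit 0xb)))) (.node 2 (.node 1 (.leaf (nat_lit 8)) (.leaf (nat_lit 0xd))) (.node 1 (.leaf (nat_lit 0xe)) (.leaf (nat_lit 0xf)))))) (.node 8 (.node 4 (.node 2 (.node 1 (.leaf (nat_lit 0x10)) (.leaf (nat_lit 0x11))) (.node 1 (.leaf (nat_lit 0x12)) (.leaf (nat_lit 0x13)))) (.node 2 (.node 1 (.leaf (nat_lit 0x14)) (.leaf (nat_lit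 0x15))) (.node 1 (.leaf (nat_lit 0x20)) (.leaf (nat_lit 0x17))))) (.node 4 (.node 2 (.node 1 (.leaf (nat_lit 0x18)) (.leaf (nat_lit 0x19))) (.node 1 (.leaf (nat_lit 0x25)) (.leaf (nat_lit 0x26)))) (.node 2 (.node 1 (.leaf (nat_lit 0x1c)) (.leaf (nat_lit 0x1d))) (.node 1 (.leaf (nat_lit 0x1e)) (.leaf (nat_lit 0x1f))))))) (.node 16 (.node 8 (.node 4 (.node 2 (.node 1 (.leaf (nat_lit 0x16)) (.leaf (nat_lit 0x2f))) (.node 1 (.leaf (nat_lit 0x22)) (.leaf (nat_lit 0x32)))) (.node 2 (.node 1 (.leaf (nat_lit 0x33)) (.leaf (nat_lit 0x1a))) (.node 1 (.leaf (nat_lit 0x1b)) (.leaf (nat_lit 0x35))))) (.node 4 (.node 2 (.node 1 (.leaf (nat_lit 0x36)) (.leaf (nat_lit 0x37))) (.node 1 (.leaf (nat_lit 0x2a)) (.leaf (nat_lit 0x2b)))) (.node 2 (.node 1 (.leaf (nat_lit 0x3e)) (.leaf (nat_lit 0x2d))) (.node 1 (.leaf (nat_lit 0x2e)) (.leaf (nat_lit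 0x21)))))) (.node 8 (.node 4 (.node 2 (.node 1 (.leaf (nat_lit 0x42)) (.leaf (nat_lit 0x44))) (.node 1 (.leaf (nat_lit 0x23)) (.leaf (nat_lit 0x24)))) (.node 2 (.node 1 (.leaf (nat_lit 0x34)) (.leaf (nat_lit 0x27))) (.node 1 (.leaf (nat_lit 0x28)) (.leaf (nat_lit 0x29))))) (.node 4 (.node 2 (.node 1 (.leaf (nat_lit 0x4c)) (.leaf (nat_lit 0x4d))) (.node 1 (.leaf (nat_lit 0x4e)) (.leaf (nat_lit 0x4f)))) (.node 2 (.node 1 (.leaf (nat_lit 0x55)) (.leaf (nat_lit 0x3d))) (.node 1 (.leaf (nat_lit 0x2c)) (.leaf (nat_lit 0x58)))))))) (.node 32 (.node 16 (.node 8 (.node 4 (.node 2 (.node 1 (.leaf (nat_lit 0x40)) (.leaf (nat_lit 0x41))) (.node 1 (.leaf (nat_lit 0x30)) (.leaf (nat_lit 0x43)))) (.node 2 (.node 1 (.leaf (nat_lit 0x31)) (.leaf (nat_lit 0x45))) (.node 1 (.leaf (nat_lit 0x46)) (.leaf (nat_lit 0x47))))) (.node 4 (.node 2 (.node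 1 (.leaf (nat_lit 0x48)) (.leaf (nat_lit 0x49))) (.node 1 (.leaf (nat_lit 0x4a)) (.leaf (nat_lit 0x4b)))) (.node 2 (.node 1 (.leaf (nat_lit 0x38)) (.leaf (nat_lit 0x39))) (.node 1 (.leaf (nat_lit 0x3a)) (.leaf (nat_lit 0x3b)))))) (.node 8 (.node 4 (.node 2 (.node 1 (.leaf (nat_lit 0x62)) (.leaf (nat_lit 0x63))) (.node 1 (.leaf (nat_lit 0x64)) (.leaf (nat_lit 0x53)))) (.node 2 (.node 1 (.leaf (nat_lit 0x65)) (.leaf (nat_lit 0x3c))) (.node 1 (.leaf (nat_lit 0x6a)) (.leaf (nat_lit 0x57))))) (.node 4 (.node 2 (.node 1 (.leaf (nat_lit 0x3f)) (.leaf (nat_lit 0x59))) (.node 1 (.leaf (nat_lit 0x5a)) (.leaf (nat_lit 0x6f)))) (.node 2 (.node 1 (.leaf (nat_lit 0x5c)) (.leaf (nat_lit 0x5d))) (.node 1 (.leaf (nat_lit 0x5e)) (.leaf (nat_lit 0x5f))))))) (.node 16 (.node 8 (.node 4 (.node 2 (.node 1 (.leaf (nat_lit 0x60)) (.leaf (nat_lit 0x61)))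 (.node 1 (.leaf (nat_lit 0x50)) (.leaf (nat_lit 0x51)))) (.node 2 (.node 1 (.leaf (nat_lit 0x52)) (.leaf (nat_lit 0x54))) (.node 1 (.leaf (nat_lit 0x66)) (.leaf (nat_lit 0x7a))))) (.node 4 (.node 2 (.node 1 (.leaf (nat_lit 0x7b)) (.leaf (nat_lit 0x69))) (.node 1 (.leaf (nat_lit 0x56)) (.leaf (nat_lit 0x6b)))) (.node 2 (.node 1 (.leaf (nat_lit 0x6c)) (.leaf (nat_lit 0x7f))) (.node 1 (.leaf (nat_lit 0x6e)) (.leaf (nat_lit 0x5b)))))) (.node 8 (.node 4 (.node 2 (.node 1 (.leaf (nat_lit 0x83)) (.leaf (nat_lit 0x84))) (.node 1 (.leaf (nat_lit 0x85)) (.leaf (nat_lit 0x73)))) (.node 2 (.node 1 (.leaf (nat_lit 0x74)) (.leaf (nat_lit 0x75))) (.node 1 (.leaf (nat_lit 0x76)) (.leaf (nat_lit 0x77))))) (.node 4 (.node 2 (.node 1 (.leaf (nat_lit 0x78)) (.leaf (nat_lit 0x79))) (.node 1 (.leaf (nat_lit 0x67)) (.leaf (nat_lit 0x68)))) (.node 2 (.node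 1 (.leaf (nat_lit 0x7c)) (.leaf (nat_lit 0x91))) (.node 1 (.leaf (nat_lit 0x7e)) (.leaf (nat_lit 0x6d)))))))))

noncomputable def M2g1x1 : Tree :=
  (.node 63 (.node 31 (.node 15 (.node 7 (.node 3 (.node 1 (.leaf (nat_lit 0x95)) (.node 1 (.leaf (nat_lit 0x96)) (.leaf (nat_lit 0x82)))) (.node 2 (.node 1 (.leaf (nat_lit 0x70)) (.leaf (nat_lit 0x71))) (.node 1 (.leaf (nat_lit 0x72)) (.leaf (nat_lit 0x9a))))) (.node 4 (.node 2 (.node 1 (.leaf (nat_lit 0x9b)) (.leaf (nat_lit 0x9c))) (.node 1 (.leaf (nat_lit 0x9d)) (.leaf (nat_lit 0x8a)))) (.node 2 (.node 1 (.leaf (nat_lit 0x8b)) (.leaf (nat_lit 0x8c))) (.node 1 (.leaf (nat_lit 0x8d)) (.leaf (nat_lit 0x8e)))))) (.node 8 (.node 4 (.node 2 (.node 1 (.leaf (nat_lit 0x8f)) (.leaf (nat_lit 0x90))) (.node 1 (.leaf (nat_lit 0x7d)) (.leaf (nat_lit 0x92)))) (.node 2 (.node 1 (.leaf (nat_lit 0x93))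 (.leaf (nat_lit 0x94))) (.node 1 (.leaf (nat_lit 0x80)) (.leaf (nat_lit 0x81))))) (.node 4 (.node 2 (.node 1 (.leaf (nat_lit 0xaa)) (.leaf (nat_lit 0xab))) (.node 1 (.leaf (nat_lit 0x99)) (.leaf (nat_lit 0x86)))) (.node 2 (.node 1 (.leaf (nat_lit 0x87)) (.leaf (nat_lit 0x88))) (.node 1 (.leaf (nat_lit 0x89)) (.leaf (nat_lit 0xb1))))))) (.node 16 (.node 8 (.node 4 (.node 2 (.node 1 (.leaf (nat_lit 0xb2)) (.leaf (nat_lit 0xb3))) (.node 1 (.leaf (nat_lit 0xb4)) (.leaf (nat_lit 0xa2)))) (.node 2 (.node 1 (.leaf (nat_lit 0xa3)) (.leaf (nat_lit 0xa4))) (.node 1 (.leaf (nat_lit 0xa5)) (.leaf (nat_lit 0xa6))))) (.node 4 (.node 2 (.node 1 (.leaf (nat_lit 0xa7)) (.leaf (nat_lit 0xa8))) (.node 1 (.leaf (nat_lit 0xa9)) (.leaf (nat_lit 0x97)))) (.node 2 (.node 1 (.leaf (nat_lit 0x98)) (.leaf (nat_lit 0xc1))) (.node 1 (.leaf (nat_lit 0xc2))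 (.leaf (nat_lit 0xae)))))) (.node 8 (.node 4 (.node 2 (.node 1 (.leaf (nat_lit 0xaf)) (.leaf (nat_lit 0xb0))) (.node 1 (.leaf (nat_lit 0x9e)) (.leaf (nat_lit 0x9f)))) (.node 2 (.node 1 (.leaf (nat_lit 0xa0)) (.leaf (nat_lit 0xa1))) (.node 1 (.leaf (nat_lit 0xc9)) (.leaf (nat_lit 0xca))))) (.node 4 (.node 2 (.node 1 (.leaf (nat_lit 0xcb)) (.leaf (nat_lit 0xb8))) (.node 1 (.leaf (nat_lit 0xb9)) (.leaf (nat_lit 0xd1)))) (.node 2 (.node 1 (.leaf (nat_lit 0xbb)) (.leaf (nat_lit 0xd2))) (.node 1 (.leaf (nat_lit 0xbd)) (.leaf (nat_lit 0xbe)))))))) (.node 32 (.node 16 (.node 8 (.node 4 (.node 2 (.node 1 (.leaf (nat_lit 0xbf)) (.leaf (nat_lit 0xc0))) (.node 1 (.leaf (nat_lit 0xac)) (.leaf (nat_lit 0xad)))) (.node 2 (.node 1 (.leaf (nat_lit 0xda)) (.leaf (nat_lit 0xc4))) (.node 1 (.leaf (nat_lit 0xc5)) (.leaf (nat_lit 0xc6))))) (.node 4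 (.node 2 (.node 1 (.leaf (nat_lit 0xc7)) (.leaf (nat_lit 0xc8))) (.node 1 (.leaf (nat_lit 0xb5)) (.leaf (nat_lit 0xb6)))) (.node 2 (.node 1 (.leaf (nat_lit 0xb7)) (.leaf (nat_lit 0xcc))) (.node 1 (.leaf (nat_lit 0xe0)) (.leaf (nat_lit 0xce)))))) (.node 8 (.node 4 (.node 2 (.node 1 (.leaf (nat_lit 0xcf)) (.leaf (nat_lit 0xe4))) (.node 1 (.leaf (nat_lit 0xba)) (.leaf (nat_lit 0xbc)))) (.node 2 (.node 1 (.leaf (nat_lit 0xe5)) (.leaf (nat_lit 0xe6))) (.node 1 (.leaf (nat_lit 0xd5)) (.leaf (nat_lit 0xd6))))) (.node 4 (.node 2 (.node 1 (.leaf (nat_lit 0xd7)) (.leaf (nat_lit 0xd8))) (.node 1 (.leaf (nat_lit 0xd9)) (.leaf (nat_lit 0xc3)))) (.node 2 (.node 1 (.leaf (nat_lit 0xdb)) (.leaf (nat_lit 0xdc))) (.node 1 (.leaf (nat_lit 0xdd)) (.leaf (nat_lit 0xde))))))) (.node 16 (.node 8 (.node 4 (.node 2 (.node 1 (.leaf (nat_lit 0xdf)) (.leaf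 (nat_lit 0xcd))) (.node 1 (.leaf (nat_lit 0xe1)) (.leaf (nat_lit 0xe2)))) (.node 2 (.node 1 (.leaf (nat_lit 0xec)) (.leaf (nat_lit 0xd0))) (.node 1 (.leaf (nat_lit 0xd3)) (.leaf (nat_lit 0xd4))))) (.node 4 (.node 2 (.node 1 (.leaf (nat_lit 0xee)) (.leaf (nat_lit 0xef))) (.node 1 (.leaf (nat_lit 0xf0)) (.leaf (nat_lit 0xea)))) (.node 2 (.node 1 (.leaf (nat_lit 0xf1)) (.leaf (nat_lit 0xe3))) (.node 1 (.leaf (nat_lit 0xed)) (.leaf (nat_lit 0xe7)))))) (.node 8 (.node 4 (.node 2 (.node 1 (.leaf (nat_lit 0xe8)) (.leaf (nat_lit 0xe9))) (.node 1 (.leaf (nat_lit 0xeb)) (.leaf (nat_lit 0xf2)))) (.node 2 (.node 1 (.leaf (nat_lit 0xf3)) (.leaf (nat_lit 0xf4))) (.node 1 (.leaf (nat_lit 0xf5)) (.leaf (nat_lit 0xf6))))) (.node 4 (.node 2 (.node 1 (.leaf (nat_lit 0xf7)) (.leaf (nat_lit 0xf8))) (.node 1 (.leaf (nat_lit 0xf9)) (.leaf (nat_lit 0xfb))))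 (.node 2 (.node 1 (.leaf (nat_lit 0xfa)) (.leaf (nat_lit 0xfc))) (.node 1 (.leaf (nat_lit 0xfd)) (.leaf (nat_lit 0xfe)))))))))

noncomputable def M2g1x : Tree :=
  (.node 128 M2g1x0 M2g1x1)

noncomputable def M2g2x0 : Tree :=
  (.node 64 (.node 32 (.node 16 (.node 8 (.node 4 (.node 2 (.node 1 (.leaf (nat_lit 0)) (.leaf (nat_lit 2))) (.node 1 (.leaf (nat_lit 1)) (.leaf (nat_lit 5)))) (.node 2 (.node 1 (.leaf (nat_lit 4)) (.leaf (nat_lit 3))) (.node 1 (.leaf (nat_lit 6)) (.leaf (nat_lit 7))))) (.node 4 (.node 2 (.node 1 (.leaf (nat_lit 8)) (.leaf (nat_lit 9))) (.node 1 (.leaf (nat_lit 0xa)) (.leaf (nat_lit 0xb)))) (.node 2 (.node 1 (.leaf (nat_lit 0x12)) (.leaf (nat_lit 0xd))) (.node 1 (.leaf (nat_lit 0xe)) (.leaf (nat_lit 0xf)))))) (.node 8 (.node 4 (.node 2 (.node 1 (.leaf (nat_lit 0x10)) (.leaf (nat_lit 0x1a))) (.node 1 (.leaf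 (nat_lit 0xc)) (.leaf (nat_lit 0x13)))) (.node 2 (.node 1 (.leaf (nat_lit 0x14)) (.leaf (nat_lit 0x15))) (.node 1 (.leaf (nat_lit 0x16)) (.leaf (nat_lit 0x17))))) (.node 4 (.node 2 (.node 1 (.leaf (nat_lit 0x23)) (.leaf (nat_lit 0x24))) (.node 1 (.leaf (nat_lit 0x11)) (.leaf (nat_lit 0x1b)))) (.node 2 (.node 1 (.leaf (nat_lit 0x1c)) (.leaf (nat_lit 0x1d))) (.node 1 (.leaf (nat_lit 0x2c)) (.leaf (nat_lit 0x1f))))))) (.node 16 (.node 8 (.node 4 (.node 2 (.node 1 (.leaf (nat_lit 0x2e)) (.leaf (nat_lit 0x21))) (.node 1 (.leaf (nat_lit 0x31)) (.leaf (nat_lit 0x18)))) (.node 2 (.node 1 (.leaf (nat_lit 0x19)) (.leaf (nat_lit 0x25))) (.node 1 (.leaf (nat_lit 0x34)) (.leaf (nat_lit 0x27))))) (.node 4 (.node 2 (.node 1 (.leaf (nat_lit 0x28)) (.leaf (nat_lit 0x29))) (.node 1 (.leaf (nat_lit 0x3c)) (.leaf (nat_lit 0x2b)))) (.node 2 (.node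 1 (.leaf (nat_lit 0x1e)) (.leaf (nat_lit 0x3f))) (.node 1 (.leaf (nat_lit 0x20)) (.leaf (nat_lit 0x41)))))) (.node 8 (.node 4 (.node 2 (.node 1 (.leaf (nat_lit 0x43)) (.leaf (nat_lit 0x22))) (.node 1 (.leaf (nat_lit 0x32)) (.leaf (nat_lit 0x33)))) (.node 2 (.node 1 (.leaf (nat_lit 0x26)) (.leaf (nat_lit 0x48))) (.node 1 (.leaf (nat_lit 0x49)) (.leaf (nat_lit 0x4a))))) (.node 4 (.node 2 (.node 1 (.leaf (nat_lit 0x38)) (.leaf (nat_lit 0x39))) (.node 1 (.leaf (nat_lit 0x53)) (.leaf (nat_lit 0x3b)))) (.node 2 (.node 1 (.leaf (nat_lit 0x2a)) (.leaf (nat_lit 0x56))) (.node 1 (.leaf (nat_lit 0x3e)) (.leaf (nat_lit 0x2d)))))))) (.node 32 (.node 16 (.node 8 (.node 4 (.node 2 (.node 1 (.leaf (nat_lit 0x40)) (.leaf (nat_lit 0x2f))) (.node 1 (.leaf (nat_lit 0x42)) (.leaf (nat_lit 0x30)))) (.node 2 (.node 1 (.leaf (nat_lit 0x44)) (.leaf (nat_lit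 0x45))) (.node 1 (.leaf (nat_lit 0x46)) (.leaf (nat_lit 0x47))))) (.node 4 (.node 2 (.node 1 (.leaf (nat_lit 0x35)) (.leaf (nat_lit 0x36))) (.node 1 (.leaf (nat_lit 0x37)) (.leaf (nat_lit 0x5b)))) (.node 2 (.node 1 (.leaf (nat_lit 0x5c)) (.leaf (nat_lit 0x5d))) (.node 1 (.leaf (nat_lit 0x4e)) (.leaf (nat_lit 0x5e)))))) (.node 8 (.node 4 (.node 2 (.node 1 (.leaf (nat_lit 0x66)) (.leaf (nat_lit 0x51))) (.node 1 (.leaf (nat_lit 0x52)) (.leaf (nat_lit 0x3a)))) (.node 2 (.node 1 (.leaf (nat_lit 0x69)) (.leaf (nat_lit 0x55))) (.node 1 (.leaf (nat_lit 0x3d)) (.leaf (nat_lit 0x57))))) (.node 4 (.node 2 (.node 1 (.leaf (nat_lit 0x58)) (.leaf (nat_lit 0x59))) (.node 1 (.leaf (nat_lit 0x5a)) (.leaf (nat_lit 0x4b)))) (.node 2 (.node 1 (.leaf (nat_lit 0x4c)) (.leaf (nat_lit 0x4d))) (.node 1 (.leaf (nat_lit 0x4f)) (.leaf (nat_lit 0x70)))))))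 (.node 16 (.node 8 (.node 4 (.node 2 (.node 1 (.leaf (nat_lit 0x71)) (.leaf (nat_lit 0x72))) (.node 1 (.leaf (nat_lit 0x62)) (.leaf (nat_lit 0x73)))) (.node 2 (.node 1 (.leaf (nat_lit 0x74)) (.leaf (nat_lit 0x65))) (.node 1 (.leaf (nat_lit 0x50)) (.leaf (nat_lit 0x7c))))) (.node 4 (.node 2 (.node 1 (.leaf (nat_lit 0x68)) (.leaf (nat_lit 0x54))) (.node 1 (.leaf (nat_lit 0x6a)) (.leaf (nat_lit 0x6b)))) (.node 2 (.node 1 (.leaf (nat_lit 0x6c)) (.leaf (nat_lit 0x6d))) (.node 1 (.leaf (nat_lit 0x6e)) (.leaf (nat_lit 0x6f)))))) (.node 8 (.node 4 (.node 2 (.node 1 (.leaf (nat_lit 0x5f)) (.leaf (nat_lit 0x60))) (.node 1 (.leaf (nat_lit 0x61)) (.leaf (nat_lit 0x63)))) (.node 2 (.node 1 (.leaf (nat_lit 0x64)) (.leaf (nat_lit 0x86))) (.node 1 (.leaf (nat_lit 0x87)) (.leaf (nat_lit 0x77))))) (.node 4 (.node 2 (.node 1 (.leaf (nat_lit 0x88))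 (.leaf (nat_lit 0x89))) (.node 1 (.leaf (nat_lit 0x7a)) (.leaf (nat_lit 0x8a)))) (.node 2 (.node 1 (.leaf (nat_lit 0x67)) (.leaf (nat_lit 0x92))) (.node 1 (.leaf (nat_lit 0x7e)) (.leaf (nat_lit 0x94)))))))))

noncomputable def M2g2x1 : Tree :=
  (.node 63 (.node 31 (.node 15 (.node 7 (.node 3 (.node 1 (.leaf (nat_lit 0x80)) (.node 1 (.leaf (nat_lit 0x81)) (.leaf (nat_lit 0x82)))) (.node 2 (.node 1 (.leaf (nat_lit 0x83)) (.leaf (nat_lit 0x84))) (.node 1 (.leaf (nat_lit 0x85)) (.leaf (nat_lit 0x75))))) (.node 4 (.node 2 (.node 1 (.leaf (nat_lit 0x76)) (.leaf (nat_lit 0x78))) (.node 1 (.leaf (nat_lit 0x79)) (.leaf (nat_lit 0x7b)))) (.node 2 (.node 1 (.leaf (nat_lit 0x8b)) (.leaf (nat_lit 0x9e))) (.node 1 (.leaf (nat_lit 0x9f)) (.leaf (nat_lit 0x8e)))))) (.node 8 (.node 4 (.node 2 (.node 1 (.leaf (nat_lit 0xa0)) (.leaf (nat_lit 0xa1)))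 (.node 1 (.leaf (nat_lit 0x91)) (.leaf (nat_lit 0x7d)))) (.node 2 (.node 1 (.leaf (nat_lit 0x93)) (.leaf (nat_lit 0x7f))) (.node 1 (.leaf (nat_lit 0xa7)) (.leaf (nat_lit 0xa8))))) (.node 4 (.node 2 (.node 1 (.leaf (nat_lit 0x97)) (.leaf (nat_lit 0x98))) (.node 1 (.leaf (nat_lit 0x99)) (.leaf (nat_lit 0x9a)))) (.node 2 (.node 1 (.leaf (nat_lit 0x9b)) (.leaf (nat_lit 0x9c))) (.node 1 (.leaf (nat_lit 0x9d)) (.leaf (nat_lit 0x8c))))))) (.node 16 (.node 8 (.node 4 (.node 2 (.node 1 (.leaf (nat_lit 0x8d)) (.leaf (nat_lit 0x8f))) (.node 1 (.leaf (nat_lit 0x90)) (.leaf (nat_lit 0xa2)))) (.node 2 (.node 1 (.leaf (nat_lit 0xb5)) (.leaf (nat_lit 0xb6))) (.node 1 (.leaf (nat_lit 0xa5)) (.leaf (nat_lit 0xb7))))) (.node 4 (.node 2 (.node 1 (.leaf (nat_lit 0x95)) (.leaf (nat_lit 0x96))) (.node 1 (.leaf (nat_lit 0xbc)) (.leaf (nat_lit 0xbd))))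 (.node 2 (.node 1 (.leaf (nat_lit 0xbe)) (.leaf (nat_lit 0xac))) (.node 1 (.leaf (nat_lit 0xad)) (.leaf (nat_lit 0xae)))))) (.node 8 (.node 4 (.node 2 (.node 1 (.leaf (nat_lit 0xaf)) (.leaf (nat_lit 0xb0))) (.node 1 (.leaf (nat_lit 0xb1)) (.leaf (nat_lit 0xb2)))) (.node 2 (.node 1 (.leaf (nat_lit 0xb3)) (.leaf (nat_lit 0xb4))) (.node 1 (.leaf (nat_lit 0xa3)) (.leaf (nat_lit 0xa4))))) (.node 4 (.node 2 (.node 1 (.leaf (nat_lit 0xa6)) (.leaf (nat_lit 0xb8))) (.node 1 (.leaf (nat_lit 0xcd)) (.leaf (nat_lit 0xce)))) (.node 2 (.node 1 (.leaf (nat_lit 0xbb)) (.leaf (nat_lit 0xa9))) (.node 1 (.leaf (nat_lit 0xaa)) (.leaf (nat_lit 0xab)))))))) (.node 32 (.node 16 (.node 8 (.node 4 (.node 2 (.node 1 (.leaf (nat_lit 0xd3)) (.leaf (nat_lit 0xd4))) (.node 1 (.leaf (nat_lit 0xd5)) (.leaf (nat_lit 0xd6)))) (.node 2 (.node 1 (.leaf (nat_lit 0xc3))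 (.leaf (nat_lit 0xc4))) (.node 1 (.leaf (nat_lit 0xc5)) (.leaf (nat_lit 0xc6))))) (.node 4 (.node 2 (.node 1 (.leaf (nat_lit 0xc7)) (.leaf (nat_lit 0xc8))) (.node 1 (.leaf (nat_lit 0xc9)) (.leaf (nat_lit 0xca)))) (.node 2 (.node 1 (.leaf (nat_lit 0xcb)) (.leaf (nat_lit 0xcc))) (.node 1 (.leaf (nat_lit 0xb9)) (.leaf (nat_lit 0xba)))))) (.node 8 (.node 4 (.node 2 (.node 1 (.leaf (nat_lit 0xcf)) (.leaf (nat_lit 0xe2))) (.node 1 (.leaf (nat_lit 0xd1)) (.leaf (nat_lit 0xd2)))) (.node 2 (.node 1 (.leaf (nat_lit 0xbf)) (.leaf (nat_lit 0xc0))) (.node 1 (.leaf (nat_lit 0xc1)) (.leaf (nat_lit 0xc2))))) (.node 4 (.node 2 (.node 1 (.leaf (nat_lit 0xe7)) (.leaf (nat_lit 0xe8))) (.node 1 (.leaf (nat_lit 0xe9)) (.leaf (nat_lit 0xea)))) (.node 2 (.node 1 (.leaf (nat_lit 0xeb)) (.leaf (nat_lit 0xdc))) (.node 1 (.leaf (nat_lit 0xdd)) (.leaf (nat_lit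 0xde))))))) (.node 16 (.node 8 (.node 4 (.node 2 (.node 1 (.leaf (nat_lit 0xdf)) (.leaf (nat_lit 0xe0))) (.node 1 (.leaf (nat_lit 0xe1)) (.leaf (nat_lit 0xd0)))) (.node 2 (.node 1 (.leaf (nat_lit 0xe3)) (.leaf (nat_lit 0xe4))) (.node 1 (.leaf (nat_lit 0xe5)) (.leaf (nat_lit 0xe6))))) (.node 4 (.node 2 (.node 1 (.leaf (nat_lit 0xd7)) (.leaf (nat_lit 0xd8))) (.node 1 (.leaf (nat_lit 0xd9)) (.leaf (nat_lit 0xda)))) (.node 2 (.node 1 (.leaf (nat_lit 0xdb)) (.leaf (nat_lit 0xf2))) (.node 1 (.leaf (nat_lit 0xed)) (.leaf (nat_lit 0xee)))))) (.node 8 (.node 4 (.node 2 (.node 1 (.leaf (nat_lit 0xef)) (.leaf (nat_lit 0xf0))) (.node 1 (.leaf (nat_lit 0xf1)) (.leaf (nat_lit 0xec)))) (.node 2 (.node 1 (.leaf (nat_lit 0xf3)) (.leaf (nat_lit 0xf4))) (.node 1 (.leaf (nat_lit 0xf5)) (.leaf (nat_lit 0xf6))))) (.node 4 (.node 2 (.node 1 (.leaf (nat_lit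 0xf7)) (.leaf (nat_lit 0xf8))) (.node 1 (.leaf (nat_lit 0xf9)) (.leaf (nat_lit 0xfa)))) (.node 2 (.node 1 (.leaf (nat_lit 0xfc)) (.leaf (nat_lit 0xfb))) (.node 1 (.leaf (nat_lit 0xfd)) (.leaf (nat_lit 0xfe)))))))))

noncomputable def M2g2x : Tree :=
  (.node 128 M2g2x0 M2g2x1)

noncomputable def M2g3x0 : Tree :=
  (.node 64 (.node 32 (.node 16 (.node 8 (.node 4 (.node 2 (.node 1 (.leaf (nat_lit 1)) (.leaf (nat_lit 0))) (.node 1 (.leaf (nat_lit 2)) (.leaf (nat_lit 3)))) (.node 2 (.node 1 (.leaf (nat_lit 4)) (.leaf (nat_lit 8))) (.node 1 (.leaf (nat_lit 6)) (.leaf (nat_lit 0xc))))) (.node 4 (.node 2 (.node 1 (.leaf (nat_lit 5)) (.leaf (nat_lit 9))) (.node 1 (.leaf (nat_lit 0xa)) (.leaf (nat_lit 0x11)))) (.node 2 (.node 1 (.leaf (nat_lit 7)) (.leaf (nat_lit 0xd))) (.node 1 (.leaf (nat_lit 0xe)) (.leaf (nat_lit 0x18)))))) (.node 8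 (.node 4 (.node 2 (.node 1 (.leaf (nat_lit 0x19)) (.leaf (nat_lit 0xb))) (.node 1 (.leaf (nat_lit 0x12)) (.leaf (nat_lit 0x13)))) (.node 2 (.node 1 (.leaf (nat_lit 0x1e)) (.leaf (nat_lit 0x15))) (.node 1 (.leaf (nat_lit 0x16)) (.leaf (nat_lit 0x22))))) (.node 4 (.node 2 (.node 1 (.leaf (nat_lit 0xf)) (.leaf (nat_lit 0x10))) (.node 1 (.leaf (nat_lit 0x1a)) (.leaf (nat_lit 0x1b)))) (.node 2 (.node 1 (.leaf (nat_lit 0x2a)) (.leaf (nat_lit 0x1d))) (.node 1 (.leaf (nat_lit 0x14)) (.leaf (nat_lit 0x2d))))))) (.node 16 (.node 8 (.node 4 (.node 2 (.node 1 (.leaf (nat_lit 0x20)) (.leaf (nat_lit 0x30))) (.node 1 (.leaf (nat_lit 0x17)) (.leaf (nat_lit 0x23)))) (.node 2 (.node 1 (.leaf (nat_lit 0x24)) (.leaf (nat_lit 0x25))) (.node 1 (.leaf (nat_lit 0x26)) (.leaf (nat_lit 0x27))))) (.node 4 (.node 2 (.node 1 (.leaf (nat_lit 0x3a)) (.leaf (nat_lit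 0x29))) (.node 1 (.leaf (nat_lit 0x1c)) (.leaf (nat_lit 0x3d)))) (.node 2 (.node 1 (.leaf (nat_lit 0x2c)) (.leaf (nat_lit 0x1f))) (.node 1 (.leaf (nat_lit 0x40)) (.leaf (nat_lit 0x42)))))) (.node 8 (.node 4 (.node 2 (.node 1 (.leaf (nat_lit 0x21)) (.leaf (nat_lit 0x31))) (.node 1 (.leaf (nat_lit 0x32)) (.leaf (nat_lit 0x33)))) (.node 2 (.node 1 (.leaf (nat_lit 0x47)) (.leaf (nat_lit 0x35))) (.node 1 (.leaf (nat_lit 0x4e)) (.leaf (nat_lit 0x37))))) (.node 4 (.node 2 (.node 1 (.leaf (nat_lit 0x50)) (.leaf (nat_lit 0x39))) (.node 1 (.leaf (nat_lit 0x28)) (.leaf (nat_lit 0x54)))) (.node 2 (.node 1 (.leaf (nat_lit 0x3c)) (.leaf (nat_lit 0x2b))) (.node 1 (.leaf (nat_lit 0x3e)) (.leaf (nat_lit 0x3f)))))))) (.node 32 (.node 16 (.node 8 (.node 4 (.node 2 (.node 1 (.leaf (nat_lit 0x2e)) (.leaf (nat_lit 0x41))) (.node 1 (.leaf (nat_lit 0x2f))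 (.leaf (nat_lit 0x43)))) (.node 2 (.node 1 (.leaf (nat_lit 0x44)) (.leaf (nat_lit 0x45))) (.node 1 (.leaf (nat_lit 0x46)) (.leaf (nat_lit 0x34))))) (.node 4 (.node 2 (.node 1 (.leaf (nat_lit 0x59)) (.leaf (nat_lit 0x49))) (.node 1 (.leaf (nat_lit 0x5a)) (.leaf (nat_lit 0x4b)))) (.node 2 (.node 1 (.leaf (nat_lit 0x62)) (.leaf (nat_lit 0x4d))) (.node 1 (.leaf (nat_lit 0x36)) (.leaf (nat_lit 0x65)))))) (.node 8 (.node 4 (.node 2 (.node 1 (.leaf (nat_lit 0x38)) (.leaf (nat_lit 0x67))) (.node 1 (.leaf (nat_lit 0x52)) (.leaf (nat_lit 0x53)))) (.node 2 (.node 1 (.leaf (nat_lit 0x3b)) (.leaf (nat_lit 0x55))) (.node 1 (.leaf (nat_lit 0x56)) (.leaf (nat_lit 0x57))))) (.node 4 (.node 2 (.node 1 (.leaf (nat_lit 0x58)) (.leaf (nat_lit 0x48))) (.node 1 (.leaf (nat_lit 0x4a)) (.leaf (nat_lit 0x6d)))) (.node 2 (.node 1 (.leaf (nat_lit 0x5c)) (.leaf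 (nat_lit 0x6e))) (.node 1 (.leaf (nat_lit 0x5e)) (.leaf (nat_lit 0x5f))))))) (.node 16 (.node 8 (.node 4 (.node 2 (.node 1 (.leaf (nat_lit 0x77)) (.leaf (nat_lit 0x61))) (.node 1 (.leaf (nat_lit 0x4c)) (.leaf (nat_lit 0x7a)))) (.node 2 (.node 1 (.leaf (nat_lit 0x64)) (.leaf (nat_lit 0x4f))) (.node 1 (.leaf (nat_lit 0x66)) (.leaf (nat_lit 0x51))))) (.node 4 (.node 2 (.node 1 (.leaf (nat_lit 0x7d)) (.leaf (nat_lit 0x69))) (.node 1 (.leaf (nat_lit 0x6a)) (.leaf (nat_lit 0x6b)))) (.node 2 (.node 1 (.leaf (nat_lit 0x6c)) (.leaf (nat_lit 0x5b))) (.node 1 (.leaf (nat_lit 0x5d)) (.leaf (nat_lit 0x7f)))))) (.node 8 (.node 4 (.node 2 (.node 1 (.leaf (nat_lit 0x80)) (.leaf (nat_lit 0x71))) (.node 1 (.leaf (nat_lit 0x81)) (.leaf (nat_lit 0x73)))) (.node 2 (.node 1 (.leaf (nat_lit 0x82)) (.leaf (nat_lit 0x8b))) (.node 1 (.leaf (nat_lit 0x76))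 (.leaf (nat_lit 0x60))))) (.node 4 (.node 2 (.node 1 (.leaf (nat_lit 0x8e)) (.leaf (nat_lit 0x79))) (.node 1 (.leaf (nat_lit 0x63)) (.leaf (nat_lit 0x91)))) (.node 2 (.node 1 (.leaf (nat_lit 0x7c)) (.leaf (nat_lit 0x68))) (.node 1 (.leaf (nat_lit 0x7e)) (.leaf (nat_lit 0x6f)))))))))

noncomputable def M2g3x1 : Tree :=
  (.node 63 (.node 31 (.node 15 (.node 7 (.node 3 (.node 1 (.leaf (nat_lit 0x70)) (.node 1 (.leaf (nat_lit 0x72)) (.leaf (nat_lit 0x74)))) (.node 2 (.node 1 (.leaf (nat_lit 0x95)) (.leaf (nat_lit 0x84))) (.node 1 (.leaf (nat_lit 0x96)) (.leaf (nat_lit 0x86))))) (.node 4 (.node 2 (.node 1 (.leaf (nat_lit 0x97)) (.leaf (nat_lit 0x88))) (.node 1 (.leaf (nat_lit 0x98)) (.leaf (nat_lit 0x8a)))) (.node 2 (.node 1 (.leaf (nat_lit 0x75)) (.leaf (nat_lit 0xa2))) (.node 1 (.leaf (nat_lit 0x8d)) (.leaf (nat_lit 0x78)))))) (.node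 8 (.node 4 (.node 2 (.node 1 (.leaf (nat_lit 0xa5)) (.leaf (nat_lit 0x90))) (.node 1 (.leaf (nat_lit 0x7b)) (.leaf (nat_lit 0x92)))) (.node 2 (.node 1 (.leaf (nat_lit 0x93)) (.leaf (nat_lit 0x94))) (.node 1 (.leaf (nat_lit 0x83)) (.leaf (nat_lit 0x85))))) (.node 4 (.node 2 (.node 1 (.leaf (nat_lit 0x87)) (.leaf (nat_lit 0x89))) (.node 1 (.leaf (nat_lit 0xa9)) (.leaf (nat_lit 0x9a)))) (.node 2 (.node 1 (.leaf (nat_lit 0xaa)) (.leaf (nat_lit 0x9c))) (.node 1 (.leaf (nat_lit 0xab)) (.leaf (nat_lit 0x9e))))))) (.node 16 (.node 8 (.node 4 (.node 2 (.node 1 (.leaf (nat_lit 0xac)) (.leaf (nat_lit 0xa0))) (.node 1 (.leaf (nat_lit 0xad)) (.leaf (nat_lit 0x8c)))) (.node 2 (.node 1 (.leaf (nat_lit 0xb8)) (.leaf (nat_lit 0xa4))) (.node 1 (.leaf (nat_lit 0x8f)) (.leaf (nat_lit 0xbb))))) (.node 4 (.node 2 (.node 1 (.leaf (nat_lit 0xa7)) (.leaf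 (nat_lit 0xa8))) (.node 1 (.leaf (nat_lit 0x99)) (.leaf (nat_lit 0x9b)))) (.node 2 (.node 1 (.leaf (nat_lit 0x9d)) (.leaf (nat_lit 0x9f))) (.node 1 (.leaf (nat_lit 0xa1)) (.leaf (nat_lit 0xbf)))))) (.node 8 (.node 4 (.node 2 (.node 1 (.leaf (nat_lit 0xaf)) (.leaf (nat_lit 0xc0))) (.node 1 (.leaf (nat_lit 0xb1)) (.leaf (nat_lit 0xc1)))) (.node 2 (.node 1 (.leaf (nat_lit 0xb3)) (.leaf (nat_lit 0xc2))) (.node 1 (.leaf (nat_lit 0xb5)) (.leaf (nat_lit 0xc3))))) (.node 4 (.node 2 (.node 1 (.leaf (nat_lit 0xb7)) (.leaf (nat_lit 0xa3))) (.node 1 (.leaf (nat_lit 0xcf)) (.leaf (nat_lit 0xba)))) (.node 2 (.node 1 (.leaf (nat_lit 0xa6)) (.leaf (nat_lit 0xbc))) (.node 1 (.leaf (nat_lit 0xbd)) (.leaf (nat_lit 0xbe)))))))) (.node 32 (.node 16 (.node 8 (.node 4 (.node 2 (.node 1 (.leaf (nat_lit 0xae)) (.leaf (nat_lit 0xb0))) (.node 1 (.leaf (nat_lit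 0xb2)) (.leaf (nat_lit 0xb4)))) (.node 2 (.node 1 (.leaf (nat_lit 0xb6)) (.leaf (nat_lit 0xd7))) (.node 1 (.leaf (nat_lit 0xc5)) (.leaf (nat_lit 0xd8))))) (.node 4 (.node 2 (.node 1 (.leaf (nat_lit 0xc7)) (.leaf (nat_lit 0xd9))) (.node 1 (.leaf (nat_lit 0xc9)) (.leaf (nat_lit 0xda)))) (.node 2 (.node 1 (.leaf (nat_lit 0xcb)) (.leaf (nat_lit 0xdb))) (.node 1 (.leaf (nat_lit 0xcd)) (.leaf (nat_lit 0xdc)))))) (.node 8 (.node 4 (.node 2 (.node 1 (.leaf (nat_lit 0xb9)) (.leaf (nat_lit 0xe3))) (.node 1 (.leaf (nat_lit 0xd1)) (.leaf (nat_lit 0xd2)))) (.node 2 (.node 1 (.leaf (nat_lit 0xd3)) (.leaf (nat_lit 0xd4))) (.node 1 (.leaf (nat_lit 0xd5)) (.leaf (nat_lit 0xd6))))) (.node 4 (.node 2 (.node 1 (.leaf (nat_lit 0xc4)) (.leaf (nat_lit 0xc6))) (.node 1 (.leaf (nat_lit 0xc8)) (.leaf (nat_lit 0xca)))) (.node 2 (.node 1 (.leaf (nat_lit 0xcc))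 (.leaf (nat_lit 0xce))) (.node 1 (.leaf (nat_lit 0xdd)) (.leaf (nat_lit 0xde))))))) (.node 16 (.node 8 (.node 4 (.node 2 (.node 1 (.leaf (nat_lit 0xdf)) (.leaf (nat_lit 0xe0))) (.node 1 (.leaf (nat_lit 0xe1)) (.leaf (nat_lit 0xe2)))) (.node 2 (.node 1 (.leaf (nat_lit 0xd0)) (.leaf (nat_lit 0xec))) (.node 1 (.leaf (nat_lit 0xe5)) (.leaf (nat_lit 0xe6))))) (.node 4 (.node 2 (.node 1 (.leaf (nat_lit 0xe7)) (.leaf (nat_lit 0xe8))) (.node 1 (.leaf (nat_lit 0xe9)) (.leaf (nat_lit 0xea)))) (.node 2 (.node 1 (.leaf (nat_lit 0xeb)) (.leaf (nat_lit 0xe4))) (.node 1 (.leaf (nat_lit 0xed)) (.leaf (nat_lit 0xee)))))) (.node 8 (.node 4 (.node 2 (.node 1 (.leaf (nat_lit 0xef)) (.leaf (nat_lit 0xf0))) (.node 1 (.leaf (nat_lit 0xf1)) (.leaf (nat_lit 0xf2)))) (.node 2 (.node 1 (.leaf (nat_lit 0xf3)) (.leaf (nat_lit 0xf4))) (.node 1 (.leaf (nat_lit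 0xf5)) (.leaf (nat_lit 0xf6))))) (.node 4 (.node 2 (.node 1 (.leaf (nat_lit 0xf7)) (.leaf (nat_lit 0xf8))) (.node 1 (.leaf (nat_lit 0xf9)) (.leaf (nat_lit 0xfa)))) (.node 2 (.node 1 (.leaf (nat_lit 0xfb)) (.leaf (nat_lit 0xfd))) (.node 1 (.leaf (nat_lit 0xfc)) (.leaf (nat_lit 0xfe)))))))))

noncomputable def M2g3x : Tree :=
  (.node 128 M2g3x0 M2g3x1)

noncomputable def M2g4x0 : Tree :=
  (.node 64 (.node 32 (.node 16 (.node 8 (.node 4 (.node 2 (.node 1 (.leaf (nat_lit 0)) (.leaf (nat_lit 3))) (.node 1 (.leaf (nat_lit 5)) (.leaf (nat_lit 1)))) (.node 2 (.node 1 (.leaf (nat_lit 7)) (.leaf (nat_lit 2))) (.node 1 (.leaf (nat_lit 0xb)) (.leaf (nat_lit 4))))) (.node 4 (.node 2 (.node 1 (.leaf (nat_lit 8)) (.leaf (nat_lit 0xf))) (.node 1 (.leaf (nat_lit 0x10)) (.leaf (nat_lit 6)))) (.node 2 (.node 1 (.leaf (nat_lit 0xc)) (.leaf (nat_lit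 0x14))) (.node 1 (.leaf (nat_lit 0x17)) (.leaf (nat_lit 9)))))) (.node 8 (.node 4 (.node 2 (.node 1 (.leaf (nat_lit 0xa)) (.leaf (nat_lit 0x11))) (.node 1 (.leaf (nat_lit 0x12)) (.leaf (nat_lit 0x1c)))) (.node 2 (.node 1 (.leaf (nat_lit 0xd)) (.leaf (nat_lit 0x1f))) (.node 1 (.leaf (nat_lit 0x21)) (.leaf (nat_lit 0xe))))) (.node 4 (.node 2 (.node 1 (.leaf (nat_lit 0x18)) (.leaf (nat_lit 0x19))) (.node 1 (.leaf (nat_lit 0x1a)) (.leaf (nat_lit 0x28)))) (.node 2 (.node 1 (.leaf (nat_lit 0x13)) (.leaf (nat_lit 0x2b))) (.node 1 (.leaf (nat_lit 0x1e)) (.leaf (nat_lit 0x15))))))) (.node 16 (.node 8 (.node 4 (.node 2 (.node 1 (.leaf (nat_lit 0x2f)) (.leaf (nat_lit 0x16))) (.node 1 (.leaf (nat_lit 0x22)) (.leaf (nat_lit 0x23)))) (.node 2 (.node 1 (.leaf (nat_lit 0x24)) (.leaf (nat_lit 0x25))) (.node 1 (.leaf (nat_lit 0x36)) (.leaf (nat_lit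 0x38))))) (.node 4 (.node 2 (.node 1 (.leaf (nat_lit 0x1b)) (.leaf (nat_lit 0x3b))) (.node 1 (.leaf (nat_lit 0x2a)) (.leaf (nat_lit 0x1d)))) (.node 2 (.node 1 (.leaf (nat_lit 0x2c)) (.leaf (nat_lit 0x2d))) (.node 1 (.leaf (nat_lit 0x41)) (.leaf (nat_lit 0x20)))))) (.node 8 (.node 4 (.node 2 (.node 1 (.leaf (nat_lit 0x30)) (.leaf (nat_lit 0x31))) (.node 1 (.leaf (nat_lit 0x32)) (.leaf (nat_lit 0x33)))) (.node 2 (.node 1 (.leaf (nat_lit 0x49)) (.leaf (nat_lit 0x4c))) (.node 1 (.leaf (nat_lit 0x26)) (.leaf (nat_lit 0x4f))))) (.node 4 (.node 2 (.node 1 (.leaf (nat_lit 0x27)) (.leaf (nat_lit 0x51))) (.node 1 (.leaf (nat_lit 0x3a)) (.leaf (nat_lit 0x29)))) (.node 2 (.node 1 (.leaf (nat_lit 0x3c)) (.leaf (nat_lit 0x3d))) (.node 1 (.leaf (nat_lit 0x3e)) (.leaf (nat_lit 0x3f)))))))) (.node 32 (.node 16 (.node 8 (.node 4 (.node 2 (.node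 1 (.leaf (nat_lit 0x40)) (.leaf (nat_lit 0x2e))) (.node 1 (.leaf (nat_lit 0x42)) (.leaf (nat_lit 0x43)))) (.node 2 (.node 1 (.leaf (nat_lit 0x44)) (.leaf (nat_lit 0x45))) (.node 1 (.leaf (nat_lit 0x46)) (.leaf (nat_lit 0x47))))) (.node 4 (.node 2 (.node 1 (.leaf (nat_lit 0x5c)) (.leaf (nat_lit 0x34))) (.node 1 (.leaf (nat_lit 0x5e)) (.leaf (nat_lit 0x60)))) (.node 2 (.node 1 (.leaf (nat_lit 0x35)) (.leaf (nat_lit 0x63))) (.node 1 (.leaf (nat_lit 0x4e)) (.leaf (nat_lit 0x37)))))) (.node 8 (.node 4 (.node 2 (.node 1 (.leaf (nat_lit 0x50)) (.leaf (nat_lit 0x39))) (.node 1 (.leaf (nat_lit 0x68)) (.leaf (nat_lit 0x53)))) (.node 2 (.node 1 (.leaf (nat_lit 0x54)) (.leaf (nat_lit 0x55))) (.node 1 (.leaf (nat_lit 0x56)) (.leaf (nat_lit 0x57))))) (.node 4 (.node 2 (.node 1 (.leaf (nat_lit 0x58)) (.leaf (nat_lit 0x59))) (.node 1 (.leaf (nat_lit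 0x5a)) (.leaf (nat_lit 0x71)))) (.node 2 (.node 1 (.leaf (nat_lit 0x48)) (.leaf (nat_lit 0x73))) (.node 1 (.leaf (nat_lit 0x4a)) (.leaf (nat_lit 0x75))))))) (.node 16 (.node 8 (.node 4 (.node 2 (.node 1 (.leaf (nat_lit 0x4b)) (.leaf (nat_lit 0x78))) (.node 1 (.leaf (nat_lit 0x62)) (.leaf (nat_lit 0x4d)))) (.node 2 (.node 1 (.leaf (nat_lit 0x7b)) (.leaf (nat_lit 0x65))) (.node 1 (.leaf (nat_lit 0x66)) (.leaf (nat_lit 0x67))))) (.node 4 (.node 2 (.node 1 (.leaf (nat_lit 0x52)) (.leaf (nat_lit 0x69))) (.node 1 (.leaf (nat_lit 0x6a)) (.leaf (nat_lit 0x6b)))) (.node 2 (.node 1 (.leaf (nat_lit 0x6c)) (.leaf (nat_lit 0x6d))) (.node 1 (.leaf (nat_lit 0x6e)) (.leaf (nat_lit 0x84)))))) (.node 8 (.node 4 (.node 2 (.node 1 (.leaf (nat_lit 0x86)) (.leaf (nat_lit 0x5b))) (.node 1 (.leaf (nat_lit 0x88)) (.leaf (nat_lit 0x5d)))) (.node 2 (.node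 1 (.leaf (nat_lit 0x8a)) (.leaf (nat_lit 0x5f))) (.node 1 (.leaf (nat_lit 0x8c)) (.leaf (nat_lit 0x77))))) (.node 4 (.node 2 (.node 1 (.leaf (nat_lit 0x61)) (.leaf (nat_lit 0x8f))) (.node 1 (.leaf (nat_lit 0x7a)) (.leaf (nat_lit 0x64)))) (.node 2 (.node 1 (.leaf (nat_lit 0x7c)) (.leaf (nat_lit 0x7d))) (.node 1 (.leaf (nat_lit 0x7e)) (.leaf (nat_lit 0x7f)))))))))

noncomputable def M2g4x1 : Tree :=
  (.node 63 (.node 31 (.node 15 (.node 7 (.node 3 (.node 1 (.leaf (nat_lit 0x80)) (.node 1 (.leaf (nat_lit 0x81)) (.leaf (nat_lit 0x82)))) (.node 2 (.node 1 (.leaf (nat_lit 0x9a)) (.leaf (nat_lit 0x6f))) (.node 1 (.leaf (nat_lit 0x9c)) (.leaf (nat_lit 0x70))))) (.node 4 (.node 2 (.node 1 (.leaf (nat_lit 0x9e)) (.leaf (nat_lit 0x72))) (.node 1 (.leaf (nat_lit 0xa0)) (.leaf (nat_lit 0x74)))) (.node 2 (.node 1 (.leaf (nat_lit 0x8b)) (.leaf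 (nat_lit 0x76))) (.node 1 (.leaf (nat_lit 0xa3)) (.leaf (nat_lit 0x8e)))))) (.node 8 (.node 4 (.node 2 (.node 1 (.leaf (nat_lit 0x79)) (.leaf (nat_lit 0xa6))) (.node 1 (.leaf (nat_lit 0x91)) (.leaf (nat_lit 0x92)))) (.node 2 (.node 1 (.leaf (nat_lit 0x93)) (.leaf (nat_lit 0x94))) (.node 1 (.leaf (nat_lit 0x95)) (.leaf (nat_lit 0x96))))) (.node 4 (.node 2 (.node 1 (.leaf (nat_lit 0x97)) (.leaf (nat_lit 0x98))) (.node 1 (.leaf (nat_lit 0xaf)) (.leaf (nat_lit 0x83)))) (.node 2 (.node 1 (.leaf (nat_lit 0xb1)) (.leaf (nat_lit 0x85))) (.node 1 (.leaf (nat_lit 0xb3)) (.leaf (nat_lit 0x87))))))) (.node 16 (.node 8 (.node 4 (.node 2 (.node 1 (.leaf (nat_lit 0xb5)) (.leaf (nat_lit 0x89))) (.node 1 (.leaf (nat_lit 0xb7)) (.leaf (nat_lit 0xa2)))) (.node 2 (.node 1 (.leaf (nat_lit 0x8d)) (.leaf (nat_lit 0xb9))) (.node 1 (.leaf (nat_lit 0xa5))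 (.leaf (nat_lit 0x90))))) (.node 4 (.node 2 (.node 1 (.leaf (nat_lit 0xa7)) (.leaf (nat_lit 0xa8))) (.node 1 (.leaf (nat_lit 0xa9)) (.leaf (nat_lit 0xaa)))) (.node 2 (.node 1 (.leaf (nat_lit 0xab)) (.leaf (nat_lit 0xac))) (.node 1 (.leaf (nat_lit 0xad)) (.leaf (nat_lit 0xc5)))))) (.node 8 (.node 4 (.node 2 (.node 1 (.leaf (nat_lit 0x99)) (.leaf (nat_lit 0xc7))) (.node 1 (.leaf (nat_lit 0x9b)) (.leaf (nat_lit 0xc9)))) (.node 2 (.node 1 (.leaf (nat_lit 0x9d)) (.leaf (nat_lit 0xcb))) (.node 1 (.leaf (nat_lit 0x9f)) (.leaf (nat_lit 0xcd))))) (.node 4 (.node 2 (.node 1 (.leaf (nat_lit 0xa1)) (.leaf (nat_lit 0xb8))) (.node 1 (.leaf (nat_lit 0xa4)) (.leaf (nat_lit 0xd0)))) (.node 2 (.node 1 (.leaf (nat_lit 0xbb)) (.leaf (nat_lit 0xbc))) (.node 1 (.leaf (nat_lit 0xbd)) (.leaf (nat_lit 0xbe)))))))) (.node 32 (.node 16 (.node 8 (.node 4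 (.node 2 (.node 1 (.leaf (nat_lit 0xbf)) (.leaf (nat_lit 0xc0))) (.node 1 (.leaf (nat_lit 0xc1)) (.leaf (nat_lit 0xc2)))) (.node 2 (.node 1 (.leaf (nat_lit 0xc3)) (.leaf (nat_lit 0xdd))) (.node 1 (.leaf (nat_lit 0xae)) (.leaf (nat_lit 0xde))))) (.node 4 (.node 2 (.node 1 (.leaf (nat_lit 0xb0)) (.leaf (nat_lit 0xdf))) (.node 1 (.leaf (nat_lit 0xb2)) (.leaf (nat_lit 0xe0)))) (.node 2 (.node 1 (.leaf (nat_lit 0xb4)) (.leaf (nat_lit 0xe1))) (.node 1 (.leaf (nat_lit 0xb6)) (.leaf (nat_lit 0xe2)))))) (.node 8 (.node 4 (.node 2 (.node 1 (.leaf (nat_lit 0xcf)) (.leaf (nat_lit 0xba))) (.node 1 (.leaf (nat_lit 0xe4)) (.leaf (nat_lit 0xd2)))) (.node 2 (.node 1 (.leaf (nat_lit 0xd3)) (.leaf (nat_lit 0xd4))) (.node 1 (.leaf (nat_lit 0xd5)) (.leaf (nat_lit 0xd6))))) (.node 4 (.node 2 (.node 1 (.leaf (nat_lit 0xd7)) (.leaf (nat_lit 0xd8))) (.node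 1 (.leaf (nat_lit 0xd9)) (.leaf (nat_lit 0xda)))) (.node 2 (.node 1 (.leaf (nat_lit 0xdb)) (.leaf (nat_lit 0xdc))) (.node 1 (.leaf (nat_lit 0xc4)) (.leaf (nat_lit 0xc6))))))) (.node 16 (.node 8 (.node 4 (.node 2 (.node 1 (.leaf (nat_lit 0xc8)) (.leaf (nat_lit 0xca))) (.node 1 (.leaf (nat_lit 0xcc)) (.leaf (nat_lit 0xce)))) (.node 2 (.node 1 (.leaf (nat_lit 0xe3)) (.leaf (nat_lit 0xd1))) (.node 1 (.leaf (nat_lit 0xe5)) (.leaf (nat_lit 0xe6))))) (.node 4 (.node 2 (.node 1 (.leaf (nat_lit 0xe7)) (.leaf (nat_lit 0xe8))) (.node 1 (.leaf (nat_lit 0xe9)) (.leaf (nat_lit 0xea)))) (.node 2 (.node 1 (.leaf (nat_lit 0xeb)) (.leaf (nat_lit 0xec))) (.node 1 (.leaf (nat_lit 0xed)) (.leaf (nat_lit 0xee)))))) (.node 8 (.node 4 (.node 2 (.node 1 (.leaf (nat_lit 0xef)) (.leaf (nat_lit 0xf0))) (.node 1 (.leaf (nat_lit 0xf1)) (.leaf (nat_lit 0xf2))))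 (.node 2 (.node 1 (.leaf (nat_lit 0xf3)) (.leaf (nat_lit 0xf4))) (.node 1 (.leaf (nat_lit 0xf5)) (.leaf (nat_lit 0xf6))))) (.node 4 (.node 2 (.node 1 (.leaf (nat_lit 0xf7)) (.leaf (nat_lit 0xf8))) (.node 1 (.leaf (nat_lit 0xf9)) (.leaf (nat_lit 0xfa)))) (.node 2 (.node 1 (.leaf (nat_lit 0xfb)) (.leaf (nat_lit 0xfc))) (.node 1 (.leaf (nat_lit 0xfe)) (.leaf (nat_lit 0xfd)))))))))

noncomputable def M2g4x : Tree :=
  (.node 128 M2g4x0 M2g4x1)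

noncomputable def M2g6x0 : Tree :=
  (.node 64 (.node 32 (.node 16 (.node 8 (.node 4 (.node 2 (.node 1 (.leaf (nat_lit 0)) (.leaf (nat_lit 1))) (.node 1 (.leaf (nat_lit 2)) (.leaf (nat_lit 3)))) (.node 2 (.node 1 (.leaf (nat_lit 4)) (.leaf (nat_lit 5))) (.node 1 (.leaf (nat_lit 9)) (.leaf (nat_lit 7))))) (.node 4 (.node 2 (.node 1 (.leaf (nat_lit 8)) (.leaf (nat_lit 6))) (.node 1 (.leaf (nat_lit 0xe)) (.leaf (nat_lit 0xf)))) (.node 2 (.node 1 (.leaf (nat_lit 0xc)) (.leaf (nat_lit 0xd))) (.node 1 (.leaf (nat_lit 0xa)) (.leaf (nat_lit 0xb)))))) (.node 8 (.node 4 (.node 2 (.node 1 (.leaf (nat_lit 0x17)) (.leaf (nat_lit 0x18))) (.node 1 (.leaf (nat_lit 0x12)) (.leaf (nat_lit 0x13)))) (.node 2 (.node 1 (.leaf (nat_lit 0x14)) (.leaf (nat_lit 0x15))) (.node 1 (.leaf (nat_lit 0x16)) (.leaf (nat_lit 0x10))))) (.node 4 (.node 2 (.node 1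 (.leaf (nat_lit 0x11)) (.leaf (nat_lit 0x22))) (.node 1 (.leaf (nat_lit 0x23)) (.leaf (nat_lit 0x27)))) (.node 2 (.node 1 (.leaf (nat_lit 0x1c)) (.leaf (nat_lit 0x1d))) (.node 1 (.leaf (nat_lit 0x1e)) (.leaf (nat_lit 0x1f))))))) (.node 16 (.node 8 (.node 4 (.node 2 (.node 1 (.leaf (nat_lit 0x20)) (.leaf (nat_lit 0x21))) (.node 1 (.leaf (nat_lit 0x19)) (.leaf (nat_lit 0x1a)))) (.node 2 (.node 1 (.leaf (nat_lit 0x31)) (.leaf (nat_lit 0x32))) (.node 1 (.leaf (nat_lit 0x35)) (.leaf (nat_lit 0x1b))))) (.node 4 (.node 2 (.node 1 (.leaf (nat_lit 0x38)) (.leaf (nat_lit 0x39))) (.node 1 (.leaf (nat_lit 0x2a)) (.leaf (nat_lit 0x2b)))) (.node 2 (.node 1 (.leaf (nat_lit 0x2c)) (.leaf (nat_lit 0x2d))) (.node 1 (.leaf (nat_lit 0x2e)) (.leaf (nat_lit 0x2f)))))) (.node 8 (.node 4 (.node 2 (.node 1 (.leaf (nat_lit 0x30)) (.leaf (nat_lit 0x24)))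 (.node 1 (.leaf (nat_lit 0x25)) (.leaf (nat_lit 0x44)))) (.node 2 (.node 1 (.leaf (nat_lit 0x48)) (.leaf (nat_lit 0x26))) (.node 1 (.leaf (nat_lit 0x4c)) (.leaf (nat_lit 0x4d))))) (.node 4 (.node 2 (.node 1 (.leaf (nat_lit 0x28)) (.leaf (nat_lit 0x29))) (.node 1 (.leaf (nat_lit 0x50)) (.leaf (nat_lit 0x51)))) (.node 2 (.node 1 (.leaf (nat_lit 0x3c)) (.leaf (nat_lit 0x3d))) (.node 1 (.leaf (nat_lit 0x3e)) (.leaf (nat_lit 0x3f)))))))) (.node 32 (.node 16 (.node 8 (.node 4 (.node 2 (.node 1 (.leaf (nat_lit 0x40)) (.leaf (nat_lit 0x41))) (.node 1 (.leaf (nat_lit 0x42)) (.leaf (nat_lit 0x43)))) (.node 2 (.node 1 (.leaf (nat_lit 0x33)) (.leaf (nat_lit 0x45))) (.node 1 (.leaf (nat_lit 0x46)) (.leaf (nat_lit 0x59))))) (.node 4 (.node 2 (.node 1 (.leaf (nat_lit 0x34)) (.leaf (nat_lit 0x5c))) (.node 1 (.leaf (nat_lit 0x5d)) (.leaf (nat_lit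 0x4b)))) (.node 2 (.node 1 (.leaf (nat_lit 0x36)) (.leaf (nat_lit 0x37))) (.node 1 (.leaf (nat_lit 0x62)) (.leaf (nat_lit 0x63)))))) (.node 8 (.node 4 (.node 2 (.node 1 (.leaf (nat_lit 0x3a)) (.leaf (nat_lit 0x3b))) (.node 1 (.leaf (nat_lit 0x52)) (.leaf (nat_lit 0x66)))) (.node 2 (.node 1 (.leaf (nat_lit 0x67)) (.leaf (nat_lit 0x55))) (.node 1 (.leaf (nat_lit 0x56)) (.leaf (nat_lit 0x6b))))) (.node 4 (.node 2 (.node 1 (.leaf (nat_lit 0x58)) (.leaf (nat_lit 0x47))) (.node 1 (.leaf (nat_lit 0x6e)) (.leaf (nat_lit 0x5b)))) (.node 2 (.node 1 (.leaf (nat_lit 0x49)) (.leaf (nat_lit 0x4a))) (.node 1 (.leaf (nat_lit 0x73)) (.leaf (nat_lit 0x5f))))))) (.node 16 (.node 8 (.node 4 (.node 2 (.node 1 (.leaf (nat_lit 0x60)) (.leaf (nat_lit 0x61))) (.node 1 (.leaf (nat_lit 0x4e)) (.leaf (nat_lit 0x4f)))) (.node 2 (.node 1 (.leaf (nat_lit 0x64))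 (.leaf (nat_lit 0x7a))) (.node 1 (.leaf (nat_lit 0x53)) (.leaf (nat_lit 0x54))))) (.node 4 (.node 2 (.node 1 (.leaf (nat_lit 0x68)) (.leaf (nat_lit 0x7c))) (.node 1 (.leaf (nat_lit 0x6a)) (.leaf (nat_lit 0x57)))) (.node 2 (.node 1 (.leaf (nat_lit 0x7e)) (.leaf (nat_lit 0x6d))) (.node 1 (.leaf (nat_lit 0x5a)) (.leaf (nat_lit 0x6f)))))) (.node 8 (.node 4 (.node 2 (.node 1 (.leaf (nat_lit 0x70)) (.leaf (nat_lit 0x71))) (.node 1 (.leaf (nat_lit 0x72)) (.leaf (nat_lit 0x5e)))) (.node 2 (.node 1 (.leaf (nat_lit 0x74)) (.leaf (nat_lit 0x75))) (.node 1 (.leaf (nat_lit 0x76)) (.leaf (nat_lit 0x77))))) (.node 4 (.node 2 (.node 1 (.leaf (nat_lit 0x78)) (.leaf (nat_lit 0x90))) (.node 1 (.leaf (nat_lit 0x65)) (.leaf (nat_lit 0x7b)))) (.node 2 (.node 1 (.leaf (nat_lit 0x69)) (.leaf (nat_lit 0x7d))) (.node 1 (.leaf (nat_lit 0x6c)) (.leaf (nat_lit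 0x7f)))))))))

noncomputable def M2g6x1 : Tree :=
  (.node 63 (.node 31 (.node 15 (.node 7 (.node 3 (.node 1 (.leaf (nat_lit 0x80)) (.node 1 (.leaf (nat_lit 0x81)) (.leaf (nat_lit 0x82)))) (.node 2 (.node 1 (.leaf (nat_lit 0x83)) (.leaf (nat_lit 0x84))) (.node 1 (.leaf (nat_lit 0x85)) (.leaf (nat_lit 0x86))))) (.node 4 (.node 2 (.node 1 (.leaf (nat_lit 0x87)) (.leaf (nat_lit 0x88))) (.node 1 (.leaf (nat_lit 0xa1)) (.leaf (nat_lit 0x8a)))) (.node 2 (.node 1 (.leaf (nat_lit 0x8b)) (.leaf (nat_lit 0x8c))) (.node 1 (.leaf (nat_lit 0xa4)) (.leaf (nat_lit 0x8e)))))) (.node 8 (.node 4 (.node 2 (.node 1 (.leaf (nat_lit 0xa6)) (.leaf (nat_lit 0x79))) (.node 1 (.leaf (nat_lit 0x91)) (.leaf (nat_lit 0x92)))) (.node 2 (.node 1 (.leaf (nat_lit 0x93)) (.leaf (nat_lit 0x94))) (.node 1 (.leaf (nat_lit 0x95)) (.leaf (nat_lit 0x96))))) (.node 4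 (.node 2 (.node 1 (.leaf (nat_lit 0x97)) (.leaf (nat_lit 0xad))) (.node 1 (.leaf (nat_lit 0xae)) (.leaf (nat_lit 0x9a)))) (.node 2 (.node 1 (.leaf (nat_lit 0x9b)) (.leaf (nat_lit 0x9c))) (.node 1 (.leaf (nat_lit 0xb4)) (.leaf (nat_lit 0x9e))))))) (.node 16 (.node 8 (.node 4 (.node 2 (.node 1 (.leaf (nat_lit 0xb6)) (.leaf (nat_lit 0xb7))) (.node 1 (.leaf (nat_lit 0x89)) (.leaf (nat_lit 0xa2)))) (.node 2 (.node 1 (.leaf (nat_lit 0xb9)) (.leaf (nat_lit 0x8d))) (.node 1 (.leaf (nat_lit 0xbb)) (.leaf (nat_lit 0x8f))))) (.node 4 (.node 2 (.node 1 (.leaf (nat_lit 0xa7)) (.leaf (nat_lit 0xa8))) (.node 1 (.leaf (nat_lit 0xbf)) (.leaf (nat_lit 0xaa)))) (.node 2 (.node 1 (.leaf (nat_lit 0xc2)) (.leaf (nat_lit 0xc3))) (.node 1 (.leaf (nat_lit 0x98)) (.leaf (nat_lit 0x99)))))) (.node 8 (.node 4 (.node 2 (.node 1 (.leaf (nat_lit 0xc5)) (.leaf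 (nat_lit 0xc6))) (.node 1 (.leaf (nat_lit 0xb1)) (.leaf (nat_lit 0xca)))) (.node 2 (.node 1 (.leaf (nat_lit 0xcb)) (.leaf (nat_lit 0x9d))) (.node 1 (.leaf (nat_lit 0xcd)) (.leaf (nat_lit 0x9f))))) (.node 4 (.node 2 (.node 1 (.leaf (nat_lit 0xa0)) (.leaf (nat_lit 0xcf))) (.node 1 (.leaf (nat_lit 0xa3)) (.leaf (nat_lit 0xba)))) (.node 2 (.node 1 (.leaf (nat_lit 0xa5)) (.leaf (nat_lit 0xd3))) (.node 1 (.leaf (nat_lit 0xbd)) (.leaf (nat_lit 0xd6)))))))) (.node 32 (.node 16 (.node 8 (.node 4 (.node 2 (.node 1 (.leaf (nat_lit 0xa9)) (.leaf (nat_lit 0xd8))) (.node 1 (.leaf (nat_lit 0xda)) (.leaf (nat_lit 0xab)))) (.node 2 (.node 1 (.leaf (nat_lit 0xac)) (.leaf (nat_lit 0xc4))) (.node 1 (.leaf (nat_lit 0xaf)) (.leaf (nat_lit 0xb0))))) (.node 4 (.node 2 (.node 1 (.leaf (nat_lit 0xde)) (.leaf (nat_lit 0xc8))) (.node 1 (.leaf (nat_lit 0xe0))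 (.leaf (nat_lit 0xb2)))) (.node 2 (.node 1 (.leaf (nat_lit 0xb3)) (.leaf (nat_lit 0xcc))) (.node 1 (.leaf (nat_lit 0xb5)) (.leaf (nat_lit 0xce)))))) (.node 8 (.node 4 (.node 2 (.node 1 (.leaf (nat_lit 0xb8)) (.leaf (nat_lit 0xd0))) (.node 1 (.leaf (nat_lit 0xd1)) (.leaf (nat_lit 0xe5)))) (.node 2 (.node 1 (.leaf (nat_lit 0xbc)) (.leaf (nat_lit 0xe8))) (.node 1 (.leaf (nat_lit 0xea)) (.leaf (nat_lit 0xbe))))) (.node 4 (.node 2 (.node 1 (.leaf (nat_lit 0xd7)) (.leaf (nat_lit 0xc0))) (.node 1 (.leaf (nat_lit 0xd9)) (.leaf (nat_lit 0xc1)))) (.node 2 (.node 1 (.leaf (nat_lit 0xdb)) (.leaf (nat_lit 0xdc))) (.node 1 (.leaf (nat_lit 0xdd)) (.leaf (nat_lit 0xc7))))))) (.node 16 (.node 8 (.node 4 (.node 2 (.node 1 (.leaf (nat_lit 0xdf)) (.leaf (nat_lit 0xc9))) (.node 1 (.leaf (nat_lit 0xe1)) (.leaf (nat_lit 0xe2)))) (.node 2 (.node 1 (.leaf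 (nat_lit 0xe3)) (.leaf (nat_lit 0xe4))) (.node 1 (.leaf (nat_lit 0xd2)) (.leaf (nat_lit 0xef))))) (.node 4 (.node 2 (.node 1 (.leaf (nat_lit 0xe7)) (.leaf (nat_lit 0xd4))) (.node 1 (.leaf (nat_lit 0xe9)) (.leaf (nat_lit 0xd5)))) (.node 2 (.node 1 (.leaf (nat_lit 0xeb)) (.leaf (nat_lit 0xec))) (.node 1 (.leaf (nat_lit 0xed)) (.leaf (nat_lit 0xee)))))) (.node 8 (.node 4 (.node 2 (.node 1 (.leaf (nat_lit 0xe6)) (.leaf (nat_lit 0xf0))) (.node 1 (.leaf (nat_lit 0xf1)) (.leaf (nat_lit 0xf2)))) (.node 2 (.node 1 (.leaf (nat_lit 0xf6)) (.leaf (nat_lit 0xf4))) (.node 1 (.leaf (nat_lit 0xf5)) (.leaf (nat_lit 0xf3))))) (.node 4 (.node 2 (.node 1 (.leaf (nat_lit 0xf9)) (.leaf (nat_lit 0xf8))) (.node 1 (.leaf (nat_lit 0xf7)) (.leaf (nat_lit 0xfa)))) (.node 2 (.node 1 (.leaf (nat_lit 0xfb)) (.leaf (nat_lit 0xfc))) (.node 1 (.leaf (nat_lit 0xfd))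 (.leaf (nat_lit 0xfe)))))))))

noncomputable def M2g6x : Tree :=
  (.node 128 M2g6x0 M2g6x1)

noncomputable def M2g7x0 : Tree :=
  (.node 64 (.node 32 (.node 16 (.node 8 (.node 4 (.node 2 (.node 1 (.leaf (nat_lit 0)) (.leaf (nat_lit 1))) (.node 1 (.leaf (nat_lit 2)) (.leaf (nat_lit 3)))) (.node 2 (.node 1 (.leaf (nat_lit 4)) (.leaf (nat_lit 5))) (.node 1 (.leaf (nat_lit 6)) (.leaf (nat_lit 7))))) (.node 4 (.node 2 (.node 1 (.leaf (nat_lit 8)) (.leaf (nat_lit 0xd))) (.node 1 (.leaf (nat_lit 0xa)) (.leaf (nat_lit 0xb)))) (.node 2 (.node 1 (.leaf (nat_lit 0xc)) (.leaf (nat_lit 9))) (.node 1 (.leaf (nat_lit 0x13)) (.leaf (nat_lit 0x14)))))) (.node 8 (.node 4 (.node 2 (.node 1 (.leaf (nat_lit 0x10)) (.leaf (nat_lit 0x11))) (.node 1 (.leaf (nat_lit 0x12)) (.leaf (nat_lit 0xe)))) (.node 2 (.node 1 (.leaf (nat_lit 0xf)) (.leaf (nat_lit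 0x15))) (.node 1 (.leaf (nat_lit 0x1b)) (.leaf (nat_lit 0x1c))))) (.node 4 (.node 2 (.node 1 (.leaf (nat_lit 0x1e)) (.leaf (nat_lit 0x19))) (.node 1 (.leaf (nat_lit 0x1a)) (.leaf (nat_lit 0x16)))) (.node 2 (.node 1 (.leaf (nat_lit 0x17)) (.leaf (nat_lit 0x1d))) (.node 1 (.leaf (nat_lit 0x18)) (.leaf (nat_lit 0x1f))))))) (.node 16 (.node 8 (.node 4 (.node 2 (.node 1 (.leaf (nat_lit 0x26)) (.leaf (nat_lit 0x28))) (.node 1 (.leaf (nat_lit 0x2a)) (.leaf (nat_lit 0x2c)))) (.node 2 (.node 1 (.leaf (nat_lit 0x24)) (.leaf (nat_lit 0x25))) (.node 1 (.leaf (nat_lit 0x20)) (.leaf (nat_lit 0x27))))) (.node 4 (.node 2 (.node 1 (.leaf (nat_lit 0x21)) (.leaf (nat_lit 0x29))) (.node 1 (.leaf (nat_lit 0x22)) (.leaf (nat_lit 0x2b)))) (.node 2 (.node 1 (.leaf (nat_lit 0x23)) (.leaf (nat_lit 0x2d))) (.node 1 (.leaf (nat_lit 0x34)) (.leaf (nat_lit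 0x36)))))) (.node 8 (.node 4 (.node 2 (.node 1 (.leaf (nat_lit 0x3a)) (.leaf (nat_lit 0x3c))) (.node 1 (.leaf (nat_lit 0x3e)) (.leaf (nat_lit 0x33)))) (.node 2 (.node 1 (.leaf (nat_lit 0x2e)) (.leaf (nat_lit 0x35))) (.node 1 (.leaf (nat_lit 0x2f)) (.leaf (nat_lit 0x37))))) (.node 4 (.node 2 (.node 1 (.leaf (nat_lit 0x38)) (.leaf (nat_lit 0x52))) (.node 1 (.leaf (nat_lit 0x30)) (.leaf (nat_lit 0x3b)))) (.node 2 (.node 1 (.leaf (nat_lit 0x31)) (.leaf (nat_lit 0x3d))) (.node 1 (.leaf (nat_lit 0x32)) (.leaf (nat_lit 0x3f)))))))) (.node 32 (.node 16 (.node 8 (.node 4 (.node 2 (.node 1 (.leaf (nat_lit 0x47)) (.leaf (nat_lit 0x49))) (.node 1 (.leaf (nat_lit 0x4e)) (.leaf (nat_lit 0x53)))) (.node 2 (.node 1 (.leaf (nat_lit 0x55)) (.leaf (nat_lit 0x57))) (.node 1 (.leaf (nat_lit 0x46)) (.leaf (nat_lit 0x40))))) (.node 4 (.node 2 (.node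 1 (.leaf (nat_lit 0x48)) (.leaf (nat_lit 0x41))) (.node 1 (.leaf (nat_lit 0x4a)) (.leaf (nat_lit 0x4b)))) (.node 2 (.node 1 (.leaf (nat_lit 0x4c)) (.leaf (nat_lit 0x64))) (.node 1 (.leaf (nat_lit 0x42)) (.leaf (nat_lit 0x4f)))))) (.node 8 (.node 4 (.node 2 (.node 1 (.leaf (nat_lit 0x50)) (.leaf (nat_lit 0x68))) (.node 1 (.leaf (nat_lit 0x39)) (.leaf (nat_lit 0x43)))) (.node 2 (.node 1 (.leaf (nat_lit 0x54)) (.leaf (nat_lit 0x44))) (.node 1 (.leaf (nat_lit 0x56)) (.leaf (nat_lit 0x45))))) (.node 4 (.node 2 (.node 1 (.leaf (nat_lit 0x58)) (.leaf (nat_lit 0x59))) (.node 1 (.leaf (nat_lit 0x5a)) (.leaf (nat_lit 0x5b)))) (.node 2 (.node 1 (.leaf (nat_lit 0x5c)) (.leaf (nat_lit 0x74))) (.node 1 (.leaf (nat_lit 0x5e)) (.leaf (nat_lit 0x5f))))))) (.node 16 (.node 8 (.node 4 (.node 2 (.node 1 (.leaf (nat_lit 0x60)) (.leaf (nat_lit 0x79)))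 (.node 1 (.leaf (nat_lit 0x62)) (.leaf (nat_lit 0x7b)))) (.node 2 (.node 1 (.leaf (nat_lit 0x4d)) (.leaf (nat_lit 0x65))) (.node 1 (.leaf (nat_lit 0x66)) (.leaf (nat_lit 0x7d))))) (.node 4 (.node 2 (.node 1 (.leaf (nat_lit 0x51)) (.leaf (nat_lit 0x69))) (.node 1 (.leaf (nat_lit 0x6a)) (.leaf (nat_lit 0x6b)))) (.node 2 (.node 1 (.leaf (nat_lit 0x6c)) (.leaf (nat_lit 0x6d))) (.node 1 (.leaf (nat_lit 0x82)) (.leaf (nat_lit 0x6f)))))) (.node 8 (.node 4 (.node 2 (.node 1 (.leaf (nat_lit 0x70)) (.leaf (nat_lit 0x71))) (.node 1 (.leaf (nat_lit 0x89)) (.leaf (nat_lit 0x8a)))) (.node 2 (.node 1 (.leaf (nat_lit 0x5d)) (.leaf (nat_lit 0x75))) (.node 1 (.leaf (nat_lit 0x8d)) (.leaf (nat_lit 0x77))))) (.node 4 (.node 2 (.node 1 (.leaf (nat_lit 0x8f)) (.leaf (nat_lit 0x61))) (.node 1 (.leaf (nat_lit 0x91)) (.leaf (nat_lit 0x63)))) (.node 2 (.node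 1 (.leaf (nat_lit 0x92)) (.leaf (nat_lit 0x67))) (.node 1 (.leaf (nat_lit 0x93)) (.leaf (nat_lit 0x7f)))))))))

noncomputable def M2g7x1 : Tree :=
  (.node 63 (.node 31 (.node 15 (.node 7 (.node 3 (.node 1 (.leaf (nat_lit 0x80)) (.node 1 (.leaf (nat_lit 0x98)) (.leaf (nat_lit 0x6e)))) (.node 2 (.node 1 (.leaf (nat_lit 0x83)) (.leaf (nat_lit 0x84))) (.node 1 (.leaf (nat_lit 0x9d)) (.leaf (nat_lit 0x86))))) (.node 4 (.node 2 (.node 1 (.leaf (nat_lit 0x9f)) (.leaf (nat_lit 0xa0))) (.node 1 (.leaf (nat_lit 0x72)) (.leaf (nat_lit 0x73)))) (.node 2 (.node 1 (.leaf (nat_lit 0x8b)) (.leaf (nat_lit 0xa3))) (.node 1 (.leaf (nat_lit 0x76)) (.leaf (nat_lit 0xa5)))))) (.node 8 (.node 4 (.node 2 (.node 1 (.leaf (nat_lit 0x78)) (.leaf (nat_lit 0x90))) (.node 1 (.leaf (nat_lit 0x7a)) (.leaf (nat_lit 0x7c)))) (.node 2 (.node 1 (.leaf (nat_lit 0x7e))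 (.leaf (nat_lit 0x94))) (.node 1 (.leaf (nat_lit 0x95)) (.leaf (nat_lit 0xab))))) (.node 4 (.node 2 (.node 1 (.leaf (nat_lit 0xac)) (.leaf (nat_lit 0x81))) (.node 1 (.leaf (nat_lit 0x99)) (.leaf (nat_lit 0x9a)))) (.node 2 (.node 1 (.leaf (nat_lit 0xb2)) (.leaf (nat_lit 0xb3))) (.node 1 (.leaf (nat_lit 0x85)) (.leaf (nat_lit 0xb5))))))) (.node 16 (.node 8 (.node 4 (.node 2 (.node 1 (.leaf (nat_lit 0x87)) (.leaf (nat_lit 0x88))) (.node 1 (.leaf (nat_lit 0xa1)) (.leaf (nat_lit 0xb8)))) (.node 2 (.node 1 (.leaf (nat_lit 0x8c)) (.leaf (nat_lit 0xa4))) (.node 1 (.leaf (nat_lit 0x8e)) (.leaf (nat_lit 0xa6))))) (.node 4 (.node 2 (.node 1 (.leaf (nat_lit 0xa7)) (.leaf (nat_lit 0xbe))) (.node 1 (.leaf (nat_lit 0xa9)) (.leaf (nat_lit 0xc1)))) (.node 2 (.node 1 (.leaf (nat_lit 0x96)) (.leaf (nat_lit 0x97))) (.node 1 (.leaf (nat_lit 0xad))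 (.leaf (nat_lit 0xc4)))))) (.node 8 (.node 4 (.node 2 (.node 1 (.leaf (nat_lit 0xaf)) (.leaf (nat_lit 0xc8))) (.node 1 (.leaf (nat_lit 0xc9)) (.leaf (nat_lit 0x9b)))) (.node 2 (.node 1 (.leaf (nat_lit 0x9c)) (.leaf (nat_lit 0xb4))) (.node 1 (.leaf (nat_lit 0x9e)) (.leaf (nat_lit 0xb6))))) (.node 4 (.node 2 (.node 1 (.leaf (nat_lit 0xb7)) (.leaf (nat_lit 0xa2))) (.node 1 (.leaf (nat_lit 0xb9)) (.leaf (nat_lit 0xba)))) (.node 2 (.node 1 (.leaf (nat_lit 0xbb)) (.leaf (nat_lit 0xbc))) (.node 1 (.leaf (nat_lit 0xd5)) (.leaf (nat_lit 0xa8)))))))) (.node 32 (.node 16 (.node 8 (.node 4 (.node 2 (.node 1 (.leaf (nat_lit 0xd7)) (.leaf (nat_lit 0xd9))) (.node 1 (.leaf (nat_lit 0xaa)) (.leaf (nat_lit 0xc2)))) (.node 2 (.node 1 (.leaf (nat_lit 0xc3)) (.leaf (nat_lit 0xae))) (.node 1 (.leaf (nat_lit 0xdd)) (.leaf (nat_lit 0xc6))))) (.node 4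 (.node 2 (.node 1 (.leaf (nat_lit 0xdf)) (.leaf (nat_lit 0xb0))) (.node 1 (.leaf (nat_lit 0xb1)) (.leaf (nat_lit 0xca)))) (.node 2 (.node 1 (.leaf (nat_lit 0xcb)) (.leaf (nat_lit 0xcc))) (.node 1 (.leaf (nat_lit 0xcd)) (.leaf (nat_lit 0xce)))))) (.node 8 (.node 4 (.node 2 (.node 1 (.leaf (nat_lit 0xcf)) (.leaf (nat_lit 0xd0))) (.node 1 (.leaf (nat_lit 0xd1)) (.leaf (nat_lit 0xd2)))) (.node 2 (.node 1 (.leaf (nat_lit 0xe7)) (.leaf (nat_lit 0xe9))) (.node 1 (.leaf (nat_lit 0xbd)) (.leaf (nat_lit 0xd6))))) (.node 4 (.node 2 (.node 1 (.leaf (nat_lit 0xbf)) (.leaf (nat_lit 0xd8))) (.node 1 (.leaf (nat_lit 0xc0)) (.leaf (nat_lit 0xda)))) (.node 2 (.node 1 (.leaf (nat_lit 0xdb)) (.leaf (nat_lit 0xdc))) (.node 1 (.leaf (nat_lit 0xc5)) (.leaf (nat_lit 0xde))))))) (.node 16 (.node 8 (.node 4 (.node 2 (.node 1 (.leaf (nat_lit 0xc7)) (.leaf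 (nat_lit 0xe0))) (.node 1 (.leaf (nat_lit 0xe1)) (.leaf (nat_lit 0xe2)))) (.node 2 (.node 1 (.leaf (nat_lit 0xe3)) (.leaf (nat_lit 0xe4))) (.node 1 (.leaf (nat_lit 0xee)) (.leaf (nat_lit 0xf0))))) (.node 4 (.node 2 (.node 1 (.leaf (nat_lit 0xd3)) (.leaf (nat_lit 0xe8))) (.node 1 (.leaf (nat_lit 0xd4)) (.leaf (nat_lit 0xea)))) (.node 2 (.node 1 (.leaf (nat_lit 0xeb)) (.leaf (nat_lit 0xec))) (.node 1 (.leaf (nat_lit 0xf3)) (.leaf (nat_lit 0xe5)))))) (.node 8 (.node 4 (.node 2 (.node 1 (.leaf (nat_lit 0xef)) (.leaf (nat_lit 0xe6))) (.node 1 (.leaf (nat_lit 0xf1)) (.leaf (nat_lit 0xf2)))) (.node 2 (.node 1 (.leaf (nat_lit 0xed)) (.leaf (nat_lit 0xf7))) (.node 1 (.leaf (nat_lit 0xf5)) (.leaf (nat_lit 0xf6))))) (.node 4 (.node 2 (.node 1 (.leaf (nat_lit 0xf4)) (.leaf (nat_lit 0xf8))) (.node 1 (.leaf (nat_lit 0xf9)) (.leaf (nat_lit 0xfa))))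 (.node 2 (.node 1 (.leaf (nat_lit 0xfb)) (.leaf (nat_lit 0xfc))) (.node 1 (.leaf (nat_lit 0xfd)) (.leaf (nat_lit 0xfe)))))))))

noncomputable def M2g7x : Tree :=
  (.node 128 M2g7x0 M2g7x1)

noncomputable def M2g8x0 : Tree :=
  (.node 64 (.node 32 (.node 16 (.node 8 (.node 4 (.node 2 (.node 1 (.leaf (nat_lit 0)) (.leaf (nat_lit 1))) (.node 1 (.leaf (nat_lit 2)) (.leaf (nat_lit 3)))) (.node 2 (.node 1 (.leaf (nat_lit 4)) (.leaf (nat_lit 5))) (.node 1 (.leaf (nat_lit 6)) (.leaf (nat_lit 7))))) (.node 4 (.node 2 (.node 1 (.leaf (nat_lit 8)) (.leaf (nat_lit 9))) (.node 1 (.leaf (nat_lit 0xa)) (.leaf (nat_lit 0xb)))) (.node 2 (.node 1 (.leaf (nat_lit 0xc)) (.leaf (nat_lit 0x15))) (.node 1 (.leaf (nat_lit 0xe)) (.leaf (nat_lit 0xf)))))) (.node 8 (.node 4 (.node 2 (.node 1 (.leaf (nat_lit 0x10)) (.leaf (nat_lit 0x11))) (.node 1 (.leaf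 (nat_lit 0x12)) (.leaf (nat_lit 0x1d)))) (.node 2 (.node 1 (.leaf (nat_lit 0x1f)) (.leaf (nat_lit 0xd))) (.node 1 (.leaf (nat_lit 0x16)) (.leaf (nat_lit 0x17))))) (.node 4 (.node 2 (.node 1 (.leaf (nat_lit 0x18)) (.leaf (nat_lit 0x19))) (.node 1 (.leaf (nat_lit 0x1a)) (.leaf (nat_lit 0x29)))) (.node 2 (.node 1 (.leaf (nat_lit 0x2b)) (.leaf (nat_lit 0x13))) (.node 1 (.leaf (nat_lit 0x2d)) (.leaf (nat_lit 0x14))))))) (.node 16 (.node 8 (.node 4 (.node 2 (.node 1 (.leaf (nat_lit 0x20)) (.leaf (nat_lit 0x21))) (.node 1 (.leaf (nat_lit 0x22)) (.leaf (nat_lit 0x23)))) (.node 2 (.node 1 (.leaf (nat_lit 0x24)) (.leaf (nat_lit 0x25))) (.node 1 (.leaf (nat_lit 0x37)) (.leaf (nat_lit 0x39))))) (.node 4 (.node 2 (.node 1 (.leaf (nat_lit 0x3b)) (.leaf (nat_lit 0x1b))) (.node 1 (.leaf (nat_lit 0x3d)) (.leaf (nat_lit 0x1c)))) (.node 2 (.node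 1 (.leaf (nat_lit 0x3f)) (.leaf (nat_lit 0x1e))) (.node 1 (.leaf (nat_lit 0x2e)) (.leaf (nat_lit 0x2f)))))) (.node 8 (.node 4 (.node 2 (.node 1 (.leaf (nat_lit 0x30)) (.leaf (nat_lit 0x31))) (.node 1 (.leaf (nat_lit 0x32)) (.leaf (nat_lit 0x33)))) (.node 2 (.node 1 (.leaf (nat_lit 0x4a)) (.leaf (nat_lit 0x4d))) (.node 1 (.leaf (nat_lit 0x4f)) (.leaf (nat_lit 0x26))))) (.node 4 (.node 2 (.node 1 (.leaf (nat_lit 0x51)) (.leaf (nat_lit 0x27))) (.node 1 (.leaf (nat_lit 0x54)) (.leaf (nat_lit 0x28)))) (.node 2 (.node 1 (.leaf (nat_lit 0x56)) (.leaf (nat_lit 0x2a))) (.node 1 (.leaf (nat_lit 0x58)) (.leaf (nat_lit 0x2c)))))))) (.node 32 (.node 16 (.node 8 (.node 4 (.node 2 (.node 1 (.leaf (nat_lit 0x40)) (.leaf (nat_lit 0x41))) (.node 1 (.leaf (nat_lit 0x42)) (.leaf (nat_lit 0x43)))) (.node 2 (.node 1 (.leaf (nat_lit 0x44)) (.leaf (nat_lit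 0x45))) (.node 1 (.leaf (nat_lit 0x46)) (.leaf (nat_lit 0x5a))))) (.node 4 (.node 2 (.node 1 (.leaf (nat_lit 0x5d)) (.leaf (nat_lit 0x5e))) (.node 1 (.leaf (nat_lit 0x34)) (.leaf (nat_lit 0x61)))) (.node 2 (.node 1 (.leaf (nat_lit 0x63)) (.leaf (nat_lit 0x35))) (.node 1 (.leaf (nat_lit 0x65)) (.leaf (nat_lit 0x36)))))) (.node 8 (.node 4 (.node 2 (.node 1 (.leaf (nat_lit 0x67)) (.leaf (nat_lit 0x38))) (.node 1 (.leaf (nat_lit 0x52)) (.leaf (nat_lit 0x69)))) (.node 2 (.node 1 (.leaf (nat_lit 0x3a)) (.leaf (nat_lit 0x6a))) (.node 1 (.leaf (nat_lit 0x3c)) (.leaf (nat_lit 0x6c))))) (.node 4 (.node 2 (.node 1 (.leaf (nat_lit 0x3e)) (.leaf (nat_lit 0x6e))) (.node 1 (.leaf (nat_lit 0x47)) (.leaf (nat_lit 0x72)))) (.node 2 (.node 1 (.leaf (nat_lit 0x73)) (.leaf (nat_lit 0x48))) (.node 1 (.leaf (nat_lit 0x49)) (.leaf (nat_lit 0x76)))))))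 (.node 16 (.node 8 (.node 4 (.node 2 (.node 1 (.leaf (nat_lit 0x78)) (.leaf (nat_lit 0x4b))) (.node 1 (.leaf (nat_lit 0x7a)) (.leaf (nat_lit 0x4c)))) (.node 2 (.node 1 (.leaf (nat_lit 0x64)) (.leaf (nat_lit 0x4e))) (.node 1 (.leaf (nat_lit 0x7c)) (.leaf (nat_lit 0x50))))) (.node 4 (.node 2 (.node 1 (.leaf (nat_lit 0x68)) (.leaf (nat_lit 0x53))) (.node 1 (.leaf (nat_lit 0x55)) (.leaf (nat_lit 0x7e)))) (.node 2 (.node 1 (.leaf (nat_lit 0x57)) (.leaf (nat_lit 0x81))) (.node 1 (.leaf (nat_lit 0x59)) (.leaf (nat_lit 0x85)))))) (.node 8 (.node 4 (.node 2 (.node 1 (.leaf (nat_lit 0x87)) (.leaf (nat_lit 0x88))) (.node 1 (.leaf (nat_lit 0x5b)) (.leaf (nat_lit 0x5c)))) (.node 2 (.node 1 (.leaf (nat_lit 0x74)) (.leaf (nat_lit 0x8c))) (.node 1 (.leaf (nat_lit 0x5f)) (.leaf (nat_lit 0x8e))))) (.node 4 (.node 2 (.node 1 (.leaf (nat_lit 0x60))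 (.leaf (nat_lit 0x79))) (.node 1 (.leaf (nat_lit 0x62)) (.leaf (nat_lit 0x7b)))) (.node 2 (.node 1 (.leaf (nat_lit 0x66)) (.leaf (nat_lit 0x7d))) (.node 1 (.leaf (nat_lit 0x6b)) (.leaf (nat_lit 0x96)))))))))

noncomputable def M2g8x1 : Tree :=
  (.node 63 (.node 31 (.node 15 (.node 7 (.node 3 (.node 1 (.leaf (nat_lit 0x97)) (.node 1 (.leaf (nat_lit 0x6d)) (.leaf (nat_lit 0x82)))) (.node 2 (.node 1 (.leaf (nat_lit 0x9b)) (.leaf (nat_lit 0x9c))) (.node 1 (.leaf (nat_lit 0x6f)) (.leaf (nat_lit 0x9e))))) (.node 4 (.node 2 (.node 1 (.leaf (nat_lit 0x70)) (.leaf (nat_lit 0x71))) (.node 1 (.leaf (nat_lit 0x89)) (.leaf (nat_lit 0x8a)))) (.node 2 (.node 1 (.leaf (nat_lit 0xa2)) (.leaf (nat_lit 0x75))) (.node 1 (.leaf (nat_lit 0x8d)) (.leaf (nat_lit 0x77)))))) (.node 8 (.node 4 (.node 2 (.node 1 (.leaf (nat_lit 0x8f)) (.leaf (nat_lit 0x90)))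 (.node 1 (.leaf (nat_lit 0x91)) (.leaf (nat_lit 0x92)))) (.node 2 (.node 1 (.leaf (nat_lit 0x93)) (.leaf (nat_lit 0xa8))) (.node 1 (.leaf (nat_lit 0xaa)) (.leaf (nat_lit 0x7f))))) (.node 4 (.node 2 (.node 1 (.leaf (nat_lit 0x80)) (.leaf (nat_lit 0x98))) (.node 1 (.leaf (nat_lit 0xb0)) (.leaf (nat_lit 0xb1)))) (.node 2 (.node 1 (.leaf (nat_lit 0x83)) (.leaf (nat_lit 0x84))) (.node 1 (.leaf (nat_lit 0x9d)) (.leaf (nat_lit 0x86))))))) (.node 16 (.node 8 (.node 4 (.node 2 (.node 1 (.leaf (nat_lit 0x9f)) (.leaf (nat_lit 0xa0))) (.node 1 (.leaf (nat_lit 0xa1)) (.leaf (nat_lit 0x8b)))) (.node 2 (.node 1 (.leaf (nat_lit 0xa3)) (.leaf (nat_lit 0xa4))) (.node 1 (.leaf (nat_lit 0xa5)) (.leaf (nat_lit 0xa6))))) (.node 4 (.node 2 (.node 1 (.leaf (nat_lit 0xbd)) (.leaf (nat_lit 0x94))) (.node 1 (.leaf (nat_lit 0xc0)) (.leaf (nat_lit 0x95))))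 (.node 2 (.node 1 (.leaf (nat_lit 0xab)) (.leaf (nat_lit 0xac))) (.node 1 (.leaf (nat_lit 0xad)) (.leaf (nat_lit 0xc6)))))) (.node 8 (.node 4 (.node 2 (.node 1 (.leaf (nat_lit 0xc7)) (.leaf (nat_lit 0x99))) (.node 1 (.leaf (nat_lit 0x9a)) (.leaf (nat_lit 0xb2)))) (.node 2 (.node 1 (.leaf (nat_lit 0xb3)) (.leaf (nat_lit 0xb4))) (.node 1 (.leaf (nat_lit 0xb5)) (.leaf (nat_lit 0xb6))))) (.node 4 (.node 2 (.node 1 (.leaf (nat_lit 0xb7)) (.leaf (nat_lit 0xb8))) (.node 1 (.leaf (nat_lit 0xb9)) (.leaf (nat_lit 0xba)))) (.node 2 (.node 1 (.leaf (nat_lit 0xbb)) (.leaf (nat_lit 0xd4))) (.node 1 (.leaf (nat_lit 0xa7)) (.leaf (nat_lit 0xbe)))))))) (.node 32 (.node 16 (.node 8 (.node 4 (.node 2 (.node 1 (.leaf (nat_lit 0xd8)) (.leaf (nat_lit 0xa9))) (.node 1 (.leaf (nat_lit 0xc1)) (.leaf (nat_lit 0xc2)))) (.node 2 (.node 1 (.leaf (nat_lit 0xc3))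 (.leaf (nat_lit 0xc4))) (.node 1 (.leaf (nat_lit 0xde)) (.leaf (nat_lit 0xae))))) (.node 4 (.node 2 (.node 1 (.leaf (nat_lit 0xaf)) (.leaf (nat_lit 0xc8))) (.node 1 (.leaf (nat_lit 0xc9)) (.leaf (nat_lit 0xca)))) (.node 2 (.node 1 (.leaf (nat_lit 0xcb)) (.leaf (nat_lit 0xcc))) (.node 1 (.leaf (nat_lit 0xcd)) (.leaf (nat_lit 0xce)))))) (.node 8 (.node 4 (.node 2 (.node 1 (.leaf (nat_lit 0xcf)) (.leaf (nat_lit 0xd0))) (.node 1 (.leaf (nat_lit 0xd1)) (.leaf (nat_lit 0xe6)))) (.node 2 (.node 1 (.leaf (nat_lit 0xe8)) (.leaf (nat_lit 0xbc))) (.node 1 (.leaf (nat_lit 0xd5)) (.leaf (nat_lit 0xd6))))) (.node 4 (.node 2 (.node 1 (.leaf (nat_lit 0xd7)) (.leaf (nat_lit 0xbf))) (.node 1 (.leaf (nat_lit 0xd9)) (.leaf (nat_lit 0xda)))) (.node 2 (.node 1 (.leaf (nat_lit 0xdb)) (.leaf (nat_lit 0xdc))) (.node 1 (.leaf (nat_lit 0xdd)) (.leaf (nat_lit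 0xc5))))))) (.node 16 (.node 8 (.node 4 (.node 2 (.node 1 (.leaf (nat_lit 0xdf)) (.leaf (nat_lit 0xe0))) (.node 1 (.leaf (nat_lit 0xe1)) (.leaf (nat_lit 0xe2)))) (.node 2 (.node 1 (.leaf (nat_lit 0xe3)) (.leaf (nat_lit 0xe4))) (.node 1 (.leaf (nat_lit 0xef)) (.leaf (nat_lit 0xd2))))) (.node 4 (.node 2 (.node 1 (.leaf (nat_lit 0xe7)) (.leaf (nat_lit 0xd3))) (.node 1 (.leaf (nat_lit 0xe9)) (.leaf (nat_lit 0xea)))) (.node 2 (.node 1 (.leaf (nat_lit 0xeb)) (.leaf (nat_lit 0xec))) (.node 1 (.leaf (nat_lit 0xf5)) (.leaf (nat_lit 0xee)))))) (.node 8 (.node 4 (.node 2 (.node 1 (.leaf (nat_lit 0xe5)) (.leaf (nat_lit 0xf0))) (.node 1 (.leaf (nat_lit 0xf1)) (.leaf (nat_lit 0xf2)))) (.node 2 (.node 1 (.leaf (nat_lit 0xf3)) (.leaf (nat_lit 0xf8))) (.node 1 (.leaf (nat_lit 0xed)) (.leaf (nat_lit 0xf6))))) (.node 4 (.node 2 (.node 1 (.leaf (nat_lit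 0xf7)) (.leaf (nat_lit 0xf4))) (.node 1 (.leaf (nat_lit 0xf9)) (.leaf (nat_lit 0xfa)))) (.node 2 (.node 1 (.leaf (nat_lit 0xfb)) (.leaf (nat_lit 0xfc))) (.node 1 (.leaf (nat_lit 0xfd)) (.leaf (nat_lit 0xfe)))))))))

noncomputable def M2g8x : Tree :=
  (.node 128 M2g8x0 M2g8x1)

noncomputable def M2g11x0 : Tree :=
  (.node 64 (.node 32 (.node 16 (.node 8 (.node 4 (.node 2 (.node 1 (.leaf (nat_lit 0)) (.leaf (nat_lit 1))) (.node 1 (.leaf (nat_lit 2)) (.leaf (nat_lit 3)))) (.node 2 (.node 1 (.leaf (nat_lit 4)) (.leaf (nat_lit 5))) (.node 1 (.leaf (nat_lit 0xa)) (.leaf (nat_lit 7))))) (.node 4 (.node 2 (.node 1 (.leaf (nat_lit 8)) (.leaf (nat_lit 0xe))) (.node 1 (.leaf (nat_lit 6)) (.leaf (nat_lit 0x10)))) (.node 2 (.node 1 (.leaf (nat_lit 0xc)) (.leaf (nat_lit 0x13))) (.node 1 (.leaf (nat_lit 9)) (.leaf (nat_lit 0x17)))))) (.node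 8 (.node 4 (.node 2 (.node 1 (.leaf (nat_lit 0xb)) (.leaf (nat_lit 0x19))) (.node 1 (.leaf (nat_lit 0x12)) (.leaf (nat_lit 0xd)))) (.node 2 (.node 1 (.leaf (nat_lit 0x1c)) (.leaf (nat_lit 0x1d))) (.node 1 (.leaf (nat_lit 0x16)) (.leaf (nat_lit 0xf))))) (.node 4 (.node 2 (.node 1 (.leaf (nat_lit 0x22)) (.leaf (nat_lit 0x11))) (.node 1 (.leaf (nat_lit 0x24)) (.leaf (nat_lit 0x1b)))) (.node 2 (.node 1 (.leaf (nat_lit 0x14)) (.leaf (nat_lit 0x15))) (.node 1 (.leaf (nat_lit 0x2a)) (.leaf (nat_lit 0x2b))))))) (.node 16 (.node 8 (.node 4 (.node 2 (.node 1 (.leaf (nat_lit 0x20)) (.leaf (nat_lit 0x21))) (.node 1 (.leaf (nat_lit 0x18)) (.leaf (nat_lit 0x31)))) (.node 2 (.node 1 (.leaf (nat_lit 0x1a)) (.leaf (nat_lit 0x33))) (.node 1 (.leaf (nat_lit 0x26)) (.leaf (nat_lit 0x27))))) (.node 4 (.node 2 (.node 1 (.leaf (nat_lit 0x28)) (.leaf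 (nat_lit 0x29))) (.node 1 (.leaf (nat_lit 0x1e)) (.leaf (nat_lit 0x1f)))) (.node 2 (.node 1 (.leaf (nat_lit 0x3c)) (.leaf (nat_lit 0x3d))) (.node 1 (.leaf (nat_lit 0x2e)) (.leaf (nat_lit 0x2f)))))) (.node 8 (.node 4 (.node 2 (.node 1 (.leaf (nat_lit 0x30)) (.leaf (nat_lit 0x23))) (.node 1 (.leaf (nat_lit 0x44)) (.leaf (nat_lit 0x25)))) (.node 2 (.node 1 (.leaf (nat_lit 0x34)) (.leaf (nat_lit 0x35))) (.node 1 (.leaf (nat_lit 0x36)) (.leaf (nat_lit 0x37))))) (.node 4 (.node 2 (.node 1 (.leaf (nat_lit 0x38)) (.leaf (nat_lit 0x39))) (.node 1 (.leaf (nat_lit 0x3a)) (.leaf (nat_lit 0x3b)))) (.node 2 (.node 1 (.leaf (nat_lit 0x2c)) (.leaf (nat_lit 0x2d))) (.node 1 (.leaf (nat_lit 0x55)) (.leaf (nat_lit 0x56)))))))) (.node 32 (.node 16 (.node 8 (.node 4 (.node 2 (.node 1 (.leaf (nat_lit 0x40)) (.leaf (nat_lit 0x41))) (.node 1 (.leaf (nat_lit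 0x42)) (.leaf (nat_lit 0x43)))) (.node 2 (.node 1 (.leaf (nat_lit 0x32)) (.leaf (nat_lit 0x45))) (.node 1 (.leaf (nat_lit 0x46)) (.leaf (nat_lit 0x47))))) (.node 4 (.node 2 (.node 1 (.leaf (nat_lit 0x48)) (.leaf (nat_lit 0x49))) (.node 1 (.leaf (nat_lit 0x4a)) (.leaf (nat_lit 0x5f)))) (.node 2 (.node 1 (.leaf (nat_lit 0x4c)) (.leaf (nat_lit 0x4d))) (.node 1 (.leaf (nat_lit 0x4e)) (.leaf (nat_lit 0x4f)))))) (.node 8 (.node 4 (.node 2 (.node 1 (.leaf (nat_lit 0x50)) (.leaf (nat_lit 0x51))) (.node 1 (.leaf (nat_lit 0x52)) (.leaf (nat_lit 0x53)))) (.node 2 (.node 1 (.leaf (nat_lit 0x54)) (.leaf (nat_lit 0x3e))) (.node 1 (.leaf (nat_lit 0x3f)) (.leaf (nat_lit 0x57))))) (.node 4 (.node 2 (.node 1 (.leaf (nat_lit 0x6a)) (.leaf (nat_lit 0x59))) (.node 1 (.leaf (nat_lit 0x5a)) (.leaf (nat_lit 0x70)))) (.node 2 (.node 1 (.leaf (nat_lit 0x5c))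 (.leaf (nat_lit 0x5d))) (.node 1 (.leaf (nat_lit 0x5e)) (.leaf (nat_lit 0x4b))))))) (.node 16 (.node 8 (.node 4 (.node 2 (.node 1 (.leaf (nat_lit 0x75)) (.leaf (nat_lit 0x76))) (.node 1 (.leaf (nat_lit 0x62)) (.leaf (nat_lit 0x63)))) (.node 2 (.node 1 (.leaf (nat_lit 0x64)) (.leaf (nat_lit 0x65))) (.node 1 (.leaf (nat_lit 0x66)) (.leaf (nat_lit 0x67))))) (.node 4 (.node 2 (.node 1 (.leaf (nat_lit 0x68)) (.leaf (nat_lit 0x69))) (.node 1 (.leaf (nat_lit 0x58)) (.leaf (nat_lit 0x6b)))) (.node 2 (.node 1 (.leaf (nat_lit 0x6c)) (.leaf (nat_lit 0x80))) (.node 1 (.leaf (nat_lit 0x6e)) (.leaf (nat_lit 0x83)))))) (.node 8 (.node 4 (.node 2 (.node 1 (.leaf (nat_lit 0x5b)) (.leaf (nat_lit 0x86))) (.node 1 (.leaf (nat_lit 0x87)) (.leaf (nat_lit 0x73)))) (.node 2 (.node 1 (.leaf (nat_lit 0x74)) (.leaf (nat_lit 0x60))) (.node 1 (.leaf (nat_lit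 0x61)) (.leaf (nat_lit 0x8b))))) (.node 4 (.node 2 (.node 1 (.leaf (nat_lit 0x8c)) (.leaf (nat_lit 0x8d))) (.node 1 (.leaf (nat_lit 0x7a)) (.leaf (nat_lit 0x7b)))) (.node 2 (.node 1 (.leaf (nat_lit 0x7c)) (.leaf (nat_lit 0x7d))) (.node 1 (.leaf (nat_lit 0x7e)) (.leaf (nat_lit 0x95)))))))))

noncomputable def M2g11x1 : Tree :=
  (.node 63 (.node 31 (.node 15 (.node 7 (.node 3 (.node 1 (.leaf (nat_lit 0x6d)) (.node 1 (.leaf (nat_lit 0x97)) (.leaf (nat_lit 0x82)))) (.node 2 (.node 1 (.leaf (nat_lit 0x6f)) (.leaf (nat_lit 0x9a))) (.node 1 (.leaf (nat_lit 0x9b)) (.leaf (nat_lit 0x71))))) (.node 4 (.node 2 (.node 1 (.leaf (nat_lit 0x72)) (.leaf (nat_lit 0x9e))) (.node 1 (.leaf (nat_lit 0x9f)) (.leaf (nat_lit 0x8a)))) (.node 2 (.node 1 (.leaf (nat_lit 0x77)) (.leaf (nat_lit 0x78))) (.node 1 (.leaf (nat_lit 0x79)) (.leaf (nat_lit 0xa2))))))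 (.node 8 (.node 4 (.node 2 (.node 1 (.leaf (nat_lit 0xa3)) (.leaf (nat_lit 0xa4))) (.node 1 (.leaf (nat_lit 0x91)) (.leaf (nat_lit 0x92)))) (.node 2 (.node 1 (.leaf (nat_lit 0x93)) (.leaf (nat_lit 0xa7))) (.node 1 (.leaf (nat_lit 0x7f)) (.leaf (nat_lit 0xaa))))) (.node 4 (.node 2 (.node 1 (.leaf (nat_lit 0x81)) (.leaf (nat_lit 0xac))) (.node 1 (.leaf (nat_lit 0x99)) (.leaf (nat_lit 0x84)))) (.node 2 (.node 1 (.leaf (nat_lit 0x85)) (.leaf (nat_lit 0xb1))) (.node 1 (.leaf (nat_lit 0xb2)) (.leaf (nat_lit 0x88))))))) (.node 16 (.node 8 (.node 4 (.node 2 (.node 1 (.leaf (nat_lit 0x89)) (.leaf (nat_lit 0xb5))) (.node 1 (.leaf (nat_lit 0xb6)) (.leaf (nat_lit 0x8e)))) (.node 2 (.node 1 (.leaf (nat_lit 0x8f)) (.leaf (nat_lit 0x90))) (.node 1 (.leaf (nat_lit 0xb8)) (.leaf (nat_lit 0xb9))))) (.node 4 (.node 2 (.node 1 (.leaf (nat_lit 0x94))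 (.leaf (nat_lit 0xbd))) (.node 1 (.leaf (nat_lit 0xa9)) (.leaf (nat_lit 0x96)))) (.node 2 (.node 1 (.leaf (nat_lit 0xc1)) (.leaf (nat_lit 0x98))) (.node 1 (.leaf (nat_lit 0xc3)) (.leaf (nat_lit 0xae)))))) (.node 8 (.node 4 (.node 2 (.node 1 (.leaf (nat_lit 0xaf)) (.leaf (nat_lit 0xb0))) (.node 1 (.leaf (nat_lit 0x9c)) (.leaf (nat_lit 0x9d)))) (.node 2 (.node 1 (.leaf (nat_lit 0xc9)) (.leaf (nat_lit 0xca))) (.node 1 (.leaf (nat_lit 0xa0)) (.leaf (nat_lit 0xa1))))) (.node 4 (.node 2 (.node 1 (.leaf (nat_lit 0xcd)) (.leaf (nat_lit 0xa5))) (.node 1 (.leaf (nat_lit 0xa6)) (.leaf (nat_lit 0xba)))) (.node 2 (.node 1 (.leaf (nat_lit 0xcf)) (.leaf (nat_lit 0xbc))) (.node 1 (.leaf (nat_lit 0xa8)) (.leaf (nat_lit 0xd5)))))))) (.node 32 (.node 16 (.node 8 (.node 4 (.node 2 (.node 1 (.leaf (nat_lit 0xbf)) (.leaf (nat_lit 0xc0))) (.node 1 (.leaf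 (nat_lit 0xab)) (.leaf (nat_lit 0xda)))) (.node 2 (.node 1 (.leaf (nat_lit 0xad)) (.leaf (nat_lit 0xc4))) (.node 1 (.leaf (nat_lit 0xc5)) (.leaf (nat_lit 0xc6))))) (.node 4 (.node 2 (.node 1 (.leaf (nat_lit 0xc7)) (.leaf (nat_lit 0xc8))) (.node 1 (.leaf (nat_lit 0xb3)) (.leaf (nat_lit 0xb4)))) (.node 2 (.node 1 (.leaf (nat_lit 0xe0)) (.leaf (nat_lit 0xcc))) (.node 1 (.leaf (nat_lit 0xb7)) (.leaf (nat_lit 0xce)))))) (.node 8 (.node 4 (.node 2 (.node 1 (.leaf (nat_lit 0xbb)) (.leaf (nat_lit 0xd0))) (.node 1 (.leaf (nat_lit 0xd1)) (.leaf (nat_lit 0xd2)))) (.node 2 (.node 1 (.leaf (nat_lit 0xd3)) (.leaf (nat_lit 0xd4))) (.node 1 (.leaf (nat_lit 0xbe)) (.leaf (nat_lit 0xea))))) (.node 4 (.node 2 (.node 1 (.leaf (nat_lit 0xd7)) (.leaf (nat_lit 0xd8))) (.node 1 (.leaf (nat_lit 0xd9)) (.leaf (nat_lit 0xc2)))) (.node 2 (.node 1 (.leaf (nat_lit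 0xdb)) (.leaf (nat_lit 0xdc))) (.node 1 (.leaf (nat_lit 0xdd)) (.leaf (nat_lit 0xde))))))) (.node 16 (.node 8 (.node 4 (.node 2 (.node 1 (.leaf (nat_lit 0xdf)) (.leaf (nat_lit 0xcb))) (.node 1 (.leaf (nat_lit 0xe1)) (.leaf (nat_lit 0xe2)))) (.node 2 (.node 1 (.leaf (nat_lit 0xe3)) (.leaf (nat_lit 0xe4))) (.node 1 (.leaf (nat_lit 0xe5)) (.leaf (nat_lit 0xe6))))) (.node 4 (.node 2 (.node 1 (.leaf (nat_lit 0xe7)) (.leaf (nat_lit 0xe8))) (.node 1 (.leaf (nat_lit 0xe9)) (.leaf (nat_lit 0xd6)))) (.node 2 (.node 1 (.leaf (nat_lit 0xeb)) (.leaf (nat_lit 0xec))) (.node 1 (.leaf (nat_lit 0xf4)) (.leaf (nat_lit 0xee)))))) (.node 8 (.node 4 (.node 2 (.node 1 (.leaf (nat_lit 0xef)) (.leaf (nat_lit 0xf0))) (.node 1 (.leaf (nat_lit 0xf1)) (.leaf (nat_lit 0xf2)))) (.node 2 (.node 1 (.leaf (nat_lit 0xf7)) (.leaf (nat_lit 0xed))) (.node 1 (.leaf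 (nat_lit 0xf8)) (.leaf (nat_lit 0xf9))))) (.node 4 (.node 2 (.node 1 (.leaf (nat_lit 0xf3)) (.leaf (nat_lit 0xf5))) (.node 1 (.leaf (nat_lit 0xf6)) (.leaf (nat_lit 0xfa)))) (.node 2 (.node 1 (.leaf (nat_lit 0xfb)) (.leaf (nat_lit 0xfc))) (.node 1 (.leaf (nat_lit 0xfd)) (.leaf (nat_lit 0xfe)))))))))

noncomputable def M2g11x : Tree :=
  (.node 128 M2g11x0 M2g11x1)

def m2 : Model := ⟨255, [M2g0x, M2g1x, M2g2x, M2g3x, M2g4x, M2id, M2g6x, M2g7x, M2g8x, M2id, M2id, M2g11x, M2id, M2id, M2id, M2id]⟩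

theorem m2_ok : modelOK m2 m2.n = true := by decide +kernel

end Cfsg.Agent.Spider.Models
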